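import Cfsg.Agent.PermParts.Basic

/-!
# Multifamilies from an internal product decomposition

If `fam 𝒜 S` contains independent subgroups `P i`, normalised by `fam 𝒜 S`, whose union is strongly closed in `S`, then
the union of the conjugates of the `P i` is a multifamily.
-/

set_option autoImplicit false

namespace Cfsg.Agent.PermParts.OfProd

open Subgroup
open Cfsg.Agent.TwoFusion.ClosedFam
open Cfsg.Agent.PermParts.Basic

variable {G : Type*} [Group G] {ι : Type*}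

/-- the union of the conjugates of the `P i` -/
def unionConj (P : ι → Subgroup G) : Set G := {x | ∃ (g : G) (i : ι), g * x * g⁻¹ ∈ P i}

theorem mem_unionConj {P : ι → Subgroup G} {i : ι} {x : G} (hx : x ∈ P i) : x ∈ unionConj P :=
  ⟨1, i, by simpa using hx⟩

/-- the data of an internal decomposition -/
structure Data (𝒜 : Set G) (S : Sylow 2 G) (P : ι → Subgroup G) : Prop where
  fam : IsClosedFam 𝒜
  le : ∀ i, ∀ x ∈ P i, x ∈ 𝒜 ∧ x ∈ (S : Subgroup G)
  norm : ∀ i, ∀ x ∈ P i, ∀ q ∈ (S : Subgroup G), q ∈ 𝒜 → q * x * q⁻¹ ∈ P i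
  indep : ∀ i, ∀ x ∈ P i, x ∈ (⨆ j : {j // j ≠ i}, P j : Subgroup G) → x = 1
  closed : ∀ i, ∀ x ∈ P i, ∀ g : G, g * x * g⁻¹ ∈ (S : Subgroup G) → ∃ j, g * x * g⁻¹ ∈ P j

namespace Data

variable {𝒜 : Set G} {S : Sylow 2 G} {P : ι → Subgroup G} (h : Data 𝒜 S P)
include h

theorem disj {i j : ι} (hij : i ≠ j) {x : G} (hx : x ∈ P i) (hy : x ∈ P j) : x = 1 :=
  h.indep i x hx (mem_iSup_of_mem (⟨j, hij.symm⟩ : {j // j ≠ i}) hy)

theorem mem_of_mem {x : G} (hx : x ∈ unionConj P) (hxS : x ∈ (S : Subgroup G)) : ∃ i, x ∈ P i := by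
  obtain ⟨g, i, hg⟩ := hx
  have := h.closed i _ hg g⁻¹ (by
    have e : g⁻¹ * (g * x * g⁻¹) * g⁻¹⁻¹ = x := by group
    rw [e]; exact hxS)
  have e : g⁻¹ * (g * x * g⁻¹) * g⁻¹⁻¹ = x := by group
  rwa [e] at this

/-- two elements of different factors have a product outside -/
theorem notMem_of_ne {i j : ι} (hij : i ≠ j) {x y : G} (hx : x ∈ P i) (hy : y ∈ P j) (hx1 : x ≠ 1) (hy1 : y ≠ 1) :
    x * y ∉ unionConj P := by
  intro hxy
  obtain ⟨k, hk⟩ := h.mem_of_mem hxy (mul_mem (h.le i x hx).2 (h.le j y hy).2)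
  by_cases hki : k = i
  · subst hki
    refine hy1 (h.disj hij.symm hy ?_)
    have : y = x⁻¹ * (x * y) := by group
    rw [this]; exact mul_mem (inv_mem hx) hk
  · refine hx1 (h.indep i x hx ?_)
    have e : x = (x * y) * y⁻¹ := by group
    rw [e]
    exact mul_mem (mem_iSup_of_mem (⟨k, hki⟩ : {j // j ≠ i}) hk)
      (inv_mem (mem_iSup_of_mem (⟨j, hij.symm⟩ : {j // j ≠ i}) hy))

theorem exists_conj_sylow [Finite G] {Q : Subgroup G} (hQ : IsPGroup 2 Q) :
    ∃ c : G, ∀ x ∈ Q, c * x * c⁻¹ ∈ (S : Subgroup G) := by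
  haveI : Fact (Nat.Prime 2) := ⟨Nat.prime_two⟩
  obtain ⟨T, hT⟩ := hQ.exists_le_sylow
  obtain ⟨c, hc⟩ := MulAction.exists_smul_eq G T S
  refine ⟨c, fun x hx => ?_⟩
  rw [← hc]
  exact ⟨x, hT hx, rfl⟩

omit h in
theorem conj_mem_unionConj {x : G} (hx : x ∈ unionConj P) (k : G) : k * x * k⁻¹ ∈ unionConj P := by
  obtain ⟨g, i, hg⟩ := hx
  refine ⟨g * k⁻¹, i, ?_⟩
  have e : g * k⁻¹ * (k * x * k⁻¹) * (g * k⁻¹)⁻¹ = g * x * g⁻¹ := by group
  rw [e]; exact hg

omit h in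
theorem conj_mem_unionConj_iff {x : G} (k : G) : k * x * k⁻¹ ∈ unionConj P ↔ x ∈ unionConj P := by
  refine ⟨fun hx => ?_, fun hx => conj_mem_unionConj hx k⟩
  have := conj_mem_unionConj hx k⁻¹
  have e : k⁻¹ * (k * x * k⁻¹) * k⁻¹⁻¹ = x := by group
  rwa [e] at this

theorem multi [Finite G] [Nonempty ι] : Multi 𝒜 (unionConj P) where
  fam := h.fam
  sub := by
    rintro x ⟨g, i, hg⟩
    exact (h.fam.conj_mem_iff g).1 (h.le i _ hg).1
  one_mem := mem_unionConj (i := Classical.arbitrary ι) (one_mem _)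
  conj_mem := fun x hx g => conj_mem_unionConj hx g
  inv_mem := by
    rintro x ⟨g, i, hg⟩
    refine ⟨g, i, ?_⟩
    have e : g * x⁻¹ * g⁻¹ = (g * x * g⁻¹)⁻¹ := by group
    rw [e]; exact inv_mem hg
  trans := by
    intro Q hQ x hx y hy z hz hxX hyX hzX hy1 hxy hyz
    obtain ⟨c, hc⟩ := h.exists_conj_sylow hQ
    obtain ⟨i, hi⟩ := h.mem_of_mem (conj_mem_unionConj hxX c) (hc x hx)
    obtain ⟨j, hj⟩ := h.mem_of_mem (conj_mem_unionConj hyX c) (hc y hy)
    obtain ⟨k, hk⟩ := h.mem_of_mem (conj_mem_unionConj hzX c) (hc z hz)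
    have hy1' : c * y * c⁻¹ ≠ 1 := by
      intro e1
      apply hy1
      have : y = c⁻¹ * (c * y * c⁻¹) * c := by group
      rw [this, e1]; group
    have e1 : c * x * c⁻¹ * (c * y * c⁻¹) = c * (x * y) * c⁻¹ := by group
    have e2 : c * y * c⁻¹ * (c * z * c⁻¹) = c * (y * z) * c⁻¹ := by group
    have e3 : c * x * c⁻¹ * (c * z * c⁻¹) = c * (x * z) * c⁻¹ := by group
    rw [← conj_mem_unionConj_iff c, ← e3]
    by_cases hx1 : c * x * c⁻¹ = 1
    · rw [hx1, one_mul]; exact conj_mem_unionConj hzX c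
    by_cases hz1 : c * z * c⁻¹ = 1
    · rw [hz1, mul_one]; exact conj_mem_unionConj hxX c
    have hij : i = j := by
      by_contra hij
      refine h.notMem_of_ne hij hi hj hx1 hy1' ?_
      rw [e1]; exact conj_mem_unionConj hxy c
    have hjk : j = k := by
      by_contra hjk
      refine h.notMem_of_ne hjk hj hk hy1' hz1 ?_
      rw [e2]; exact conj_mem_unionConj hyz c
    subst hij
    subst hjk
    exact mem_unionConj (mul_mem hi hk)
  normal := by
    intro Q hQ x hx q hq hq𝒜 hxX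
    obtain ⟨c, hc⟩ := h.exists_conj_sylow hQ
    obtain ⟨i, hi⟩ := h.mem_of_mem (conj_mem_unionConj hxX c) (hc x hx)
    rw [← conj_mem_unionConj_iff c]
    have e1 : c * (x * (q * x * q⁻¹)) * c⁻¹ =
        c * x * c⁻¹ * ((c * q * c⁻¹) * (c * x * c⁻¹) * (c * q * c⁻¹)⁻¹) := by group
    rw [e1]
    exact mem_unionConj (mul_mem hi (h.norm i _ hi _ (hc q hq) (h.fam.conj_mem q hq𝒜 c)))
  indep := by
    intro Q hQ a ha haX ha1 x hx hxX hxa hxc
    obtain ⟨c, hc⟩ := h.exists_conj_sylow hQ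
    obtain ⟨i, hi⟩ := h.mem_of_mem (conj_mem_unionConj haX c) (hc a ha)
    have hne : ∀ y : G, c * y * c⁻¹ = 1 → y = 1 := by
      intro y e1
      have : y = c⁻¹ * (c * y * c⁻¹) * c := by group
      rw [this, e1]; group
    by_contra hx1
    have hxi : c * x * c⁻¹ ∈ P i := by
      obtain ⟨j, hj⟩ := h.mem_of_mem (conj_mem_unionConj hxX c) (hc x hx)
      by_cases hij : j = i
      · rw [← hij]; exact hj
      · exfalso
        refine h.notMem_of_ne hij hj hi (fun e => hx1 (hne x e)) (fun e => ha1 (hne a e)) ?_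
        have e1 : c * x * c⁻¹ * (c * a * c⁻¹) = c * (x * a) * c⁻¹ := by group
        rw [e1]; exact conj_mem_unionConj hxa c
    have hcl : closure {y : G | y ∈ Q ∧ y ∈ unionConj P ∧ y * a ∉ unionConj P} ≤
        (⨆ j : {j // j ≠ i}, P j : Subgroup G).comap (MulAut.conj c).toMonoidHom := by
      rw [closure_le]
      rintro y ⟨hyQ, hyX, hya⟩
      obtain ⟨j, hj⟩ := h.mem_of_mem (conj_mem_unionConj hyX c) (hc y hyQ)
      have hji : j ≠ i := by
        rintro rfl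
        apply hya
        rw [← conj_mem_unionConj_iff c]
        have e1 : c * (y * a) * c⁻¹ = c * y * c⁻¹ * (c * a * c⁻¹) := by group
        rw [e1]
        exact mem_unionConj (mul_mem hj hi)
      exact mem_iSup_of_mem (⟨j, hji⟩ : {j // j ≠ i}) hj
    exact hx1 (hne x (h.indep i _ hxi (hcl hxc)))

theorem rich [Finite G] (hr : ∀ i, ∀ x ∈ P i, orderOf x = 2 → ∃ y ∈ P i, orderOf y = 2 ∧ y ≠ x ∧ x * y = y * x) :
    Rich (unionConj P) := by
  rintro x ⟨g, i, hg⟩ hx2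
  have horder : ∀ y : G, orderOf (g * y * g⁻¹) = orderOf y := fun y => by
    have := orderOf_injective (MulAut.conj g).toMonoidHom (MulAut.conj g).injective y
    simpa using this
  obtain ⟨y, hy, hy2, hyx, hxy⟩ := hr i _ hg (by rw [horder]; exact hx2)
  have e0 : g * (g⁻¹ * y * g) * g⁻¹ = y := by group
  refine ⟨g⁻¹ * y * g, ⟨g, i, by rw [e0]; exact hy⟩, ?_, ?_, ?_, ?_⟩
  · rw [← horder, e0]; exact hy2
  · rintro rfl
    exact hyx e0.symm
  · have h1 : x = g⁻¹ * (g * x * g⁻¹) * g := by group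
    calc x * (g⁻¹ * y * g) = g⁻¹ * ((g * x * g⁻¹) * y) * g := by group
      _ = g⁻¹ * (y * (g * x * g⁻¹)) * g := by rw [hxy]
      _ = g⁻¹ * y * g * x := by group
  · refine ⟨g, i, ?_⟩
    have e1 : g * (x * (g⁻¹ * y * g)) * g⁻¹ = g * x * g⁻¹ * y := by group
    rw [e1]
    exact mul_mem hg hy

end Data

end Cfsg.Agent.PermParts.OfProd
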