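import Cfsg.Agent.PermParts.Main
import Cfsg.Agent.PermParts.OfProd

/-!
# The permuted product theorem for an internal decomposition

Let `S` be a Sylow 2-subgroup of `G`, `P i` independent subgroups of `fam 𝒜 S`, normalised by `fam 𝒜 S`, whose union is
strongly closed in `S`, and suppose that every involution of `P i` lies in a four-subgroup of `P i`.
* `eq_of_data`: if `G` is simple, at most one `P i` is non-trivial;
* `commutator_mem_of_data`: for `x ∈ P i`, `y ∈ P j`, `i ≠ j` and `g ∈ ⟨𝒜⟩` we have `[x^g, y] ∈ O(G)`.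
-/

set_option autoImplicit false

namespace Cfsg.Agent.PermParts.Consumer

open Subgroup
open Cfsg.Agent.TwoFusion.ClosedFam
open Cfsg.Agent.PermParts.Basic Cfsg.Agent.PermParts.OfProd

universe u v

variable {G : Type u} [Group G] [Finite G] {ι : Type v} {𝒜 : Set G} {S : Sylow 2 G} {P : ι → Subgroup G}

theorem orth_of_data (h : Data 𝒜 S P) {i j : ι} (hij : i ≠ j) {x y : G} (hx : x ∈ P i) (hy : y ∈ P j) (hx1 : x ≠ 1)
    (hy1 : y ≠ 1) : Orth (unionConj P) x y := by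
  haveI : Nonempty ι := ⟨i⟩
  exact h.multi.orth_of_notMem S.2 (h.le i _ hx).2 (h.le j _ hy).2
    (mem_unionConj hx) (mem_unionConj hy) (h.notMem_of_ne hij hx hy hx1 hy1)

/-- `[x^g, y] ∈ O(G)` for `x`, `y` in different factors and `g ∈ ⟨𝒜⟩` -/
theorem commutator_mem_of_data (h : Data 𝒜 S P)
    (hr : ∀ i, ∀ x ∈ P i, orderOf x = 2 → ∃ y ∈ P i, orderOf y = 2 ∧ y ≠ x ∧ x * y = y * x)
    {i j : ι} (hij : i ≠ j) {x y g : G} (hx : x ∈ P i) (hy : y ∈ P j) (hg : g ∈ fam 𝒜 (⊤ : Subgroup G)) :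
    g * x * g⁻¹ * y * (g * x * g⁻¹)⁻¹ * y⁻¹ ∈ Cfsg.oddCore G := by
  haveI : Nonempty ι := ⟨i⟩
  by_cases hx1 : x = 1
  · subst hx1
    have : g * 1 * g⁻¹ * y * (g * 1 * g⁻¹)⁻¹ * y⁻¹ = 1 := by group
    rw [this]; exact one_mem _
  by_cases hy1 : y = 1
  · subst hy1
    have : g * x * g⁻¹ * 1 * (g * x * g⁻¹)⁻¹ * 1⁻¹ = 1 := by group
    rw [this]; exact one_mem _
  exact Main.commutator_mem h.multi (h.rich hr) (orth_of_data h hij hx hy hx1 hy1) hg

/-- In a simple group at most one factor is non-trivial. -/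
theorem eq_of_data [IsSimpleGroup G] (h : Data 𝒜 S P)
    (hr : ∀ i, ∀ x ∈ P i, orderOf x = 2 → ∃ y ∈ P i, orderOf y = 2 ∧ y ≠ x ∧ x * y = y * x)
    {i j : ι} (hi : P i ≠ ⊥) (hj : P j ≠ ⊥) : i = j := by
  haveI : Nonempty ι := ⟨i⟩
  by_contra hij
  have hex : ∀ k, P k ≠ ⊥ → ∃ x ∈ P k, x ≠ 1 := fun k hk => by
    obtain ⟨⟨a, ha⟩, ha1⟩ := ne_bot_iff_exists_ne_one.1 hk
    exact ⟨a, ha, fun e => ha1 (Subtype.ext e)⟩
  obtain ⟨x, hx, hx1⟩ := hex i hi
  obtain ⟨y, hy, hy1⟩ := hex j hj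
  exact Main.not_orth h.multi (h.rich hr) (orth_of_data h hij hx hy hx1 hy1)

end Cfsg.Agent.PermParts.Consumer
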