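import Cfsg.Agent.PermParts.LocalSep
import Cfsg.Agent.TwoFusion.ClosedFunctor
import Cfsg.Agent.Lib.PComponents

/-!
# Core separation of orthogonal four-groups

`isCoreSeparated` (CS): orthogonal four-groups `E, F ⊆ X` are core-separated, given the separation `SepAt` at the
involutions of `E` and `F`.
-/

set_option autoImplicit false
set_option linter.style.haveILetI false

namespace Cfsg.Agent.PermParts.CoreSep

open Subgroup
open scoped commutatorElement
open Cfsg.Agent.TwoFusion.ClosedFam Cfsg.Agent.TwoFusion.ClosedSimple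
open Cfsg.Agent.PermParts.Basic Cfsg.Agent.PermParts.LocalSep
open Cfsg.Agent.TwoFusion.ClosedFour (Four)
open Cfsg.Agent.TwoFusion.ClosedLocal (mul_self inv_eq ne_one orderOf_eq_two orderOf_conj mem_cent odd_Oc
  Oc_comm conj_mem_Oc exists_conj_of_mul_inv_mem Oc_eq)
open Cfsg.Agent.SignalizersComponents.Components
open Cfsg.Agent.TwoFusion

/-- If `K₁` is normalised by `L` modulo the core, and `[K₁, K₂] ≤ O(Y)`, then a 2-component `L` commutes with `K₁` or
`K₂` modulo the core. -/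
theorem component_alternative {Y : Type*} [Group Y] [Finite Y] (K₁ K₂ L M : Subgroup Y)
    (hM : M ≤ normalizer (K₁ : Set Y)) (hLM : L ≤ Cfsg.pPrimeCore 2 Y ⊔ M)
    (hK : ⁅K₁, K₂⁆ ≤ Cfsg.pPrimeCore 2 Y) (hL : Cfsg.IsPComponent 2 L) :
    ⁅L, K₁⁆ ≤ Cfsg.pPrimeCore 2 Y ∨ ⁅L, K₂⁆ ≤ Cfsg.pPrimeCore 2 Y := by
  have hlift : ∀ H K : Subgroup Y, ⁅H.map (QuotientGroup.mk' (Cfsg.pPrimeCore 2 Y)),
      K.map (QuotientGroup.mk' (Cfsg.pPrimeCore 2 Y))⁆ = ⊥ ↔ ⁅H, K⁆ ≤ Cfsg.pPrimeCore 2 Y := by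
    intro H K
    rw [← Subgroup.map_commutator, Subgroup.map_eq_bot_iff, QuotientGroup.ker_mk']
  have hK1 : L.map (QuotientGroup.mk' (Cfsg.pPrimeCore 2 Y)) ≤
      normalizer ((K₁.map (QuotientGroup.mk' (Cfsg.pPrimeCore 2 Y)) : Subgroup _) : Set _) := by
    have h1 : L.map (QuotientGroup.mk' (Cfsg.pPrimeCore 2 Y)) ≤
        M.map (QuotientGroup.mk' (Cfsg.pPrimeCore 2 Y)) := by
      refine (map_mono hLM).trans ?_
      rw [Subgroup.map_sup, (Subgroup.map_eq_bot_iff _).2 (by rw [QuotientGroup.ker_mk']), bot_sup_eq]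
    refine h1.trans ((map_mono hM).trans ?_)
    exact le_normalizer_map _
  rcases component_le_or_commutator_eq_bot_of_le_normalizer hL.2.1 hK1 with hle | hbot
  · right
    rw [← hlift, eq_bot_iff]
    refine (commutator_mono hle le_rfl).trans ?_
    rw [(hlift K₁ K₂).2 hK]
  · left
    exact (hlift L K₁).1 hbot

variable {G : Type*} [Group G] {𝒜 X : Set G}

/-- Core alternative in a subgroup `C` of `G`. -/
theorem alternative [Finite G] (C : Subgroup G) (U V E F : Subgroup G) (hEU : E ≤ U) (hFV : F ≤ V) (hU : U ≤ C)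
    (hV : V ≤ C) (M : Subgroup G) (hMC : M ≤ C) (hMU : M ≤ normalizer (U : Set G))
    (hUV : ⁅U, V⁆ ≤ core C) (L : Subgroup C) (hL : Cfsg.IsPComponent 2 L)
    (hLM : L.map C.subtype ≤ core C ⊔ M) :
    ⁅L.map C.subtype, E⁆ ≤ core C ∨ ⁅L.map C.subtype, F⁆ ≤ core C := by
  have eU : (U.subgroupOf C).map C.subtype = U := by rw [subgroupOf_map_subtype, inf_eq_left.2 hU]
  have eV : (V.subgroupOf C).map C.subtype = V := by rw [subgroupOf_map_subtype, inf_eq_left.2 hV]
  have eM : (M.subgroupOf C).map C.subtype = M := by rw [subgroupOf_map_subtype, inf_eq_left.2 hMC]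
  have h1 : M.subgroupOf C ≤ normalizer ((U.subgroupOf C : Subgroup C) : Set C) := by
    intro m hm
    rw [mem_normalizer_iff]
    intro u
    exact mem_normalizer_iff.1 (hMU hm) u
  have h2 : L ≤ Cfsg.pPrimeCore 2 C ⊔ M.subgroupOf C := by
    rw [← map_le_map_iff_of_injective C.subtype_injective, Subgroup.map_sup, eM]
    exact hLM
  have h3 : ⁅U.subgroupOf C, V.subgroupOf C⁆ ≤ Cfsg.pPrimeCore 2 C := by
    rw [← map_le_map_iff_of_injective C.subtype_injective, Subgroup.map_commutator, eU, eV]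
    exact hUV
  rcases component_alternative _ _ L _ h1 h2 h3 hL with h | h
  · left
    rw [← map_le_map_iff_of_injective C.subtype_injective, Subgroup.map_commutator, eU] at h
    exact (commutator_mono le_rfl hEU).trans h
  · right
    rw [← map_le_map_iff_of_injective C.subtype_injective, Subgroup.map_commutator, eV] at h
    exact (commutator_mono le_rfl hFV).trans h

/-- a subgroup generated by elements commuting modulo the normal subgroup `N` of `C`. -/
theorem commutator_closure_le {C N : Subgroup G} (hN : C ≤ normalizer (N : Set G)) {S T : Set G}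
    (hS : S ⊆ C) (hT : T ⊆ C) (h : ∀ s ∈ S, ∀ t ∈ T, s * t * s⁻¹ * t⁻¹ ∈ N) :
    ⁅closure S, closure T⁆ ≤ N := by
  -- the elements of `C` commuting with a given element modulo `N`
  have key : ∀ (S : Set G) (t : G), S ⊆ C → t ∈ C → (∀ s ∈ S, s * t * s⁻¹ * t⁻¹ ∈ N) →
      ∀ s ∈ closure S, s * t * s⁻¹ * t⁻¹ ∈ N := by
    intro S t hS ht h s hs
    have hSC : closure S ≤ C := (closure_le _).2 hS
    refine closure_induction (p := fun s _ => s * t * s⁻¹ * t⁻¹ ∈ N) h ?_ ?_ ?_ hs
    · simp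
    · intro x y hx hy hxt hyt
      have e : x * y * t * (x * y)⁻¹ * t⁻¹ = x * (y * t * y⁻¹ * t⁻¹) * x⁻¹ * (x * t * x⁻¹ * t⁻¹) := by group
      rw [e]
      exact mul_mem ((mem_normalizer_iff.1 (hN (hSC hx)) _).1 hyt) hxt
    · intro x hx hxt
      have e : x⁻¹ * t * x⁻¹⁻¹ * t⁻¹ = x⁻¹ * (x * t * x⁻¹ * t⁻¹)⁻¹ * x⁻¹⁻¹ := by group
      rw [e]
      exact (mem_normalizer_iff.1 (hN (inv_mem (hSC hx))) _).1 (inv_mem hxt)
  rw [commutator_le]
  intro x hx y hy
  rw [commutatorElement_def]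
  have hSC : closure S ≤ C := (closure_le _).2 hS
  have h1 : ∀ t ∈ T, x * t * x⁻¹ * t⁻¹ ∈ N := fun t ht => key S t hS (hT ht) (fun s hs => h s hs t ht) x hx
  have h2 : ∀ t ∈ T, t * x * t⁻¹ * x⁻¹ ∈ N := by
    intro t ht
    have e : t * x * t⁻¹ * x⁻¹ = (x * t * x⁻¹ * t⁻¹)⁻¹ := by group
    rw [e]; exact inv_mem (h1 t ht)
  have h3 := key T x hT (hSC hx) h2 y hy
  have e : x * y * x⁻¹ * y⁻¹ = (y * x * y⁻¹ * x⁻¹)⁻¹ := by group
  rw [e]; exact inv_mem h3

/-- the elements of `X` commuting with `w` in the part of `w` -/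
def partGen (X : Set G) (w : G) : Set G := {u | u ∈ X ∧ u * w = w * u ∧ u ≠ 1 ∧ u * w ∈ X}

theorem conj_partGen (h : Multi 𝒜 X) {w g u : G} (hg : g * w = w * g) (hu : u ∈ partGen X w) :
    g * u * g⁻¹ ∈ partGen X w := by
  obtain ⟨hu, huw, hu1, huwX⟩ := hu
  have hgw : g * w * g⁻¹ = w := by rw [hg, mul_inv_cancel_right]
  have e1 : g * u * g⁻¹ * w = g * (u * w) * g⁻¹ := by
    conv_lhs => rw [← hgw]
    group
  refine ⟨h.conj_mem u hu g, ?_, fun e => hu1 (conj_eq_one_iff.1 e), ?_⟩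
  · rw [e1, huw]
    conv_rhs => rw [← hgw]
    group
  · rw [e1]; exact h.conj_mem _ huwX g

theorem odd_sup [Finite G] (D E : Subgroup G) (hD : Odd (Nat.card D)) (hE : Odd (Nat.card E))
    (hn : ∀ e ∈ E, ∀ d ∈ D, e * d * e⁻¹ ∈ D) : Odd (Nat.card (D ⊔ E : Subgroup G)) := by
  have hle : E ≤ normalizer (D : Set G) := fun e he =>
    Subgroup.mem_normalizer_fintype fun d hd => hn e he d hd
  set K := D ⊔ E with hK
  have hDK : D ≤ K := le_sup_left
  have hEK : E ≤ K := le_sup_right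
  have hKN : K ≤ normalizer (D : Set G) := sup_le le_normalizer hle
  have hN : (D.subgroupOf K).Normal := by
    refine ⟨fun d hd k => ?_⟩
    exact (Subgroup.mem_normalizer_iff.1 (hKN k.2) d).1 hd
  have h1 := Cfsg.Agent.Lib.Cores.card_sup_dvd (D.subgroupOf K) (E.subgroupOf K) hN
  have h2 : D.subgroupOf K ⊔ E.subgroupOf K = ⊤ := by
    rw [← Subgroup.subgroupOf_sup hDK hEK, hK, Subgroup.subgroupOf_self]
  rw [h2, Subgroup.card_top, Nat.card_congr (Subgroup.subgroupOfEquivOfLe hDK).toEquiv,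
    Nat.card_congr (Subgroup.subgroupOfEquivOfLe hEK).toEquiv] at h1
  exact (hD.mul hE).of_dvd_nat h1

/-- conjugation by an element moving `a` to `b` maps `Oc a` to `Oc b`. -/
theorem conj_mem_Oc_of_semiconj [Finite G] {a b g v : G} (hg : g * a = b * g) (hv : v ∈ Oc a) :
    g * v * g⁻¹ ∈ Oc b := by
  have hb : g * a * g⁻¹ = b := by rw [hg, mul_inv_cancel_right]
  -- the conjugate of `Oc a` is odd and normalised by `C(b)`
  have hle : (Oc a).map (MulAut.conj g).toMonoidHom ≤ core (centralizer ({b} : Set G)) := by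
    refine ClosedLocal.le_core ?_ ?_ ?_
    · rintro _ ⟨u, hu, rfl⟩
      have hu1 := Oc_comm hu
      rw [mem_cent]
      change g * u * g⁻¹ * b = b * (g * u * g⁻¹)
      rw [← hb]
      calc g * u * g⁻¹ * (g * a * g⁻¹) = g * (u * a) * g⁻¹ := by group
        _ = g * (a * u) * g⁻¹ := by rw [hu1]
        _ = g * a * g⁻¹ * (g * u * g⁻¹) := by group
    · rintro c hc _ ⟨u, hu, rfl⟩
      have hc1 : c * b = b * c := mem_cent.1 hc
      have hc2 : g⁻¹ * c * g * a = a * (g⁻¹ * c * g) := by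
        rw [← hb] at hc1
        calc g⁻¹ * c * g * a = g⁻¹ * (c * (g * a * g⁻¹)) * g := by group
          _ = g⁻¹ * (g * a * g⁻¹ * c) * g := by rw [hc1]
          _ = a * (g⁻¹ * c * g) := by group
      refine ⟨g⁻¹ * c * g * u * (g⁻¹ * c * g)⁻¹, conj_mem_Oc hc2 hu, ?_⟩
      change g * (g⁻¹ * c * g * u * (g⁻¹ * c * g)⁻¹) * g⁻¹ = c * (g * u * g⁻¹) * c⁻¹
      group
    · refine (odd_Oc a).of_dvd_nat (card_map_dvd _ _)
  exact hle ⟨v, hv, rfl⟩

/-- `O_x ∩ O_y ≤ O_{xy}` for orthogonal involutions. -/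
theorem Oc_inf_Oc_le [Finite G] (h : Multi 𝒜 X) {x y : G} (ox : orderOf x = 2) (oy : orderOf y = 2)
    (ho : Orth X x y) : Oc x ⊓ Oc y ≤ Oc (x * y) := by
  have hle : Oc (x * y) ⊔ Oc x ⊓ Oc y ≤ core (centralizer ({x * y} : Set G)) := by
    have hN : Oc x ⊓ Oc y ≤ centralizer ({x * y} : Set G) := by
      rintro u ⟨hux, huy⟩
      have h1 := Oc_comm hux
      have h2 := Oc_comm huy
      rw [mem_cent]
      calc u * (x * y) = u * x * y := by group
        _ = x * (u * y) := by rw [h1]; group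
        _ = x * y * u := by rw [h2]; group
    have hOn : ∀ g ∈ centralizer ({x * y} : Set G), ∀ k ∈ Oc (x * y), g * k * g⁻¹ ∈ Oc (x * y) :=
      fun g hg k hk => conj_mem_Oc (mem_cent.1 hg) hk
    refine ClosedLocal.le_core (sup_le (ClosedLocal.core_le _) hN) ?_ ?_
    · intro g hg k hk
      obtain ⟨v, hv, c, rfl, hcz, hc⟩ := exists_mul_pair h ox oy ho (mem_cent.1 hg)
      -- `c` normalises `N₀`
      have hcN : ∀ u ∈ Oc x ⊓ Oc y, c * u * c⁻¹ ∈ Oc x ⊓ Oc y := by
        rintro u ⟨hux, huy⟩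
        rcases hc with ⟨h1, h2⟩ | ⟨h1, h2⟩
        · exact ⟨conj_mem_Oc h1 hux, conj_mem_Oc h2 huy⟩
        · exact ⟨conj_mem_Oc_of_semiconj h2 huy, conj_mem_Oc_of_semiconj h1 hux⟩
      have hcK : (Oc (x * y) ⊔ Oc x ⊓ Oc y : Subgroup G) ≤
          (Oc (x * y) ⊔ Oc x ⊓ Oc y : Subgroup G).comap (MulAut.conj c).toMonoidHom := by
        refine sup_le ?_ ?_
        · intro u hu
          exact mem_sup_left (hOn c (mem_cent.2 hcz) u hu)
        · intro u hu
          exact mem_sup_right (hcN u hu)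
      have h1 : c * k * c⁻¹ ∈ (Oc (x * y) ⊔ Oc x ⊓ Oc y : Subgroup G) := hcK hk
      have h2 : v ∈ (Oc (x * y) ⊔ Oc x ⊓ Oc y : Subgroup G) := mem_sup_left hv
      have e : v * c * k * (v * c)⁻¹ = v * (c * k * c⁻¹) * v⁻¹ := by group
      rw [e]
      exact mul_mem (mul_mem h2 h1) (inv_mem h2)
    · exact odd_sup _ _ (odd_Oc _) ((odd_Oc x).of_dvd_nat (card_dvd_of_le inf_le_left))
        fun e he d hd => hOn e (hN he) d hd
  exact le_sup_right.trans hle

/-- commutators of elements of `C(xy)` lie in `O(C(xy)) C(x, y)`. -/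
theorem commutator_mem [Finite G] (h : Multi 𝒜 X) {x y : G} (ox : orderOf x = 2) (oy : orderOf y = 2)
    (ho : Orth X x y) {g k : G} (hg : g * (x * y) = x * y * g) (hk : k * (x * y) = x * y * k) :
    g * k * g⁻¹ * k⁻¹ ∈ Oc (x * y) ⊔ centralizer ({x} : Set G) ⊓ centralizer ({y} : Set G) := by
  obtain ⟨v, hv, c, rfl, hcz, hc⟩ := exists_mul_pair h ox oy ho hg
  obtain ⟨w, hw, d, rfl, hdz, hd⟩ := exists_mul_pair h ox oy ho hk
  have e : v * c * (w * d) * (v * c)⁻¹ * (w * d)⁻¹ =
      v * (c * w * c⁻¹) * (c * d * c⁻¹ * d⁻¹) * (d * v⁻¹ * d⁻¹) * w⁻¹ := by group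
  rw [e]
  have hm : c * d * c⁻¹ * d⁻¹ ∈ centralizer ({x} : Set G) ⊓ centralizer ({y} : Set G) := by
    rw [mem_inf, mem_cent, mem_cent]
    change SemiconjBy _ x x ∧ SemiconjBy _ y y
    have key : ∀ {a b p q : G}, SemiconjBy c q a → SemiconjBy d p q → SemiconjBy c p b → SemiconjBy d b a →
        SemiconjBy (c * d * c⁻¹ * d⁻¹) a a := fun h1 h2 h3 h4 =>
      ((h1.mul_left h2).mul_left h3.inv_symm_left).mul_left h4.inv_symm_left
    rcases hc with ⟨c1, c2⟩ | ⟨c1, c2⟩ <;> rcases hd with ⟨d1, d2⟩ | ⟨d1, d2⟩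
    · exact ⟨key c1 d1 c1 d1, key c2 d2 c2 d2⟩
    · exact ⟨key c1 d2 c2 d2, key c2 d1 c1 d1⟩
    · exact ⟨key c2 d2 c2 d1, key c1 d1 c1 d2⟩
    · exact ⟨key c2 d1 c1 d2, key c1 d2 c2 d1⟩
  exact mul_mem (mul_mem (mul_mem (mul_mem (mem_sup_left hv) (mem_sup_left (conj_mem_Oc hcz hw)))
    (mem_sup_right hm)) (mem_sup_left (conj_mem_Oc hdz (inv_mem hv)))) (mem_sup_left (inv_mem hw))

/-- **(CS)** -/
theorem isCoreSeparated [Finite G] (h : Multi 𝒜 X) (hsep : ∀ w ∈ X, orderOf w = 2 → ∃ r, SepAt 𝒜 X w r)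
    {E F : Subgroup G} (hE : Four X E) (hF : Four X F)
    (hEF : ∀ x ∈ E, ∀ y ∈ F, x ≠ 1 → y ≠ 1 → Orth X x y) : Cfsg.IsCoreSeparated E F := by
  classical
  have hcomm : ∀ x ∈ E, ∀ y ∈ F, x * y = y * x := by
    intro x hx y hy
    by_cases hx1 : x = 1
    · rw [hx1, one_mul, mul_one]
    by_cases hy1 : y = 1
    · rw [hy1, one_mul, mul_one]
    exact (hEF x hx y hy hx1 hy1).comm
  have hinf : E ⊓ F = ⊥ := by
    rw [eq_bot_iff]
    intro x hx
    rw [mem_bot]
    by_contra hx1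
    exact (hEF x hx.1 x hx.2 hx1 hx1).notMem (by rw [hE.sq x hx.1]; exact h.one_mem)
  refine ⟨hE.isElementaryAbelian, hF.isElementaryAbelian, hE.card, hF.card, ?_, hinf, hcomm, ?_⟩
  · intro e
    rw [e, inf_idem] at hinf
    have h1 := hF.card
    rw [hinf, card_bot] at h1
    omega
  intro a ha ha1 L hL
  change ⁅L.map (centralizer ({a} : Set G)).subtype, E⁆ ≤ Oc a ∨
    ⁅L.map (centralizer ({a} : Set G)).subtype, F⁆ ≤ Oc a
  obtain ⟨x, hx, y, hy, hxy⟩ := (Cfsg.Agent.TwoFusion.ClosedFunctor.mem_sup_of_comm hcomm).1 ha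
  -- one factor trivial
  have one : ∀ {E F : Subgroup G}, Four X E → Four X F → (∀ x ∈ E, ∀ y ∈ F, x ≠ 1 → y ≠ 1 → Orth X x y) →
      (∀ x ∈ E, ∀ y ∈ F, x * y = y * x) → ∀ x ∈ E, x ≠ 1 →
      ∀ L : Subgroup (centralizer ({x} : Set G)), Cfsg.IsPComponent 2 L →
      ⁅L.map (centralizer ({x} : Set G)).subtype, E⁆ ≤ Oc x ∨
        ⁅L.map (centralizer ({x} : Set G)).subtype, F⁆ ≤ Oc x := by
    intro E F hE hF hEF hcomm x hx hx1 L hL
    obtain ⟨r, hr⟩ := hsep x (hE.sub x hx) (hE.orderOf_eq hx hx1)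
    have hUC : partGen X x ⊆ centralizer ({x} : Set G) := fun u hu => mem_cent.2 hu.2.1
    have hFC : (F : Set G) ⊆ centralizer ({x} : Set G) := fun v hv => mem_cent.2 (hcomm x hx v hv).symm
    refine alternative (centralizer ({x} : Set G)) (closure (partGen X x)) F E F ?_ le_rfl
      ((closure_le _).2 hUC) (fun v hv => hFC hv) (centralizer ({x} : Set G)) le_rfl ?_ ?_ L hL ?_
    · intro e he
      by_cases he1 : e = 1
      · rw [he1]; exact one_mem _
      exact subset_closure ⟨hE.sub e he, hE.comm e he x hx, he1, hE.sub _ (mul_mem he hx)⟩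
    · intro g hg
      have hstep : ∀ g : G, g * x = x * g → ∀ u ∈ closure (partGen X x), g * u * g⁻¹ ∈ closure (partGen X x) := by
        intro g hg
        have : closure (partGen X x) ≤ (closure (partGen X x)).comap (MulAut.conj g).toMonoidHom := by
          rw [closure_le]
          intro u hu
          exact subset_closure (conj_partGen h hg hu)
        exact fun u hu => this hu
      rw [mem_normalizer_iff]
      intro u
      refine ⟨hstep g (mem_cent.1 hg) u, fun hu => ?_⟩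
      have hg' : g⁻¹ * x = x * g⁻¹ := (Commute.inv_left (show Commute g x from mem_cent.1 hg)).eq
      have := hstep g⁻¹ hg' _ hu
      simpa [mul_assoc] using this
    · have hF2 : closure (F : Set G) = F := closure_eq F
      rw [← hF2]
      refine commutator_closure_le (C := centralizer ({x} : Set G))
        (Cfsg.Agent.TwoFusion.ClosedFour.le_normalizer_core _) hUC hFC ?_
      intro u hu v hv
      by_cases hv1 : v = 1
      · rw [hv1]; simp
      exact comm_mem_of_same h hr hx1 (hE.sub x hx) hu.1 hu.2.1 hu.2.2.1 hu.2.2.2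
        (hEF x hx v hv hx1 hv1).symm
    · refine le_trans ?_ le_sup_right
      rintro _ ⟨c, -, rfl⟩
      exact c.2
  by_cases hx1 : x = 1
  · have hy1 : y ≠ 1 := by
      intro e
      apply ha1
      rw [hxy, hx1, e, mul_one]
    have e : a = y := by rw [hxy, hx1, one_mul]
    subst e
    exact (one hF hE (fun x hx y hy hx1 hy1 => (hEF y hy x hx hy1 hx1).symm)
      (fun x hx y hy => (hcomm y hy x hx).symm) a hy hy1 L hL).symm
  by_cases hy1 : y = 1
  · have e : a = x := by rw [hxy, hy1, mul_one]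
    subst e
    exact one hE hF hEF hcomm a hx hx1 L hL
  -- the main case
  have ho := hEF x hx y hy hx1 hy1
  have ox := hE.orderOf_eq hx hx1
  have oy := hF.orderOf_eq hy hy1
  subst hxy
  obtain ⟨r, hr⟩ := hsep x (hE.sub x hx) ox
  obtain ⟨r', hr'⟩ := hsep y (hF.sub y hy) oy
  have hUC : (partGen X x ∩ centralizer ({y} : Set G) : Set G) ⊆ centralizer ({x * y} : Set G) := by
    rintro u ⟨hu, huy⟩
    have h1 : u * x = x * u := hu.2.1
    have h2 : u * y = y * u := mem_cent.1 huy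
    refine mem_cent.2 ?_
    calc u * (x * y) = u * x * y := by group
      _ = x * (u * y) := by rw [h1]; group
      _ = x * y * u := by rw [h2]; group
  have hFC : (F : Set G) ⊆ centralizer ({x * y} : Set G) := by
    intro v hv
    have h1 : v * x = x * v := (hcomm x hx v hv).symm
    have h2 : v * y = y * v := hF.comm v hv y hy
    refine mem_cent.2 ?_
    calc v * (x * y) = v * x * y := by group
      _ = x * (v * y) := by rw [h1]; group
      _ = x * y * v := by rw [h2]; group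
  have hMC : centralizer ({x} : Set G) ⊓ centralizer ({y} : Set G) ≤ centralizer ({x * y} : Set G) := by
    rintro m ⟨hm1, hm2⟩
    have h1 : m * x = x * m := mem_cent.1 hm1
    have h2 : m * y = y * m := mem_cent.1 hm2
    refine mem_cent.2 ?_
    calc m * (x * y) = m * x * y := by group
      _ = x * (m * y) := by rw [h1]; group
      _ = x * y * m := by rw [h2]; group
  refine alternative (centralizer ({x * y} : Set G))
    (closure (partGen X x ∩ centralizer ({y} : Set G) : Set G)) F E F ?_ le_rfl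
    ((closure_le _).2 hUC) (fun v hv => hFC hv) (centralizer ({x} : Set G) ⊓ centralizer ({y} : Set G)) hMC
    ?_ ?_ L hL ?_
  · intro e he
    by_cases he1 : e = 1
    · rw [he1]; exact one_mem _
    exact subset_closure ⟨⟨hE.sub e he, hE.comm e he x hx, he1, hE.sub _ (mul_mem he hx)⟩,
      mem_cent.2 (hcomm e he y hy)⟩
  · intro g hg
    have hstep : ∀ g : G, g ∈ centralizer ({x} : Set G) ⊓ centralizer ({y} : Set G) →
        ∀ u ∈ closure (partGen X x ∩ centralizer ({y} : Set G) : Set G),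
          g * u * g⁻¹ ∈ closure (partGen X x ∩ centralizer ({y} : Set G) : Set G) := by
      intro g hg
      have : closure (partGen X x ∩ centralizer ({y} : Set G) : Set G) ≤
          (closure (partGen X x ∩ centralizer ({y} : Set G) : Set G)).comap (MulAut.conj g).toMonoidHom := by
        rw [closure_le]
        intro u hu
        have h2 : u ∈ centralizer ({y} : Set G) := hu.2
        exact subset_closure ⟨conj_partGen h (mem_cent.1 hg.1) hu.1,
          mul_mem (mul_mem hg.2 h2) (inv_mem hg.2)⟩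
      exact fun u hu => this hu
    rw [mem_normalizer_iff]
    intro u
    refine ⟨hstep g hg u, fun hu => ?_⟩
    have := hstep g⁻¹ (inv_mem hg) _ hu
    simpa [mul_assoc] using this
  · have hF2 : closure (F : Set G) = F := closure_eq F
    rw [← hF2]
    refine commutator_closure_le (C := centralizer ({x * y} : Set G))
      (Cfsg.Agent.TwoFusion.ClosedFour.le_normalizer_core _) hUC hFC ?_
    rintro u ⟨hu, huy⟩ v hv
    by_cases hv1 : v = 1
    · rw [hv1]; simp
    have huy' : u * y = y * u := mem_cent.1 huy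
    refine Oc_inf_Oc_le h ox oy ho ⟨?_, ?_⟩
    · exact comm_mem_of_same h hr hx1 (hE.sub x hx) hu.1 hu.2.1 hu.2.2.1 hu.2.2.2
        (hEF x hx v hv hx1 hv1).symm
    · -- `u ⊥ y`
      have hQ : IsPGroup 2 (zpowers u ⊔ zpowers x ⊔ zpowers y : Subgroup G) := by
        refine isPGroup_sup_zpowers (isPGroup_sup_zpowers (h.isPGroup_zpowers hu.1)
          (h.isPGroup_zpowers (hE.sub x hx)) ?_) (h.isPGroup_zpowers (hF.sub y hy)) ?_
        · rintro _ ⟨k, rfl⟩
          exact ((show Commute x u from hu.2.1.symm).zpow_right k).eq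
        · intro q hq
          have hle : zpowers u ⊔ zpowers x ≤ centralizer ({y} : Set G) :=
            sup_le (zpowers_le.2 huy) (zpowers_le.2 (mem_cent.2 (hcomm x hx y hy)))
          exact (mem_cent.1 (hle hq)).symm
      have huo : Orth X u y := h.orth_of_same hQ (mem_sup_left (mem_sup_right (mem_zpowers x)))
        (mem_sup_left (mem_sup_left (mem_zpowers u))) (mem_sup_right (mem_zpowers y)) hu.1 hu.2.2.1
        (h.symm hu.2.2.2) ho
      have h3 := comm_mem_of_same h hr' hy1 (hF.sub y hy) (hF.sub v hv) (hF.comm v hv y hy) hv1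
        (hF.sub _ (mul_mem hv hy)) huo
      have e : u * v * u⁻¹ * v⁻¹ = (v * u * v⁻¹ * u⁻¹)⁻¹ := by group
      rw [e]
      exact (Oc y).inv_mem h3
  · have hp : ⁅L, L⁆ = L := Cfsg.Agent.Lib.PComponents.pcomp_perfect hL
    rw [← hp, Subgroup.map_commutator, commutator_le]
    rintro _ ⟨c, -, rfl⟩ _ ⟨d, -, rfl⟩
    exact commutator_mem h ox oy ho (mem_cent.1 c.2) (mem_cent.1 d.2)

end Cfsg.Agent.PermParts.CoreSep
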