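import Cfsg.Agent.TwoFusion.ClosedFour

/-!
# Classes of involutions which commute elementwise

`H` is a finite group with `O(H) = 1`, `D` an invariant set of involutions with an invariant equivalence relation
such that elements of different classes commute.  If `b, b' ∈ D` lie in different classes and `R`, `R'` are subgroups
of odd order normalised by `C(b)`, `C(b')` respectively, then `R ∩ R' = 1`.
-/

set_option autoImplicit false

namespace Cfsg.Agent.PermParts.Classes

open Subgroup
open scoped commutatorElement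
open Cfsg.Agent.TwoFusion.ClosedFam
open Cfsg.Agent.TwoFusion.ClosedFour (core_le core_odd le_normalizer_core map_core)

variable {H : Type*} [Group H]

theorem normalizer_le_normalizer_core [Finite H] (K : Subgroup H) :
    normalizer (K : Set H) ≤ normalizer (core K : Set H) := by
  intro g hg
  have h1 : K.map (MulAut.conj g).toMonoidHom = K := (mem_normalizer_iff_map_conj_eq).mp hg
  have h2 := map_core (MulAut.conj g) K
  rw [h1] at h2
  exact (mem_normalizer_iff_map_conj_eq).mpr h2

theorem core_le_oddCore [Finite H] (K : Subgroup H) [hK : K.Normal] : core K ≤ Cfsg.oddCore H := by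
  refine Cfsg.Agent.Lib.Cores.le_pPrimeCore ?_ (Nat.coprime_two_right.2 (core_odd K))
  rw [← normalizer_eq_top_iff, eq_top_iff]
  exact (normalizer_eq_top_iff.2 hK).ge.trans (normalizer_le_normalizer_core K)

/-- The hypotheses. -/
structure Rel (D : Set H) (r : H → H → Prop) : Prop where
  sq : ∀ d ∈ D, d * d = 1
  conj : ∀ d ∈ D, ∀ g : H, g * d * g⁻¹ ∈ D
  refl : ∀ x ∈ D, r x x
  symm : ∀ x ∈ D, ∀ y ∈ D, r x y → r y x
  trans : ∀ x ∈ D, ∀ y ∈ D, ∀ z ∈ D, r x y → r y z → r x z
  comm : ∀ x ∈ D, ∀ y ∈ D, ¬ r x y → x * y = y * x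

/-- the subgroup generated by the class of `e` -/
def cls (D : Set H) (r : H → H → Prop) (e : H) : Subgroup H := closure {x | x ∈ D ∧ r x e}

variable {D : Set H} {r : H → H → Prop}

theorem closure_le_normalizer_cls (h : Rel D r) {e : H} (he : e ∈ D) :
    closure D ≤ normalizer (cls D r e : Set H) := by
  rw [closure_le]
  intro x hx
  by_cases hxe : r x e
  · exact le_normalizer (subset_closure ⟨hx, hxe⟩)
  · have h1 : cls D r e ≤ centralizer ({x} : Set H) := by
      unfold cls
      rw [closure_le]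
      rintro y ⟨hy, hye⟩
      rw [SetLike.mem_coe, mem_centralizer_singleton_iff]
      exact (h.comm x hx y hy (fun hxy => hxe (h.trans x hx y hy e he hxy hye))).symm
    rw [SetLike.mem_coe, mem_normalizer_iff]
    intro y
    constructor
    · intro hy
      have := mem_centralizer_singleton_iff.1 (h1 hy)
      rw [← this, mul_inv_cancel_right]
      exact hy
    · intro hy
      have := mem_centralizer_singleton_iff.1 (h1 hy)
      have h2 : x * y * x⁻¹ = y := by
        have h3 : x * y * x⁻¹ * x = x * (x * y * x⁻¹) := this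
        have h4 : x * y = x * (x * y * x⁻¹) := by rw [← h3]; group
        exact (mul_left_cancel h4).symm
      rwa [h2] at hy

theorem commute_cls [Finite H] (hO : Cfsg.oddCore H = ⊥) (h : Rel D r) {b : H} (hb : b ∈ D)
    {R : Subgroup H} (hR : Odd (Nat.card R)) (hRn : centralizer ({b} : Set H) ≤ normalizer (R : Set H))
    {e : H} (he : e ∈ D) (heb : ¬ r e b) {d : H} (hd : d ∈ R) : d * e = e * d := by
  -- the members of the class normalise `R`
  have hnR : ∀ x ∈ D, r x e → x ∈ normalizer (R : Set H) := by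
    intro x hx hxe
    refine hRn (mem_centralizer_singleton_iff.2 ?_)
    refine h.comm x hx b hb (fun hxb => heb ?_)
    exact h.trans e he x hx b hb (h.symm x hx e he hxe) hxb
  -- `R` preserves the class
  have hcl : ∀ d ∈ R, ∀ x ∈ D, r x e → r (d * x * d⁻¹) x := by
    intro d hd x hx hxe
    by_contra hcon
    have hdx := h.conj x hx d
    have hc := h.comm _ hdx x hx hcon
    have h1 : x⁻¹ * (d * x * d⁻¹) ∈ R := by
      have h2 : x⁻¹ * d * x ∈ R := by
        have := (mem_normalizer_iff.1 (inv_mem (hnR x hx hxe)) d).1 hd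
        simpa using this
      have h3 := mul_mem h2 (inv_mem hd)
      rwa [show x⁻¹ * d * x * d⁻¹ = x⁻¹ * (d * x * d⁻¹) by group] at h3
    have hxx := h.sq x hx
    have hdd := h.sq _ hdx
    have h4 : (x⁻¹ * (d * x * d⁻¹)) ^ 2 = 1 := by
      have hxi : x⁻¹ = x := inv_eq_of_mul_eq_one_left hxx
      rw [hxi, sq]
      calc x * (d * x * d⁻¹) * (x * (d * x * d⁻¹)) = x * ((d * x * d⁻¹) * x) * (d * x * d⁻¹) := by group
        _ = x * (x * (d * x * d⁻¹)) * (d * x * d⁻¹) := by rw [hc]
        _ = (x * x) * ((d * x * d⁻¹) * (d * x * d⁻¹)) := by group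
        _ = 1 := by rw [hxx, hdd, one_mul]
    have h5 : x⁻¹ * (d * x * d⁻¹) = 1 := by
      have h6 : (⟨_, h1⟩ : R) ^ 2 = 1 := Subtype.ext h4
      have h7 := orderOf_dvd_of_pow_eq_one h6
      have h8 : orderOf (⟨_, h1⟩ : R) ∣ Nat.card R := orderOf_dvd_natCard _
      have h9 : orderOf (⟨_, h1⟩ : R) = 1 :=
        Nat.eq_one_of_dvd_coprimes (Nat.coprime_two_left.2 hR) h7 h8
      exact congrArg Subtype.val (orderOf_eq_one_iff.1 h9)
    have h6 : d * x * d⁻¹ = x := (inv_mul_eq_one.1 h5).symm
    rw [h6] at hcon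
    exact hcon (h.refl x hx)
  have hRcls : R ≤ normalizer (cls D r e : Set H) := by
    have hstep : ∀ d ∈ R, ∀ y ∈ cls D r e, d * y * d⁻¹ ∈ cls D r e := by
      intro d hd
      have : cls D r e ≤ (cls D r e).comap (MulAut.conj d).toMonoidHom := by
        conv_lhs => unfold cls
        rw [closure_le]
        rintro x ⟨hx, hxe⟩
        have hx' := h.conj x hx d
        exact subset_closure ⟨hx', h.trans _ hx' x hx e he (hcl d hd x hx hxe) hxe⟩
      exact fun y hy => this hy
    intro d hd
    rw [mem_normalizer_iff]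
    intro y
    refine ⟨hstep d hd y, fun hy => ?_⟩
    have := hstep d⁻¹ (inv_mem hd) _ hy
    simpa [mul_assoc] using this
  have hclsR : cls D r e ≤ normalizer (R : Set H) := by
    unfold cls
    rw [closure_le]
    rintro x ⟨hx, hxe⟩
    exact hnR x hx hxe
  -- the commutator
  have hKR : ⁅R, cls D r e⁆ ≤ R := by
    rw [commutator_le]
    intro x hx y hy
    have h1 := (mem_normalizer_iff.1 (hclsR hy) x⁻¹).1 (inv_mem hx)
    have h2 := mul_mem hx h1
    rwa [show x * (y * x⁻¹ * y⁻¹) = ⁅x, y⁆ by rw [commutatorElement_def]; group] at h2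
  have hKE : ⁅R, cls D r e⁆ ≤ cls D r e := by
    rw [commutator_le]
    intro x hx y hy
    have h1 := (mem_normalizer_iff.1 (hRcls hx) y).1 hy
    have h2 := mul_mem h1 (inv_mem hy)
    rwa [show x * y * x⁻¹ * y⁻¹ = ⁅x, y⁆ by rw [commutatorElement_def]] at h2
  have hKodd : Odd (Nat.card (⁅R, cls D r e⁆ : Subgroup H)) := hR.of_dvd_nat (card_dvd_of_le hKR)
  have hKn : cls D r e ≤ normalizer ((⁅R, cls D r e⁆ : Subgroup H) : Set H) :=
    Cfsg.Agent.Lib.CoprimeCommutator.right_le_normalizer_commutator R (cls D r e)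
  have h1 : ⁅R, cls D r e⁆ ≤ core (cls D r e) := Cfsg.Agent.TwoFusion.ClosedFour.le_core hKE hKodd hKn
  have hDn : (closure D).Normal := by
    refine ⟨fun n hn g => ?_⟩
    have : closure D ≤ (closure D).comap (MulAut.conj g).toMonoidHom := by
      rw [closure_le]
      intro x hx
      exact subset_closure (h.conj x hx g)
    exact this hn
  have h2 : core (cls D r e) ≤ core (closure D) := by
    refine Cfsg.Agent.TwoFusion.ClosedFour.le_core ((core_le _).trans ?_) (core_odd _) ?_
    · exact closure_mono (fun x hx => hx.1)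
    · exact (closure_le_normalizer_cls h he).trans (normalizer_le_normalizer_core _)
  have h3 : ⁅R, cls D r e⁆ = ⊥ := by
    rw [eq_bot_iff, ← hO]
    exact (h1.trans h2).trans (core_le_oddCore _)
  have h4 : ⁅d, e⁆ ∈ ⁅R, cls D r e⁆ := commutator_mem_commutator hd (subset_closure ⟨he, h.refl e he⟩)
  rw [h3, mem_bot] at h4
  exact commutatorElement_eq_one_iff_commute.1 h4

/-- **(I5), abstract form.** -/
theorem inf_eq_bot [Finite H] (hO : Cfsg.oddCore H = ⊥) (h : Rel D r) {b b' : H} (hb : b ∈ D) (hb' : b' ∈ D)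
    (hbb : ¬ r b b') {R R' : Subgroup H} (hR : Odd (Nat.card R)) (hR' : Odd (Nat.card R'))
    (hRn : centralizer ({b} : Set H) ≤ normalizer (R : Set H))
    (hR'n : centralizer ({b'} : Set H) ≤ normalizer (R' : Set H)) : R ⊓ R' = ⊥ := by
  have hcen : ∀ d ∈ R ⊓ R', ∀ x ∈ D, d * x = x * d := by
    intro d hd x hx
    by_cases hxb : r x b
    · refine commute_cls hO h hb' hR' hR'n hx (fun hxb' => hbb ?_) hd.2
      exact h.trans b hb x hx b' hb' (h.symm x hx b hb hxb) hxb'
    · exact commute_cls hO h hb hR hRn hx hxb hd.1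
  have hCn : (centralizer D).Normal := by
    refine ⟨fun n hn g => ?_⟩
    rw [mem_centralizer_iff] at hn ⊢
    intro x hx
    have h1 := hn (g⁻¹ * x * g) (by simpa using h.conj x hx g⁻¹)
    calc x * (g * n * g⁻¹) = g * ((g⁻¹ * x * g) * n) * g⁻¹ := by group
      _ = g * (n * (g⁻¹ * x * g)) * g⁻¹ := by rw [h1]
      _ = g * n * g⁻¹ * x := by group
  have hCb : centralizer D ≤ centralizer ({b} : Set H) := centralizer_le (Set.singleton_subset_iff.2 hb)
  have h1 : R ⊓ centralizer D ≤ core (centralizer D) := by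
    refine Cfsg.Agent.TwoFusion.ClosedFour.le_core inf_le_right (hR.of_dvd_nat (card_dvd_of_le inf_le_left)) ?_
    exact (le_inf (hCb.trans hRn) le_normalizer).trans inf_normalizer_le_normalizer_inf
  have h2 : R ⊓ R' ≤ R ⊓ centralizer D := by
    intro d hd
    refine ⟨hd.1, mem_centralizer_iff.2 ?_⟩
    intro x hx
    exact (hcen d hd x hx).symm
  rw [eq_bot_iff, ← hO]
  exact (h2.trans h1).trans (core_le_oddCore _)

end Cfsg.Agent.PermParts.Classes
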