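import Cfsg.Agent.TwoFusion.ClosedLocal

/-!
# An isolated pair of commuting involutions

`swap_isolated` : let `x ≠ y` be commuting involutions such that for every 2-subgroup `Q` with `x, y ∈ Q` and every
`g ∈ C(xy)` with `g x g⁻¹ ∈ Q` we have `g x g⁻¹ ∈ {x, y}`.  Then for every `g ∈ C(xy)` the element `g x g⁻¹` is
conjugate to `x` or `y` under `O(C(xy))`.  (Z* in `C(xy) / ⟨xy⟩`.)
-/

set_option autoImplicit false
set_option linter.style.haveILetI false

namespace Cfsg.Agent.PermParts.SwapIsolated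

open Subgroup
open Cfsg.Agent.TwoFusion.ClosedFam
open Cfsg.Agent.TwoFusion.ClosedSimple
open Cfsg.Agent.TwoFusion.ClosedLocal

/-- `z` a central involution, `N ∋ z` normal and `N / ⟨z⟩` of odd order: `N ≤ O(K) ∪ z O(K)`. -/
theorem mem_or_mul_mem {K : Type*} [Group K] [Finite K] {z : K} (hz : orderOf z = 2)
    (hc : ∀ g : K, g * z = z * g) (N : Subgroup K) [hN : N.Normal] (hzN : z ∈ N) {m : ℕ} (hm : Odd m)
    (hcard : Nat.card N = 2 * m) {n : K} (hn : n ∈ N) :
    n ∈ Cfsg.oddCore K ∨ n * z ∈ Cfsg.oddCore K := by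
  have hzz : z * z = 1 := mul_self hz
  -- the complement
  let z' : N := ⟨z, hzN⟩
  have hz' : orderOf z' = 2 := by rw [← Subgroup.orderOf_coe]; exact hz
  have hZn : (zpowers z').Normal := by
    refine ⟨?_⟩
    rintro _ ⟨k, rfl⟩ g
    refine ⟨k, ?_⟩
    change z' ^ k = g * z' ^ k * g⁻¹
    have : Commute g z' := Subtype.ext (hc g)
    rw [(this.zpow_right k).eq, mul_inv_cancel_right]
  have hcop : (Nat.card (zpowers z')).Coprime (zpowers z').index := by
    have h1 := Subgroup.card_mul_index (zpowers z')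
    rw [Nat.card_zpowers, hz', hcard] at h1
    have h2 : (zpowers z').index = m := by omega
    rw [Nat.card_zpowers, hz', h2]
    exact Nat.coprime_two_left.2 hm
  obtain ⟨C, hC⟩ := Subgroup.exists_left_complement'_of_coprime hcop
  have hCcard : Nat.card C = m := by
    have h1 := hC.card_mul_card
    rw [Nat.card_zpowers, hz', hcard] at h1
    omega
  have hCm : ∀ c ∈ C, c ^ m = 1 := by
    intro c hcC
    have h1 : (⟨c, hcC⟩ : C) ^ Nat.card C = 1 := pow_card_eq_one'
    rw [hCcard] at h1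
    exact congrArg Subtype.val h1
  have hcz : ∀ g : N, Commute g z' := fun g => Subtype.ext (hc g)
  have hzm : z' ^ m = z' := by
    obtain ⟨k, hk⟩ := hm
    have : z' * z' = 1 := Subtype.ext hzz
    rw [hk, pow_succ, pow_mul, sq, this, one_pow, one_mul]
  -- every element of `N` is in `C` or `C z`
  have hdec : ∀ n : N, n ∈ C ∨ n * z' ∈ C := by
    intro n
    obtain ⟨⟨c, t⟩, hct⟩ := hC.2 n
    have hct' : (c : N) * (t : N) = n := hct
    have ht := t.2
    rcases (by
      obtain ⟨k, hk⟩ := t.2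
      have hk' : z' ^ k = (t : N) := hk
      have h2 : z' ^ (2 : ℤ) = 1 := by
        rw [zpow_ofNat, sq]; exact Subtype.ext hzz
      rcases Int.even_or_odd' k with ⟨l, rfl | rfl⟩
      · left; rw [← hk', _root_.zpow_mul, h2, _root_.one_zpow]
      · right; rw [← hk', _root_.zpow_add, _root_.zpow_mul, h2, _root_.one_zpow, one_mul, zpow_one] :
        (t : N) = 1 ∨ (t : N) = z') with h | h
    · left
      rw [h, mul_one] at hct'
      rw [← hct']
      exact c.2
    · right
      rw [h] at hct'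
      have h3 : z' * z' = 1 := Subtype.ext hzz
      rw [← hct', mul_assoc, h3, mul_one]
      exact c.2
  -- `C` is the set of elements with `c ^ m = 1`
  have hmem : ∀ n : N, n ^ m = 1 → n ∈ C := by
    intro n hnm
    rcases hdec n with h | h
    · exact h
    · exfalso
      have h4 := hCm _ h
      rw [(hcz n).mul_pow, hnm, one_mul, hzm] at h4
      rw [h4, orderOf_one] at hz'
      omega
  have hCN : (C.map N.subtype).Normal := by
    refine ⟨?_⟩
    rintro _ ⟨c, hcC, rfl⟩ g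
    have h5 : g * (c : K) * g⁻¹ ∈ N := hN.conj_mem _ c.2 g
    refine ⟨⟨_, h5⟩, hmem _ ?_, rfl⟩
    apply Subtype.ext
    change (g * (c : K) * g⁻¹) ^ m = 1
    have h6 : (c : K) ^ m = 1 := congrArg Subtype.val (hCm c hcC)
    rw [conj_pow, h6]; group
  have hle : C.map N.subtype ≤ Cfsg.oddCore K := by
    refine Cfsg.Agent.Lib.Cores.le_pPrimeCore hCN (Nat.coprime_two_right.2 ?_)
    rw [Subgroup.card_map_of_injective N.subtype_injective, hCcard]
    exact hm
  rcases hdec ⟨n, hn⟩ with h | h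
  · left; exact hle ⟨_, h, rfl⟩
  · right; exact hle ⟨_, h, rfl⟩

/-- the version for a central product `x y` -/
theorem swap_isolated_group {K : Type*} [Group K] [Finite K] {x y : K} (hx : orderOf x = 2) (hy : orderOf y = 2)
    (hxy : x * y = y * x) (hne : x ≠ y) (hc : ∀ g : K, g * (x * y) = x * y * g)
    (hiso : ∀ Q : Subgroup K, IsPGroup 2 Q → x ∈ Q → y ∈ Q → ∀ g : K, g * x * g⁻¹ ∈ Q →
      g * x * g⁻¹ = x ∨ g * x * g⁻¹ = y) (g : K) :
    ∃ v ∈ Cfsg.oddCore K, g * x * g⁻¹ = v * x * v⁻¹ ∨ g * x * g⁻¹ = v * y * v⁻¹ := by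
  haveI : Fact (Nat.Prime 2) := ⟨Nat.prime_two⟩
  have hxx := mul_self hx
  have hyy := mul_self hy
  have hx1 := ne_one hx
  have hy1 := ne_one hy
  have hz1 : x * y ≠ 1 := fun h => hne (by
    have : x = y⁻¹ := mul_eq_one_iff_eq_inv.1 h
    rw [this, inv_eq hy])
  have hzz : x * y * (x * y) = 1 := by
    calc x * y * (x * y) = x * (y * x) * y := by group
      _ = x * x * (y * y) := by rw [← hxy]; group
      _ = 1 := by rw [hxx, hyy, one_mul]
  have hz : orderOf (x * y) = 2 := orderOf_eq_two hzz hz1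
  have hZn : (zpowers (x * y)).Normal := by
    refine ⟨?_⟩
    rintro _ ⟨k, rfl⟩ g
    refine ⟨k, ?_⟩
    change (x * y) ^ k = g * (x * y) ^ k * g⁻¹
    have : Commute g (x * y) := hc g
    rw [(this.zpow_right k).eq, mul_inv_cancel_right]
  have hZ : ∀ t ∈ zpowers (x * y), t = 1 ∨ t = x * y := by
    rintro _ ⟨k, rfl⟩
    change (x * y) ^ k = 1 ∨ (x * y) ^ k = x * y
    have h2 : (x * y) ^ (2 : ℤ) = 1 := by rw [zpow_ofNat, sq]; exact hzz
    rcases Int.even_or_odd' k with ⟨l, rfl | rfl⟩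
    · left; rw [_root_.zpow_mul, h2, _root_.one_zpow]
    · right; rw [_root_.zpow_add, _root_.zpow_mul, h2, _root_.one_zpow, one_mul, zpow_one]
  have hxZ : x ∉ zpowers (x * y) := fun h => by
    rcases hZ _ h with h | h
    · exact hx1 h
    · exact hy1 (by
        have : x * 1 = x * y := by rw [mul_one]; exact h
        exact (mul_left_cancel this).symm)
  -- the Sylow subgroup
  have hxyQ : IsPGroup 2 (zpowers x ⊔ zpowers y : Subgroup K) :=
    isPGroup_sup_zpowers (isPGroup_zpowers_of_orderOf hx) hy (by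
      rintro _ ⟨k, rfl⟩
      exact ((show Commute y x from hxy.symm).zpow_right k).eq)
  obtain ⟨S, hS⟩ := hxyQ.exists_le_sylow
  have hxS : x ∈ S := hS mem_sup_left'
  have hyS : y ∈ S := hS mem_sup_right'
  have hou : orderOf (QuotientGroup.mk' (zpowers (x * y)) x) = 2 := by
    refine orderOf_eq_two ?_ ?_
    · rw [← map_mul, hxx, map_one]
    · intro h
      exact hxZ ((QuotientGroup.eq_one_iff _).1 h)
  have hqy : QuotientGroup.mk' (zpowers (x * y)) y = QuotientGroup.mk' (zpowers (x * y)) x := by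
    rw [QuotientGroup.mk'_eq_mk']
    refine ⟨x * y, mem_zpowers _, ?_⟩
    rw [hxy, ← mul_assoc, hyy, one_mul]
  obtain ⟨N, hN, hNodd, hNc⟩ := Cfsg.Agent.S0215.result (G := K ⧸ zpowers (x * y))
    (S.mapSurjective (QuotientGroup.mk'_surjective (zpowers (x * y))))
    (QuotientGroup.mk' (zpowers (x * y)) x) hou (by
      change _ ∈ ((S.mapSurjective (QuotientGroup.mk'_surjective (zpowers (x * y))) : Sylow 2 (K ⧸ zpowers (x * y))) : Subgroup (K ⧸ zpowers (x * y)))
      rw [Sylow.coe_mapSurjective]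
      exact mem_map_of_mem _ hxS) (by
      intro g hg
      obtain ⟨g, rfl⟩ := QuotientGroup.mk'_surjective _ g
      change _ ∈ ((S.mapSurjective (QuotientGroup.mk'_surjective (zpowers (x * y))) : Sylow 2 (K ⧸ zpowers (x * y))) : Subgroup (K ⧸ zpowers (x * y))) at hg
      rw [Sylow.coe_mapSurjective] at hg
      obtain ⟨s, hs, hsg⟩ := hg
      rw [← map_inv, ← map_mul, ← map_mul, QuotientGroup.mk'_eq_mk'] at hsg
      obtain ⟨t, ht, hst⟩ := hsg
      have htS : t ∈ S := by
        rcases hZ t ht with h | h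
        · rw [h]; exact one_mem _
        · rw [h]; exact mul_mem hxS hyS
      have hgS : g * x * g⁻¹ ∈ (S : Subgroup K) := by
        rw [← hst]; exact mul_mem hs htS
      rw [← map_inv, ← map_mul, ← map_mul]
      rcases hiso S S.2 hxS hyS g hgS with h | h
      · rw [h]
      · rw [h, hqy])
  -- the preimage
  have hN' : (N.comap (QuotientGroup.mk' (zpowers (x * y)))).Normal := hN.comap _
  have hcard : Nat.card (N.comap (QuotientGroup.mk' (zpowers (x * y)))) = 2 * Nat.card N := by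
    have h1 := Subgroup.card_mul_index (N.comap (QuotientGroup.mk' (zpowers (x * y))))
    rw [Subgroup.index_comap_of_surjective _ (QuotientGroup.mk'_surjective _)] at h1
    have h2 := Subgroup.card_mul_index N
    have h3 := Subgroup.card_eq_card_quotient_mul_card_subgroup (zpowers (x * y))
    rw [Nat.card_zpowers, hz, ← h2, ← h1] at h3
    have hpos : 0 < N.index := Nat.pos_of_ne_zero Subgroup.index_ne_zero_of_finite
    apply Nat.eq_of_mul_eq_mul_right hpos
    rw [h3]; ring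
  have hzN : x * y ∈ N.comap (QuotientGroup.mk' (zpowers (x * y))) := by
    rw [mem_comap]
    have : QuotientGroup.mk' (zpowers (x * y)) (x * y) = 1 := (QuotientGroup.eq_one_iff _).2 (mem_zpowers _)
    rw [this]; exact one_mem _
  have hn : x * g * x⁻¹ * g⁻¹ ∈ N.comap (QuotientGroup.mk' (zpowers (x * y))) := by
    rw [mem_comap]
    have := hNc (QuotientGroup.mk' (zpowers (x * y)) g)
    simpa only [map_mul, map_inv] using this
  have hO : ∀ a ∈ Cfsg.oddCore K, ∀ b : K, b * a * b⁻¹ ∈ Cfsg.oddCore K := fun a ha b =>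
    (inferInstance : (Cfsg.oddCore K).Normal).conj_mem a ha b
  have hOodd : Odd (Nat.card (Cfsg.oddCore K)) :=
    Nat.coprime_two_right.1 (Cfsg.Agent.Lib.Cores.pPrimeCore_coprime 2)
  have hog : orderOf (g * x * g⁻¹) = 2 := orderOf_conj hx g
  rcases mem_or_mul_mem hz hc _ hzN hNodd hcard hn with h | h
  · -- `g x g⁻¹ ∈ O x`
    have h4 : g * x * g⁻¹ * x⁻¹ ∈ Cfsg.oddCore K := by
      have e : g * x * g⁻¹ * x⁻¹ = (x * g * x⁻¹ * g⁻¹)⁻¹ := by
        rw [inv_eq hx]; simp only [mul_inv_rev, inv_inv, inv_eq hx]; group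
      rw [e]; exact inv_mem h
    obtain ⟨v, hv, hvx⟩ := exists_conj_of_mul_inv_mem hOodd hx hog (fun k hk => hO k hk x) h4
    exact ⟨v, hv, Or.inl hvx⟩
  · have h4 : g * x * g⁻¹ * y⁻¹ ∈ Cfsg.oddCore K := by
      have e : g * x * g⁻¹ * y⁻¹ = (x * g * x⁻¹ * g⁻¹ * (x * y))⁻¹ := by
        have e2 : x * g * x⁻¹ * g⁻¹ * (x * y) = (x * y) * (x * g * x⁻¹ * g⁻¹) := hc _
        rw [e2]
        simp only [mul_inv_rev, inv_inv, inv_eq hx, inv_eq hy]
        have e3 : g * x * g⁻¹ * x * (y * x) = g * x * g⁻¹ * (x * x) * y := by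
          rw [← hxy]; group
        rw [hxx, mul_one] at e3
        rw [show g * (x * (g⁻¹ * x)) * (y * x) = g * x * g⁻¹ * x * (y * x) by group, e3]
      rw [e]; exact inv_mem h
    obtain ⟨v, hv, hvx⟩ := exists_conj_of_mul_inv_mem hOodd hy hog (fun k hk => hO k hk y) h4
    exact ⟨v, hv, Or.inr hvx⟩

variable {G : Type*} [Group G]

theorem swap_isolated [Finite G] {x y : G} (hx : orderOf x = 2) (hy : orderOf y = 2)
    (hxy : x * y = y * x) (hne : x ≠ y)
    (hiso : ∀ Q : Subgroup G, IsPGroup 2 Q → x ∈ Q → y ∈ Q → ∀ g : G, g * (x * y) = x * y * g →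
      g * x * g⁻¹ ∈ Q → g * x * g⁻¹ = x ∨ g * x * g⁻¹ = y) {g : G} (hg : g * (x * y) = x * y * g) :
    ∃ v ∈ Oc (x * y), g * x * g⁻¹ = v * x * v⁻¹ ∨ g * x * g⁻¹ = v * y * v⁻¹ := by
  have hxC : x ∈ centralizer ({x * y} : Set G) := mem_cent.2 (by rw [mul_assoc, hxy])
  have hyC : y ∈ centralizer ({x * y} : Set G) := mem_cent.2 (by rw [← mul_assoc, hxy])
  obtain ⟨v, hv, h⟩ := swap_isolated_group (K := centralizer ({x * y} : Set G)) (x := ⟨x, hxC⟩)
    (y := ⟨y, hyC⟩) (by rw [← Subgroup.orderOf_coe]; exact hx) (by rw [← Subgroup.orderOf_coe]; exact hy)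
    (Subtype.ext hxy) (fun h => hne (congrArg Subtype.val h)) (fun g => Subtype.ext (mem_cent.1 g.2)) (by
      intro Q hQ hxQ hyQ g hgQ
      rcases hiso (Q.map (Subgroup.subtype _)) (hQ.map _) ⟨_, hxQ, rfl⟩ ⟨_, hyQ, rfl⟩ g (mem_cent.1 g.2)
        ⟨_, hgQ, rfl⟩ with h | h
      · exact Or.inl (Subtype.ext h)
      · exact Or.inr (Subtype.ext h)) ⟨g, mem_cent.2 hg⟩
  refine ⟨v, ⟨v, hv, rfl⟩, ?_⟩
  rcases h with h | h
  · exact Or.inl (congrArg Subtype.val h)
  · exact Or.inr (congrArg Subtype.val h)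

end Cfsg.Agent.PermParts.SwapIsolated
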