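import Cfsg.Agent.PermParts.Basic
import Cfsg.Agent.PermParts.SwapIsolated
import Cfsg.Agent.PermParts.Classes

/-!
# Local consequences of separation

* `exists_conj_pair`, `exists_mul_pair` (C'): for orthogonal involutions `x, y` the centraliser of `x y` is
  `O(C(xy)) N({x, y})`;
* `inf_inf_le` (I5): for pairwise orthogonal involutions `b, b', w` we have `O_b ∩ O_b' ∩ C(w) ≤ O_w`.
-/

set_option autoImplicit false
set_option linter.style.haveILetI false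

namespace Cfsg.Agent.PermParts.LocalSep

open Subgroup
open Cfsg.Agent.TwoFusion.ClosedFam Cfsg.Agent.TwoFusion.ClosedSimple
open Cfsg.Agent.PermParts.Basic
open Cfsg.Agent.TwoFusion.ClosedLocal (mul_self inv_eq ne_one orderOf_eq_two orderOf_conj mem_cent odd_Oc
  Oc_comm conj_mem_Oc exists_conj_of_mul_inv_mem Oc_eq)

variable {G : Type*} [Group G] {𝒜 X : Set G}

theorem ne_of_orth (h : Multi 𝒜 X) {x y : G} (hx : orderOf x = 2) (ho : Orth X x y) : x ≠ y := by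
  rintro rfl
  exact ho.notMem (by rw [mul_self hx]; exact h.one_mem)

/-- **(C')** -/
theorem exists_conj_pair [Finite G] (h : Multi 𝒜 X) {x y : G} (hx : orderOf x = 2) (hy : orderOf y = 2)
    (ho : Orth X x y) {g : G} (hg : g * (x * y) = x * y * g) :
    ∃ v ∈ Oc (x * y), g * x * g⁻¹ = v * x * v⁻¹ ∨ g * x * g⁻¹ = v * y * v⁻¹ := by
  refine SwapIsolated.swap_isolated hx hy ho.comm (ne_of_orth h hx ho) ?_ hg
  intro Q hQ hxQ hyQ g hg hgQ
  have e : g * x * g⁻¹ * (g * y * g⁻¹) = x * y := by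
    calc g * x * g⁻¹ * (g * y * g⁻¹) = g * (x * y) * g⁻¹ := by group
      _ = x * y := by rw [hg, mul_inv_cancel_right]
  have hgy : g * y * g⁻¹ ∈ Q := by
    have e2 : g * y * g⁻¹ = (g * x * g⁻¹)⁻¹ * (x * y) := by rw [← e]; group
    rw [e2]
    exact mul_mem (inv_mem hgQ) (mul_mem hxQ hyQ)
  exact h.coord_two hQ hxQ hyQ hgQ hgy ho.left ho.right (h.conj_mem x ho.left g) (h.conj_mem y ho.right g)
    ho.notMem e

/-- **(C')**: `C(xy) = O(C(xy)) N({x, y})`. -/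
theorem exists_mul_pair [Finite G] (h : Multi 𝒜 X) {x y : G} (hx : orderOf x = 2) (hy : orderOf y = 2)
    (ho : Orth X x y) {g : G} (hg : g * (x * y) = x * y * g) :
    ∃ v ∈ Oc (x * y), ∃ c, g = v * c ∧ c * (x * y) = x * y * c ∧
      ((c * x = x * c ∧ c * y = y * c) ∨ (c * x = y * c ∧ c * y = x * c)) := by
  obtain ⟨v, hv, hvg⟩ := exists_conj_pair h hx hy ho hg
  have hvz : v * (x * y) = x * y * v := Oc_comm hv
  refine ⟨v, hv, v⁻¹ * g, by group, ?_, ?_⟩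
  · have h1 : v⁻¹ * (x * y) = x * y * v⁻¹ := by
      calc v⁻¹ * (x * y) = v⁻¹ * (x * y * v) * v⁻¹ := by group
        _ = v⁻¹ * (v * (x * y)) * v⁻¹ := by rw [hvz]
        _ = x * y * v⁻¹ := by group
    rw [mul_assoc, hg, ← mul_assoc, h1, mul_assoc]
  · have h1 : v⁻¹ * (x * y) = x * y * v⁻¹ := by
      calc v⁻¹ * (x * y) = v⁻¹ * (x * y * v) * v⁻¹ := by group
        _ = v⁻¹ * (v * (x * y)) * v⁻¹ := by rw [hvz]
        _ = x * y * v⁻¹ := by group
    have hcz : (v⁻¹ * g) * (x * y) = x * y * (v⁻¹ * g) := by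
      rw [mul_assoc, hg, ← mul_assoc, h1, mul_assoc]
    rcases hvg with h2 | h2
    · left
      have h3 : v⁻¹ * g * x = x * (v⁻¹ * g) := by
        calc v⁻¹ * g * x = v⁻¹ * (g * x * g⁻¹) * g := by group
          _ = x * (v⁻¹ * g) := by rw [h2]; group
      refine ⟨h3, ?_⟩
      have h4 : x * (v⁻¹ * g * y) = x * (y * (v⁻¹ * g)) := by
        calc x * (v⁻¹ * g * y) = x * (v⁻¹ * g) * y := by group
          _ = v⁻¹ * g * x * y := by rw [h3]
          _ = v⁻¹ * g * (x * y) := by group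
          _ = x * y * (v⁻¹ * g) := hcz
          _ = x * (y * (v⁻¹ * g)) := by group
      exact mul_left_cancel h4
    · right
      have h3 : v⁻¹ * g * x = y * (v⁻¹ * g) := by
        calc v⁻¹ * g * x = v⁻¹ * (g * x * g⁻¹) * g := by group
          _ = y * (v⁻¹ * g) := by rw [h2]; group
      refine ⟨h3, ?_⟩
      have h4 : y * (v⁻¹ * g * y) = y * (x * (v⁻¹ * g)) := by
        calc y * (v⁻¹ * g * y) = y * (v⁻¹ * g) * y := by group
          _ = v⁻¹ * g * x * y := by rw [h3]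
          _ = v⁻¹ * g * (x * y) := by group
          _ = x * y * (v⁻¹ * g) := hcz
          _ = y * x * (v⁻¹ * g) := by rw [ho.comm]
          _ = y * (x * (v⁻¹ * g)) := by group
      exact mul_left_cancel h4

/-- `(I1)` -/
theorem comm_mem_of_same (h : Multi 𝒜 X) {w : G} {r : G → G → Prop} (hs : SepAt 𝒜 X w r)
    {u v : G} (hw1 : w ≠ 1) (hw : w ∈ X) (hu : u ∈ X) (huw : u * w = w * u) (hu1 : u ≠ 1) (huwX : u * w ∈ X)
    (hv : Orth X v w) : u * v * u⁻¹ * v⁻¹ ∈ Oc w := by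
  have hrw : r u w := by
    have hQ : IsPGroup 2 (zpowers u ⊔ zpowers w : Subgroup G) :=
      isPGroup_sup_zpowers (h.isPGroup_zpowers hu) (h.isPGroup_zpowers hw) (by
        rintro _ ⟨k, rfl⟩
        exact ((show Commute w u from huw.symm).zpow_right k).eq)
    exact hs.same _ hQ u (mem_sup_left (mem_zpowers u)) w (mem_sup_right (mem_zpowers w)) hu hw huw rfl hu1
      hw1 huwX
  have hvw : ¬ r v w := hs.orth v w hv hv.comm rfl
  refine hs.comm u hu v hv.left huw hv.comm hu1 hv.left_ne_one (fun h1 => hvw ?_)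
  exact hs.eqv.trans (hs.eqv.symm h1) hrw

/-- conjugates by `O_w` stay in their class -/
theorem rel_of_mul_inv_mem [Finite G] {w : G} {r : G → G → Prop} (hs : SepAt 𝒜 X w r)
    {x y : G} (hx : x ∈ X) (ox : orderOf x = 2) (oy : orderOf y = 2) (hxw : x * w = w * x)
    (hxy : y * x⁻¹ ∈ Oc w) : r y x ∧ ∃ v ∈ Oc w, y = v * x * v⁻¹ := by
  obtain ⟨v, hv, hvx⟩ := exists_conj_of_mul_inv_mem (odd_Oc w) ox oy
    (fun k hk => conj_mem_Oc hxw hk) hxy
  refine ⟨?_, v, hv, hvx⟩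
  rw [hvx]
  exact hs.core_conj v hv x hx hxw (ne_one ox)

/-- **(I5)**: `O_b ∩ O_b' ∩ C(w) ≤ O_w` for pairwise orthogonal involutions. -/
theorem inf_inf_le [Finite G] (h : Multi 𝒜 X) {w : G} {r : G → G → Prop} (hs : SepAt 𝒜 X w r)
    {b b' : G} (ob : orderOf b = 2) (ob' : orderOf b' = 2) (hbw : b * w = w * b)
    (hb'w : b' * w = w * b') (hbb : Orth X b b') :
    Oc b ⊓ Oc b' ⊓ centralizer ({w} : Set G) ≤ Oc w := by
  classical
  let C : Subgroup G := centralizer ({w} : Set G)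
  let N : Subgroup C := Cfsg.oddCore C
  have hN : N.Normal := Cfsg.Agent.Lib.Cores.pPrimeCore_normal 2
  let π : C →* C ⧸ N := QuotientGroup.mk' N
  have hπ : Function.Surjective π := QuotientGroup.mk'_surjective N
  have hπ1 : ∀ c : C, π c = 1 ↔ (c : G) ∈ Oc w := by
    intro c
    rw [QuotientGroup.mk'_apply, QuotientGroup.eq_one_iff]
    constructor
    · intro hc; exact ⟨c, hc, rfl⟩
    · rintro ⟨c', hc', e⟩
      have : c' = c := Subtype.ext e
      rwa [← this]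
  have hπeq : ∀ c c' : C, π c = π c' → (c : G) * (c' : G)⁻¹ ∈ Oc w := by
    intro c c' e
    have : π (c * c'⁻¹) = 1 := by rw [map_mul, map_inv, e, mul_inv_cancel]
    exact (hπ1 _).1 this
  have hmw : ∀ c : C, (c : G) * w = w * c := fun c => mem_cent.1 c.2
  let D : Set (C ⧸ N) := {p | ∃ x : C, (x : G) ∈ X ∧ orderOf (x : G) = 2 ∧ π x = p}
  let r' : C ⧸ N → C ⧸ N → Prop := fun p q => ∃ x y : C, (x : G) ∈ X ∧ orderOf (x : G) = 2 ∧ (y : G) ∈ X ∧
    orderOf (y : G) = 2 ∧ π x = p ∧ π y = q ∧ r x y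
  have hlift : ∀ x y : C, (x : G) ∈ X → orderOf (x : G) = 2 → orderOf (y : G) = 2 → π y = π x → r y x := by
    intro x y hx ox oy e
    exact (rel_of_mul_inv_mem hs hx ox oy (hmw x) (hπeq _ _ e)).1
  have hRel : Classes.Rel D r' := by
    refine ⟨?_, ?_, ?_, ?_, ?_, ?_⟩
    · rintro _ ⟨x, -, ox, rfl⟩
      rw [← map_mul]
      have : x * x = 1 := Subtype.ext (mul_self ox)
      rw [this, map_one]
    · rintro _ ⟨x, hx, ox, rfl⟩ g
      obtain ⟨g, rfl⟩ := hπ g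
      refine ⟨g * x * g⁻¹, h.conj_mem x hx g, orderOf_conj ox g, by rw [map_mul, map_mul, map_inv]⟩
    · rintro _ ⟨x, hx, ox, rfl⟩
      exact ⟨x, x, hx, ox, hx, ox, rfl, rfl, hs.eqv.refl x⟩
    · rintro _ - _ - ⟨x, y, hx, ox, hy, oy, rfl, rfl, hxy⟩
      exact ⟨y, x, hy, oy, hx, ox, rfl, rfl, hs.eqv.symm hxy⟩
    · rintro _ - _ - _ - ⟨x, y, hx, ox, hy, oy, rfl, e1, hxy⟩ ⟨y', z, hy', oy', hz, oz, e2, rfl, hyz⟩
      refine ⟨x, z, hx, ox, hz, oz, rfl, rfl, ?_⟩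
      exact hs.eqv.trans hxy (hs.eqv.trans (hlift y' y hy' oy' oy (e1.trans e2.symm)) hyz)
    · rintro _ ⟨x, hx, ox, rfl⟩ _ ⟨y, hy, oy, rfl⟩ hn
      have h1 : ¬ r x y := fun hxy => hn ⟨x, y, hx, ox, hy, oy, rfl, rfl, hxy⟩
      have h2 := hs.comm x hx y hy (hmw x) (hmw y) (ne_one ox) (ne_one oy) h1
      have h3 : π (x * y * x⁻¹ * y⁻¹) = 1 := (hπ1 _).2 h2
      rw [map_mul, map_mul, map_mul, map_inv, map_inv] at h3
      have h4 : π x * π y * (π x)⁻¹ = π y := mul_inv_eq_one.1 h3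
      exact mul_inv_eq_iff_eq_mul.1 h4
  have hOH : Cfsg.oddCore (C ⧸ N) = ⊥ := Cfsg.Agent.Lib.Cores.pPrimeCore_quotient_pPrimeCore 2
  -- the subgroups
  have key : ∀ a : G, a ∈ X → orderOf a = 2 → ∀ haw : a * w = w * a,
      Odd (Nat.card (((Oc a).subgroupOf C).map π)) ∧
      centralizer ({π ⟨a, mem_cent.2 haw⟩} : Set (C ⧸ N)) ≤
        normalizer ((((Oc a).subgroupOf C).map π : Subgroup (C ⧸ N)) : Set (C ⧸ N)) := by
    intro a ha oa haw
    constructor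
    · refine (odd_Oc a).of_dvd_nat ((card_map_dvd _ π).trans ?_)
      have e : Nat.card (((Oc a).subgroupOf C).map C.subtype) = Nat.card ((Oc a).subgroupOf C) :=
        Subgroup.card_map_of_injective C.subtype_injective
      rw [← e]
      exact card_dvd_of_le (by
        rintro _ ⟨c, hc, rfl⟩
        exact hc)
    · have hstep : ∀ c : C, π c * π ⟨a, mem_cent.2 haw⟩ = π ⟨a, mem_cent.2 haw⟩ * π c →
          ∀ p ∈ ((Oc a).subgroupOf C).map π, π c * p * (π c)⁻¹ ∈ ((Oc a).subgroupOf C).map π := by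
        rintro c hc _ ⟨d, hd, rfl⟩
        have e1 : π (c * ⟨a, mem_cent.2 haw⟩ * c⁻¹) = π ⟨a, mem_cent.2 haw⟩ := by
          rw [map_mul, map_mul, map_inv, hc, mul_inv_cancel_right]
        have e2 := hπeq _ _ e1
        obtain ⟨-, v, hv, hva⟩ := rel_of_mul_inv_mem hs ha oa (orderOf_conj oa (c : G)) haw e2
        have hvC : v ∈ C := mem_cent.2 (Oc_comm hv)
        have hcom : (v⁻¹ * c : G) * a = a * (v⁻¹ * c) := by
          calc (v⁻¹ * c : G) * a = v⁻¹ * (c * a * (c : G)⁻¹) * c := by group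
            _ = a * (v⁻¹ * c) := by rw [hva]; group
        have e3 : π (⟨v, hvC⟩⁻¹ * c) = π c := by
          rw [map_mul, map_inv, (hπ1 ⟨v, hvC⟩).2 hv, inv_one, one_mul]
        refine ⟨(⟨v, hvC⟩⁻¹ * c) * d * (⟨v, hvC⟩⁻¹ * c)⁻¹, ?_, ?_⟩
        · exact conj_mem_Oc hcom hd
        · rw [map_mul, map_mul, map_inv, e3]
      intro p hp
      obtain ⟨c, rfl⟩ := hπ p
      have hc := mem_centralizer_singleton_iff.1 hp
      rw [mem_normalizer_iff]
      intro q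
      refine ⟨hstep c hc q, fun hq => ?_⟩
      have hc' : π c⁻¹ * π ⟨a, mem_cent.2 haw⟩ = π ⟨a, mem_cent.2 haw⟩ * π c⁻¹ := by
        rw [map_inv]
        exact (Commute.inv_left (show Commute (π c) _ from hc)).eq
      have := hstep c⁻¹ hc' _ hq
      rw [map_inv] at this
      simpa [mul_assoc] using this
  obtain ⟨hR, hRn⟩ := key b hbb.left ob hbw
  obtain ⟨hR', hR'n⟩ := key b' hbb.right ob' hb'w
  have hbot := Classes.inf_eq_bot hOH hRel (b := π ⟨b, mem_cent.2 hbw⟩) (b' := π ⟨b', mem_cent.2 hb'w⟩)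
    ⟨_, hbb.left, ob, rfl⟩ ⟨_, hbb.right, ob', rfl⟩ (by
      rintro ⟨x, y, hx, ox, hy, oy, e1, e2, hxy⟩
      refine hs.orth b b' hbb hbw hb'w ?_
      have h1 := hlift x ⟨b, mem_cent.2 hbw⟩ hx ox ob e1.symm
      have h2 := hlift ⟨b', mem_cent.2 hb'w⟩ y hbb.right ob' oy e2
      exact hs.eqv.trans h1 (hs.eqv.trans hxy h2)) hR hR' hRn hR'n
  rintro d ⟨⟨hd1, hd2⟩, hd3⟩
  have hm : π ⟨d, hd3⟩ ∈ ((Oc b).subgroupOf C).map π ⊓ ((Oc b').subgroupOf C).map π :=
    ⟨⟨_, hd1, rfl⟩, ⟨_, hd2, rfl⟩⟩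
  rw [hbot, mem_bot] at hm
  exact (hπ1 _).1 hm

end Cfsg.Agent.PermParts.LocalSep
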