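import Cfsg.Agent.PermParts.Basic
import Cfsg.Agent.PermParts.LocalSep
import Cfsg.Agent.ProdFusion.OneClass
import Cfsg.Agent.Lib.KleinGen

/-!
# The unique fixed point lemma for multifamilies

`X` a rich multifamily of the finite group `G` with at least two parts.  Let `r` be a conjugation invariant
equivalence relation on the involutions of `X`, such that commuting involutions are equivalent.  Then any two
involutions of `X` are equivalent.
-/

set_option autoImplicit false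
set_option linter.style.haveILetI false
set_option maxHeartbeats 400000

namespace Cfsg.Agent.PermParts.Ufp

open Subgroup
open Cfsg.Agent.TwoFusion.ClosedFam Cfsg.Agent.TwoFusion.ClosedSimple
open Cfsg.Agent.TwoFusion.ClosedLocal hiding isPGroup_sup_zpowers
open Cfsg.Agent.PermParts.Basic
open Cfsg.Agent.ProdFusion.OneClass (exists_conj_of_odd exists_central_of_even)

variable {G : Type*} [Group G]

/-- the involutions of `X` -/
def IX (X : Set G) : Set G := {x | x ∈ X ∧ orderOf x = 2}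

/-- (C') If `x ⊥ y` are involutions, then an element of `C(x y)` maps `x` to a conjugate of `x` or `y` under
`O(C(x y))`. -/
def CTwo (X : Set G) : Prop := ∀ x ∈ IX X, ∀ y ∈ IX X, Orth X x y → ∀ g : G, g * (x * y) = x * y * g →
  ∃ o ∈ Oc (x * y), g * x * g⁻¹ = o * x * o⁻¹ ∨ g * x * g⁻¹ = o * y * o⁻¹

section

variable [Finite G] {𝒜 X : Set G} (h : Multi 𝒜 X)
include h

omit [Finite G] in
theorem IX_conj {x : G} (hx : x ∈ IX X) (g : G) : g * x * g⁻¹ ∈ IX X :=
  ⟨h.conj_mem x hx.1 g, orderOf_conj hx.2 g⟩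

/-- Every part of a 2-subgroup `Q` contains an involution commuting with `𝒜 ∩ Q`. -/
theorem exists_central_part {Q : Subgroup G} (hQ : IsPGroup 2 Q) {c : G} (hc : c ∈ Q) (hcX : c ∈ X)
    (hc1 : c ≠ 1) : ∃ a ∈ IX X, a ∈ Q ∧ a * c ∈ X ∧ ∀ q ∈ Q, q ∈ 𝒜 → a * q = q * a := by
  haveI : Fact (Nat.Prime 2) := ⟨Nat.prime_two⟩
  obtain ⟨P, hP⟩ := h.exists_part hQ hc hcX hc1
  have hmB : ∀ x, x ∈ fam 𝒜 Q ↔ x ∈ 𝒜 ∧ x ∈ Q := fun x => h.fam.mem_fam_iff hQ
  have hB2 : IsPGroup 2 (fam 𝒜 Q) := hQ.to_le (fam_le 𝒜 Q)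
  have hN : (P.subgroupOf (fam 𝒜 Q)).Normal := by
    refine ⟨fun y hy g => ?_⟩
    rw [mem_subgroupOf] at hy ⊢
    obtain ⟨h1, h2, h3⟩ := (hP _).1 hy
    obtain ⟨hg1, hg2⟩ := (hmB _).1 g.2
    have h4 : (g : G) * y * (g : G)⁻¹ ∈ Q := Q.mul_mem (Q.mul_mem hg2 h1) (inv_mem hg2)
    refine (hP _).2 ⟨h4, h.conj_mem _ h2 _, ?_⟩
    change (g : G) * y * (g : G)⁻¹ * c ∈ X
    by_cases hy1 : (y : G) = 1
    · rw [hy1, mul_one, mul_inv_cancel, one_mul]; exact hcX
    · exact h.trans Q hQ _ h4 y h1 c hc (h.conj_mem _ h2 _) h2 hcX hy1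
        (h.symm (h.normal Q hQ y h1 g hg2 hg1 h2)) h3
  have hcc : c * c ∈ X := by simpa using h.normal Q hQ c hc 1 (one_mem _) h.fam.one_mem hcX
  have hne : P.subgroupOf (fam 𝒜 Q) ≠ ⊥ := by
    intro hb
    have h1 : (⟨c, (hmB c).2 ⟨h.sub hcX, hc⟩⟩ : fam 𝒜 Q) ∈ P.subgroupOf (fam 𝒜 Q) := by
      rw [mem_subgroupOf]; exact (hP c).2 ⟨hc, hcX, hcc⟩
    rw [hb, mem_bot] at h1
    exact hc1 (congrArg Subtype.val h1)
  obtain ⟨z, hz, hzc, hz2⟩ := Cfsg.Agent.Involutions.NormalFour.exists_mem_center_of_normal hB2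
    (P.subgroupOf (fam 𝒜 Q)) hne
  rw [mem_subgroupOf] at hz
  obtain ⟨h1, h2, h3⟩ := (hP _).1 hz
  refine ⟨z, ⟨h2, by rw [← hz2, Subgroup.orderOf_coe]⟩, h1, h3, fun q hq hqA => ?_⟩
  have := mem_center_iff.1 hzc ⟨q, (hmB q).2 ⟨hqA, hq⟩⟩
  exact (congrArg Subtype.val this).symm

/-- Conjugate Sylow subgroups have families of the same order. -/
theorem card_fam_sylow (T T' : Sylow 2 G) :
    Nat.card (fam 𝒜 (T : Subgroup G)) = Nat.card (fam 𝒜 (T' : Subgroup G)) := by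
  haveI : Fact (Nat.Prime 2) := ⟨Nat.prime_two⟩
  obtain ⟨g, hg⟩ := MulAction.exists_smul_eq G T T'
  have h1 : ((T' : Sylow 2 G) : Subgroup G) = (T : Subgroup G).map (MulAut.conj g).toMonoidHom := by
    rw [← hg]; rfl
  rw [h1, ← h.fam.map_conj_fam g (T : Subgroup G)]
  exact (Subgroup.card_map_of_injective (MulAut.conj g).injective).symm

/-- If `x` is an involution of `X` in the 2-subgroup `Q`, then there is another involution `v` in the part of `x`,
commuting with `x`, in a 2-subgroup containing `Q`. -/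
theorem exists_rich (hR : Rich X) {Q : Subgroup G} (hQ : IsPGroup 2 Q) {x : G} (hx : x ∈ IX X) (hxQ : x ∈ Q) :
    ∃ v ∈ IX X, v ≠ x ∧ x * v = v * x ∧ x * v ∈ X ∧ ∃ Q' : Subgroup G, IsPGroup 2 Q' ∧ Q ≤ Q' ∧ v ∈ Q' := by
  haveI : Fact (Nat.Prime 2) := ⟨Nat.prime_two⟩
  obtain ⟨T, hT⟩ := hQ.exists_le_sylow
  obtain ⟨a, haX, haT, hac, ha⟩ := exists_central_part h T.2 (hT hxQ) hx.1 (ne_one hx.2)
  by_cases hax : a = x
  · subst hax
    obtain ⟨y, hyX, hy2, hya, hcomm, hay⟩ := hR a hx.1 hx.2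
    have hmB : ∀ q, q ∈ fam 𝒜 (T : Subgroup G) ↔ q ∈ 𝒜 ∧ q ∈ (T : Subgroup G) :=
      fun q => h.fam.mem_fam_iff T.2
    set C : Subgroup G := centralizer ({a} : Set G) with hC
    have hBC : fam 𝒜 (T : Subgroup G) ≤ C := by
      intro q hq
      rw [hC, mem_cent]
      exact (ha q ((hmB q).1 hq).2 ((hmB q).1 hq).1).symm
    have hyC : zpowers y ≤ C := by
      rw [zpowers_le, hC, mem_cent]; exact hcomm.symm
    have hB2 : IsPGroup 2 ((fam 𝒜 (T : Subgroup G)).subgroupOf C) :=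
      (T.2.to_le (fam_le 𝒜 _)).of_equiv (Subgroup.subgroupOfEquivOfLe hBC).symm
    obtain ⟨R, hR'⟩ := hB2.exists_le_sylow
    obtain ⟨g, hgC, hg⟩ := exists_conj_sylow_subgroup (isPGroup_zpowers_of_orderOf hy2) hyC R
    have hR2 : IsPGroup 2 ((R : Subgroup C).map C.subtype) := R.2.map _
    obtain ⟨T', hT'⟩ := hR2.exists_le_sylow
    have hBT' : fam 𝒜 (T : Subgroup G) ≤ fam 𝒜 (T' : Subgroup G) := by
      intro q hq
      exact mem_fam ((hmB q).1 hq).1 (hT' ⟨⟨q, hBC hq⟩, hR' hq, rfl⟩)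
    have hBeq : fam 𝒜 (T : Subgroup G) = fam 𝒜 (T' : Subgroup G) :=
      Subgroup.eq_of_le_of_card_ge hBT' (card_fam_sylow h T' T).le
    have hyT' : g * y * g⁻¹ ∈ (T' : Subgroup G) := hT' (hg y (mem_zpowers y))
    have hyB : g * y * g⁻¹ ∈ fam 𝒜 (T : Subgroup G) := by
      rw [hBeq]; exact mem_fam (h.sub (h.conj_mem y hyX g)) hyT'
    rw [hC, mem_cent] at hgC
    have hga : g * a * g⁻¹ = a := by rw [hgC]; group
    refine ⟨g * y * g⁻¹, ⟨h.conj_mem y hyX g, orderOf_conj hy2 g⟩, ?_, ?_, ?_, T, T.2, hT, ((hmB _).1 hyB).2⟩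
    · intro he
      apply hya
      have : y = g⁻¹ * (g * y * g⁻¹) * g := by group
      rw [this, he, mul_assoc, ← hgC]; group
    · exact ha _ ((hmB _).1 hyB).2 ((hmB _).1 hyB).1
    · have := h.conj_mem _ hay g
      have e : g * (a * y) * g⁻¹ = a * (g * y * g⁻¹) := by
        calc g * (a * y) * g⁻¹ = (g * a * g⁻¹) * (g * y * g⁻¹) := by group
          _ = _ := by rw [hga]
      rwa [e] at this
  · exact ⟨a, haX, hax, (ha x (hT hxQ) (h.sub hx.1)).symm, h.symm hac, T, T.2, hT, haT⟩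

/-- Any Sylow 2-subgroup contains orthogonal involutions commuting with its family. -/
theorem exists_orth_in (h2 : ∃ x y : G, Orth X x y) {Q : Subgroup G} (hQ : IsPGroup 2 Q) :
    ∃ a ∈ IX X, ∃ b ∈ IX X, Orth X a b ∧ ∃ Q' : Subgroup G, IsPGroup 2 Q' ∧ Q ≤ Q' ∧ a ∈ Q' ∧ b ∈ Q' ∧
      ∀ q ∈ Q', q ∈ 𝒜 → a * q = q * a ∧ b * q = q * b := by
  haveI : Fact (Nat.Prime 2) := ⟨Nat.prime_two⟩
  obtain ⟨x, y, hxy⟩ := h2
  obtain ⟨T, hT⟩ := hQ.exists_le_sylow
  have h1 : IsPGroup 2 (zpowers x ⊔ zpowers y : Subgroup G) := by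
    refine isPGroup_sup_zpowers (h.isPGroup_zpowers hxy.left) (h.isPGroup_zpowers hxy.right) ?_
    intro q hq
    obtain ⟨n, rfl⟩ := mem_zpowers_iff.1 hq
    exact ((show Commute x y from hxy.comm).symm.zpow_right n).eq
  obtain ⟨g, hg⟩ := exists_conj_sylow h1 T
  have hxT := hg x (mem_sup_left (mem_zpowers x))
  have hyT := hg y (mem_sup_right (mem_zpowers y))
  have ho := hxy.conj h g
  obtain ⟨a, haX, haT, hac, ha⟩ := exists_central_part h T.2 hxT ho.left ho.left_ne_one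
  obtain ⟨b, hbX, hbT, hbc, hb⟩ := exists_central_part h T.2 hyT ho.right ho.right_ne_one
  have h3 : Orth X a (g * y * g⁻¹) :=
    h.orth_of_same T.2 hxT haT hyT haX.1 (ne_one haX.2) (h.symm hac) ho
  have h4 : Orth X b a := h.orth_of_same T.2 hyT hbT haT hbX.1 (ne_one hbX.2) (h.symm hbc) h3.symm
  exact ⟨a, haX, b, hbX, h4.symm, T, T.2, hT, haT, hbT, fun q hq hqA => ⟨ha q hq hqA, hb q hq hqA⟩⟩

end

/-- The situation of the unique fixed point lemma. -/
structure Data (𝒜 X : Set G) (r : G → G → Prop) : Prop where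
  multi : Multi 𝒜 X
  rich : Rich X
  ctwo : CTwo X
  two : ∃ x y : G, Orth X x y
  eqv : Equivalence r
  conj : ∀ g : G, ∀ x ∈ IX X, ∀ y ∈ IX X, r x y → r (g * x * g⁻¹) (g * y * g⁻¹)
  comm : ∀ x ∈ IX X, ∀ y ∈ IX X, x * y = y * x → r x y

namespace Data

variable [Finite G] {𝒜 X : Set G} {r : G → G → Prop} (d : Data 𝒜 X r)
include d

omit [Finite G] in
/-- the stabilizer of the class of `x` -/
theorem exists_st {x : G} (hx : x ∈ IX X) : ∃ H : Subgroup G, ∀ g, g ∈ H ↔ r (g * x * g⁻¹) x := by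
  refine ⟨{ carrier := {g | r (g * x * g⁻¹) x}
            one_mem' := by
              change r (1 * x * 1⁻¹) x
              rw [one_mul, inv_one, mul_one]; exact d.eqv.refl x
            mul_mem' := ?_
            inv_mem' := ?_ }, fun g => Iff.rfl⟩
  · intro a b ha hb
    change r (a * b * x * (a * b)⁻¹) x
    have h1 := d.conj a _ (IX_conj d.multi hx b) x hx hb
    have e : a * (b * x * b⁻¹) * a⁻¹ = a * b * x * (a * b)⁻¹ := by group
    rw [e] at h1
    exact d.eqv.trans h1 ha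
  · intro a ha
    change r (a⁻¹ * x * a⁻¹⁻¹) x
    have h1 := d.conj a⁻¹ _ (IX_conj d.multi hx a) x hx ha
    have e : a⁻¹ * (a * x * a⁻¹) * a⁻¹⁻¹ = x := by group
    rw [e] at h1
    exact d.eqv.symm h1

omit [Finite G] in
theorem st_congr {x y g : G} (hx : x ∈ IX X) (hy : y ∈ IX X) (hxy : r x y) (hg : r (g * x * g⁻¹) x) :
    r (g * y * g⁻¹) y :=
  d.eqv.trans (d.eqv.symm (d.conj g x hx y hy hxy)) (d.eqv.trans hg hxy)

omit [Finite G] in
theorem st_of_comm {x g : G} (hg : g * x = x * g) : r (g * x * g⁻¹) x := by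
  have : g * x * g⁻¹ = x := by rw [hg]; group
  rw [this]; exact d.eqv.refl x

/-- (U1) -/
theorem exists_orth_comm {x : G} (hx : x ∈ IX X) {Y : Subgroup G} (hY : IsPGroup 2 Y)
    (hYA : ∀ y ∈ Y, y ∈ 𝒜) (hYx : ∀ y ∈ Y, r (y * x * y⁻¹) x) :
    ∃ a ∈ IX X, ∃ b ∈ IX X, Orth X a b ∧ r a x ∧ r b x ∧ ∀ y ∈ Y, a * y = y * a ∧ b * y = y * b := by
  haveI : Fact (Nat.Prime 2) := ⟨Nat.prime_two⟩
  obtain ⟨H, hH⟩ := d.exists_st hx
  have hYH : Y ≤ H := fun y hy => (hH y).2 (hYx y hy)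
  have hxH : zpowers x ≤ H := by
    rw [zpowers_le]; exact (hH x).2 (d.st_of_comm rfl)
  have hY2 : IsPGroup 2 (Y.subgroupOf H) := hY.of_equiv (Subgroup.subgroupOfEquivOfLe hYH).symm
  obtain ⟨R, hR⟩ := hY2.exists_le_sylow
  obtain ⟨m, hmH, hm⟩ := exists_conj_sylow_subgroup (isPGroup_zpowers_of_orderOf hx.2) hxH R
  have hR2 : IsPGroup 2 ((R : Subgroup H).map H.subtype) := R.2.map _
  obtain ⟨a, haX, b, hbX, hab, Q', hQ', hRQ, haQ, hbQ, hc⟩ := exists_orth_in d.multi d.two hR2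
  have hYQ : Y ≤ Q' := fun y hy => hRQ ⟨⟨y, hYH hy⟩, hR hy, rfl⟩
  have hxQ : m * x * m⁻¹ ∈ Q' := hRQ (hm x (mem_zpowers x))
  have hmx := IX_conj d.multi hx m
  have h1 : r (m * x * m⁻¹) x := (hH m).1 hmH
  have h2 := hc _ hxQ (d.multi.sub hmx.1)
  exact ⟨a, haX, b, hbX, hab, d.eqv.trans (d.comm a haX _ hmx h2.1) h1,
    d.eqv.trans (d.comm b hbX _ hmx h2.2) h1, fun y hy => hc y (hYQ hy) (hYA y hy)⟩

/-- an involution of `X` fixes only its own class. -/
theorem eq_of_fix {x y : G} (hx : x ∈ IX X) (hy : y ∈ IX X) (hf : r (x * y * x⁻¹) y) : r x y := by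
  obtain ⟨H, hH⟩ := d.exists_st hy
  have hxH : zpowers x ≤ H := by rw [zpowers_le]; exact (hH x).2 hf
  obtain ⟨a, haX, _, _, _, har, _, hc⟩ := d.exists_orth_comm hy (isPGroup_zpowers_of_orderOf hx.2)
    (fun z hz => d.multi.fam.zpowers_subset (d.multi.sub hx.1) hz) (fun z hz => (hH z).1 (hxH hz))
  exact d.eqv.trans (d.comm x hx a haX (hc x (mem_zpowers x)).1.symm) har

/-- (U2) -/
theorem centralizer_mul_fix {x y : G} (hx : x ∈ IX X) (hy : y ∈ IX X) (ho : Orth X x y) {g : G}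
    (hg : g * (x * y) = x * y * g) : r (g * x * g⁻¹) x := by
  have hxy : r y x := d.comm y hy x hx ho.comm.symm
  obtain ⟨H, hH⟩ := d.exists_st hx
  -- `O(C(x y))` fixes the class
  have hO : Oc (x * y) ≤ H := by
    have hQ : IsPGroup 2 (zpowers x ⊔ zpowers y : Subgroup G) := by
      refine isPGroup_sup_zpowers (isPGroup_zpowers_of_orderOf hx.2) (isPGroup_zpowers_of_orderOf hy.2) ?_
      intro q hq
      obtain ⟨n, rfl⟩ := mem_zpowers_iff.1 hq
      exact ((show Commute x y from ho.comm).symm.zpow_right n).eq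
    obtain ⟨v, hvX, hvx, hcomm, hxvX, Q', hQ', hQQ, hvQ⟩ := exists_rich d.multi d.rich hQ hx mem_sup_left'
    have hxQ : x ∈ Q' := hQQ mem_sup_left'
    have hyQ : y ∈ Q' := hQQ mem_sup_right'
    have hvy : Orth X v y := d.multi.orth_of_same hQ' hxQ hvQ hyQ hvX.1 (ne_one hvX.2) hxvX ho
    have hxx := mul_self hx.2
    have hvv := mul_self hvX.2
    have hxv1 : x * v ≠ 1 := by
      intro h1
      apply hvx
      exact (inv_eq hx.2 ▸ eq_inv_of_mul_eq_one_right h1)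
    have hxvI : x * v ∈ IX X := by
      refine ⟨hxvX, orderOf_eq_two ?_ hxv1⟩
      calc x * v * (x * v) = x * (v * x) * v := by group
        _ = (x * x) * (v * v) := by rw [← hcomm]; group
        _ = 1 := by rw [hxx, hvv, one_mul]
    have hrv : r v x := d.comm v hvX x hx hcomm.symm
    have hrxv : r (x * v) x := by
      refine d.comm _ hxvI x hx ?_
      rw [mul_assoc, ← hcomm]
    have hcx : x * (x * y) = x * y * x := by rw [mul_assoc, ← ho.comm]
    have hcv : v * (x * y) = x * y * v := by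
      rw [← mul_assoc, ← hcomm, mul_assoc, hvy.comm, mul_assoc]
    refine Cfsg.Agent.Lib.KleinGen.le_of_klein (Oc (x * y)) H (odd_Oc _) x v hxx hvv hcomm
      (fun k hk => conj_mem_Oc hcx hk) (fun k hk => conj_mem_Oc hcv hk) ?_ ?_ ?_
    · intro k hk
      exact (hH k).2 (d.st_of_comm (mem_cent.1 hk.2))
    · intro k hk
      exact (hH k).2 (d.st_congr hvX hx hrv (d.st_of_comm (mem_cent.1 hk.2)))
    · intro k hk
      exact (hH k).2 (d.st_congr hxvI hx hrxv (d.st_of_comm (mem_cent.1 hk.2)))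
  obtain ⟨o, hoO, h1 | h1⟩ := d.ctwo x hx y hy ho g hg
  · rw [h1]; exact (hH o).1 (hO hoO)
  · rw [h1]
    exact d.eqv.trans (d.st_congr hx hy (d.eqv.symm hxy) ((hH o).1 (hO hoO))) hxy

/-- a product of two orthogonal involutions fixes only their class. -/
theorem eq_of_mul_fix {x y w : G} (hx : x ∈ IX X) (hy : y ∈ IX X) (ho : Orth X x y) (hw : w ∈ IX X)
    (hf : r (x * y * w * (x * y)⁻¹) w) : r x w := by
  have hxx := mul_self hx.2
  have hyy := mul_self hy.2
  have hz2 : x * y * (x * y) = 1 := by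
    calc x * y * (x * y) = x * (y * x) * y := by group
      _ = (x * x) * (y * y) := by rw [← ho.comm]; group
      _ = 1 := by rw [hxx, hyy, one_mul]
  have hz1 : x * y ≠ 1 := fun h1 => ho.notMem (by rw [h1]; exact d.multi.one_mem)
  have hzo : orderOf (x * y) = 2 := orderOf_eq_two hz2 hz1
  have hQ : IsPGroup 2 (zpowers x ⊔ zpowers y : Subgroup G) := by
    refine isPGroup_sup_zpowers (isPGroup_zpowers_of_orderOf hx.2) (isPGroup_zpowers_of_orderOf hy.2) ?_
    intro q hq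
    obtain ⟨n, rfl⟩ := mem_zpowers_iff.1 hq
    exact ((show Commute x y from ho.comm).symm.zpow_right n).eq
  have hzA : x * y ∈ 𝒜 :=
    d.multi.fam.mul_mem _ hQ x mem_sup_left' y mem_sup_right' (d.multi.sub hx.1) (d.multi.sub hy.1)
  obtain ⟨H, hH⟩ := d.exists_st hw
  have hzH : zpowers (x * y) ≤ H := by rw [zpowers_le]; exact (hH _).2 hf
  obtain ⟨a, haX, _, _, _, har, _, hc⟩ := d.exists_orth_comm hw (isPGroup_zpowers_of_orderOf hzo)
    (fun z hz => d.multi.fam.zpowers_subset hzA hz) (fun z hz => (hH z).1 (hzH hz))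
  have h1 := d.centralizer_mul_fix hx hy ho (g := a) (hc _ (mem_zpowers _)).1
  exact d.eqv.trans (d.eqv.symm (d.eq_of_fix haX hx h1)) har

/-- (U3) -/
theorem odd_of_not {x w : G} (hx : x ∈ IX X) (hw : w ∈ IX X) (hxw : ¬ r x w) : Odd (orderOf (x * w)) := by
  by_contra hodd
  rw [Nat.not_odd_iff_even] at hodd
  have hxx := mul_self hx.2
  have hww := mul_self hw.2
  obtain ⟨u, hu1, hu2, hux, huw, -, c, hc⟩ := exists_central_of_even hxx hww hodd
  have huxI : u * x ∈ IX X := by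
    rcases hc with hc | hc
    · rw [← hc]; exact IX_conj d.multi hx c
    · rw [← hc]; exact IX_conj d.multi hw c
  have hcomm : x * (u * x) = u * x * x := by rw [← mul_assoc, ← hux]
  have hu : u = x * (u * x) := by
    rw [← mul_assoc, ← hux, mul_assoc, hxx, mul_one]
  have hf : r (u * w * u⁻¹) w := d.st_of_comm huw
  by_cases hX : x * (u * x) ∈ X
  · have huI : u ∈ IX X := ⟨by rw [hu]; exact hX, orderOf_eq_two hu2 hu1⟩
    exact hxw (d.eqv.trans (d.comm x hx u huI hux.symm) (d.eq_of_fix huI hw hf))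
  · have ho : Orth X x (u * x) := ⟨hx.1, huxI.1, hcomm, hX⟩
    rw [hu] at hf
    exact hxw (d.eq_of_mul_fix hx huxI ho hw hf)

/-- involutions of `X` in a subgroup `U` meeting two classes are conjugate in `U`. -/
theorem exists_conj_in {U : Subgroup G} {x w : G} (hx : x ∈ IX X) (hw : w ∈ IX X) (hxw : ¬ r x w) (hxU : x ∈ U)
    (hwU : w ∈ U) {a b : G} (ha : a ∈ IX X) (hb : b ∈ IX X) (haU : a ∈ U) (hbU : b ∈ U) :
    ∃ g ∈ U, g * a * g⁻¹ = b := by
  have key : ∀ a b : G, a ∈ IX X → b ∈ IX X → a ∈ U → b ∈ U → ¬ r a b → ∃ g ∈ U, g * a * g⁻¹ = b := by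
    intro a b ha hb haU hbU hab
    obtain ⟨c, hc, hcab⟩ := exists_conj_of_odd (mul_self ha.2) (mul_self hb.2) (d.odd_of_not ha hb hab)
    refine ⟨c, ?_, hcab⟩
    have : closure ({a, b} : Set G) ≤ U := by
      rw [closure_le]; rintro z (rfl | rfl)
      · exact haU
      · exact hbU
    exact this hc
  have key2 : ∀ e : G, e ∈ IX X → e ∈ U → ¬ r a e → ∃ g ∈ U, g * a * g⁻¹ = b := by
    intro e he heU hae
    by_cases hab : r a b
    · obtain ⟨g1, h1, h2⟩ := key a e ha he haU heU hae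
      obtain ⟨g2, h3, h4⟩ := key e b he hb heU hbU (fun h => hae (d.eqv.trans hab (d.eqv.symm h)))
      refine ⟨g2 * g1, U.mul_mem h3 h1, ?_⟩
      rw [← h4, ← h2]; group
    · exact key a b ha hb haU hbU hab
  by_cases h1 : r a x
  · exact key2 w hw hwU (fun h2 => hxw (d.eqv.trans (d.eqv.symm h1) h2))
  · exact key2 x hx hxU h1

/-- (U4) the unique fixed point lemma -/
theorem ufp {β γ : G} (hβ : β ∈ IX X) (hγ : γ ∈ IX X) : r β γ := by
  haveI : Fact (Nat.Prime 2) := ⟨Nat.prime_two⟩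
  by_contra hβγ
  have h := d.multi
  let 𝒴 : Set (Subgroup G) := {Y | IsPGroup 2 Y ∧ (∀ y ∈ Y, y ∈ 𝒜) ∧ ∃ β ∈ IX X, ∃ γ ∈ IX X, ¬ r β γ ∧
    (∀ y ∈ Y, r (y * β * y⁻¹) β) ∧ (∀ y ∈ Y, r (y * γ * y⁻¹) γ)}
  have hne : 𝒴.Nonempty := by
    refine ⟨⊥, IsPGroup.of_bot, ?_, β, hβ, γ, hγ, hβγ, ?_, ?_⟩
    · intro y hy
      rw [mem_bot] at hy
      rw [hy]; exact h.fam.one_mem
    · intro y hy
      rw [mem_bot] at hy
      rw [hy]; exact d.st_of_comm (by rw [one_mul, mul_one])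
    · intro y hy
      rw [mem_bot] at hy
      rw [hy]; exact d.st_of_comm (by rw [one_mul, mul_one])
  obtain ⟨Y, ⟨hY, hYA, β, hβ, γ, hγ, hβγ, hYβ, hYγ⟩, hmax⟩ :=
    Set.exists_max_image 𝒴 (fun Y => Nat.card Y) (Set.toFinite _) hne
  obtain ⟨x, hx, y, hy, ho, hxβ, hyβ, hcβ⟩ := d.exists_orth_comm hβ hY hYA hYβ
  obtain ⟨w, hw, -, -, -, hwγ, -, hcγ'⟩ := (by
    obtain ⟨w, hw, w', hw', ho', h1, h2, h3⟩ := d.exists_orth_comm hγ hY hYA hYγ
    exact ⟨w, hw, trivial, trivial, trivial, h1, trivial, fun q hq => (h3 q hq).1⟩ :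
    ∃ w : G, w ∈ IX X ∧ True ∧ True ∧ True ∧ r w γ ∧ True ∧ ∀ q ∈ Y, w * q = q * w)
  have hxw : ¬ r x w := fun h1 => hβγ (d.eqv.trans (d.eqv.symm hxβ) (d.eqv.trans h1 hwγ))
  have hxx := mul_self hx.2
  have hyy := mul_self hy.2
  have hww := mul_self hw.2
  have hQ0 : IsPGroup 2 (zpowers x ⊔ zpowers y : Subgroup G) := by
    refine isPGroup_sup_zpowers (isPGroup_zpowers_of_orderOf hx.2) (isPGroup_zpowers_of_orderOf hy.2) ?_
    intro q hq
    obtain ⟨n, rfl⟩ := mem_zpowers_iff.1 hq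
    exact ((show Commute x y from ho.comm).symm.zpow_right n).eq
  set z := x * y with hz
  have hzz : z * z = 1 := by
    calc x * y * (x * y) = x * (y * x) * y := by group
      _ = (x * x) * (y * y) := by rw [← ho.comm]; group
      _ = 1 := by rw [hxx, hyy, one_mul]
  have hzi : z⁻¹ = z := inv_eq_of_mul_eq_one_left hzz
  have hwi : w⁻¹ = w := inv_eq_of_mul_eq_one_left hww
  have hz1 : z ≠ 1 := fun h1 => ho.notMem (by rw [← hz, h1]; exact h.one_mem)
  have hzA : z ∈ 𝒜 := h.fam.mul_mem _ hQ0 x mem_sup_left' y mem_sup_right' (h.sub hx.1) (h.sub hy.1)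
  have hzY : ∀ q ∈ Y, z * q = q * z := by
    intro q hq
    rw [hz, mul_assoc, (hcβ q hq).2, ← mul_assoc, (hcβ q hq).1, mul_assoc]
  obtain ⟨k, b, hb, hkb⟩ := Nat.exists_eq_two_pow_mul_odd (orderOf_pos (z * w)).ne'
  obtain ⟨j, hj⟩ := hb
  set η := (z * w) ^ b with hη
  have hη2 : η ^ 2 ^ k = 1 := by
    rw [hη, ← pow_mul, mul_comm, ← hkb, pow_orderOf_eq_one]
  have hηp : IsPGroup 2 (zpowers η) := isPGroup_zpowers_of_pow hη2
  -- the conjugate `w'` of `w` with `z w' = η`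
  set w' := (w * z) ^ j * w * ((w * z) ^ j)⁻¹ with hw'
  have hw'I : w' ∈ IX X := IX_conj h hw _
  have hzw' : z * w' = η := by
    rw [hw', Cfsg.Agent.ProdFusion.OneClass.mul_pow_eq hww hzz, ← mul_assoc, ← mul_pow_mul, mul_assoc, ← pow_succ,
      ← hj]
  have hw'z : w' = z * η := by
    rw [← hzw', ← mul_assoc, hzz, one_mul]
  have hηY : ∀ q ∈ Y, η * q = q * η := by
    intro q hq
    have h1 : Commute (z * w) q := by
      change z * w * q = q * (z * w)
      rw [mul_assoc, hcγ' q hq, ← mul_assoc, hzY q hq, mul_assoc]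
    exact (h1.pow_left b).eq
  -- `z` and `w` invert `η`
  have hzη : z⁻¹ * η * z = η⁻¹ := by
    rw [hη, ← inv_pow]
    have h1 : (z * w)⁻¹ = z⁻¹ * (z * w) * z⁻¹⁻¹ := by
      calc (z * w)⁻¹ = w⁻¹ * z⁻¹ := mul_inv_rev _ _
        _ = w * z := by rw [hwi, hzi]
        _ = z⁻¹ * (z * w) * z⁻¹⁻¹ := by rw [inv_inv]; group
    rw [h1, conj_pow, inv_inv]
  have hwη : w⁻¹ * η * w = η⁻¹ := by
    rw [hη, ← inv_pow]
    have h1 : (z * w)⁻¹ = w⁻¹ * (z * w) * w⁻¹⁻¹ := by
      calc (z * w)⁻¹ = w⁻¹ * z⁻¹ := mul_inv_rev _ _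
        _ = w⁻¹ * z := by rw [hzi]
        _ = w⁻¹ * (z * (w * w)) := by rw [hww, mul_one]
        _ = w⁻¹ * (z * w) * w⁻¹⁻¹ := by rw [inv_inv]; group
    rw [h1, conj_pow, inv_inv]
  by_cases hηin : η ∈ Y
  · -- `η` is a product of three orthogonal involutions
    have hηz : η * z = z * η := (hzY η hηin).symm
    have hηx : x * η = η * x := (hcβ η hηin).1
    have hηy : y * η = η * y := (hcβ η hηin).2
    have hηη : η * η = 1 := by
      have h1 := mul_self hw'I.2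
      rw [hw'z] at h1
      calc η * η = (z * z) * (η * η) := by rw [hzz, one_mul]
        _ = z * η * (z * η) := by rw [mul_assoc z η, ← mul_assoc η z, hηz]; group
        _ = 1 := h1
    have hη1 : η ≠ 1 := by
      intro h1
      rw [h1, mul_one] at hw'z
      exact ho.notMem (by rw [← hz, ← hw'z]; exact hw'I.1)
    have hnoX : η ∉ X := by
      intro h1
      have hηI : η ∈ IX X := ⟨h1, orderOf_eq_two hηη hη1⟩
      exact hβγ (d.eqv.trans (d.eqv.symm (d.eq_of_fix hηI hβ (hYβ η hηin))) (d.eq_of_fix hηI hγ (hYγ η hηin)))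
    have hno2 : ∀ u ∈ IX X, ∀ v ∈ IX X, Orth X u v → η ≠ u * v := by
      intro u hu v hv huv he
      have h1 := hYβ η hηin
      have h2 := hYγ η hηin
      rw [he] at h1 h2
      exact hβγ (d.eqv.trans (d.eqv.symm (d.eq_of_mul_fix hu hv huv hβ h1)) (d.eq_of_mul_fix hu hv huv hγ h2))
    have hw'x : w' * x = x * w' := by
      rw [hw'z, hz]
      calc x * y * η * x = x * y * (η * x) := by group
        _ = x * (y * x) * η := by rw [← hηx]; group
        _ = x * (x * y * η) := by rw [← ho.comm]; group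
    have hw'y : w' * y = y * w' := by
      rw [hw'z, hz]
      calc x * y * η * y = x * y * (η * y) := by group
        _ = (x * y) * y * η := by rw [← hηy]; group
        _ = (y * x) * y * η := by rw [← ho.comm]
        _ = y * (x * y * η) := by group
    have hηe : η = w' * x * y := by
      rw [hw'x, mul_assoc, hw'y, ← mul_assoc, ← hz, hzw']
    have hQ1 : IsPGroup 2 (zpowers x ⊔ zpowers y ⊔ zpowers w' : Subgroup G) := by
      refine isPGroup_sup_zpowers hQ0 (isPGroup_zpowers_of_orderOf hw'I.2) ?_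
      have h1 : (zpowers x ⊔ zpowers y : Subgroup G) ≤ centralizer ({w'} : Set G) := by
        rw [sup_le_iff, zpowers_le, zpowers_le, mem_cent, mem_cent]
        exact ⟨hw'x.symm, hw'y.symm⟩
      intro q hq
      exact (mem_cent.1 (h1 hq)).symm
    have hxQ1 : x ∈ (zpowers x ⊔ zpowers y ⊔ zpowers w' : Subgroup G) := mem_sup_left mem_sup_left'
    have hyQ1 : y ∈ (zpowers x ⊔ zpowers y ⊔ zpowers w' : Subgroup G) := mem_sup_left mem_sup_right'
    have hwQ1 : w' ∈ (zpowers x ⊔ zpowers y ⊔ zpowers w' : Subgroup G) := mem_sup_right (mem_zpowers w')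
    have hw'w' := mul_self hw'I.2
    have horth : ∀ p q : G, p ∈ IX X → q ∈ IX X → p ∈ (zpowers x ⊔ zpowers y ⊔ zpowers w' : Subgroup G) →
        q ∈ (zpowers x ⊔ zpowers y ⊔ zpowers w' : Subgroup G) → w' * p = p * w' → η = w' * p * q →
        Orth X w' p := by
      intro p q hp hq hpQ hqQ hcp he
      refine h.orth_of_notMem hQ1 hwQ1 hpQ hw'I.1 hp.1 fun h1 => ?_
      have h2 : w' * p ≠ 1 := by
        intro h3
        rw [h3, one_mul] at he
        exact hnoX (by rw [he]; exact hq.1)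
      have h3 : w' * p ∈ IX X := by
        refine ⟨h1, orderOf_eq_two ?_ h2⟩
        calc w' * p * (w' * p) = w' * (p * w') * p := by group
          _ = (w' * w') * (p * p) := by rw [← hcp]; group
          _ = 1 := by rw [hw'w', mul_self hp.2, one_mul]
      by_cases h4 : w' * p * q ∈ X
      · exact hnoX (by rw [he]; exact h4)
      · exact hno2 _ h3 q hq (h.orth_of_notMem hQ1 (Subgroup.mul_mem _ hwQ1 hpQ) hqQ h1 hq.1 h4) he
    have hwx : Orth X w' x := horth x y hx hy hxQ1 hyQ1 hw'x hηe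
    have hηe' : η = w' * y * x := by
      calc η = w' * x * y := hηe
        _ = w' * (x * y) := mul_assoc _ _ _
        _ = w' * (y * x) := by rw [ho.comm]
        _ = w' * y * x := (mul_assoc _ _ _).symm
    have hwy : Orth X w' y := horth y x hy hx hyQ1 hxQ1 hw'y hηe'
    obtain ⟨v, hv, hvw, hwv, hwvX, Q2, hQ2, hQ12, hvQ2⟩ := exists_rich h d.rich hQ1 hw'I hwQ1
    have hxQ2 := hQ12 hxQ1
    have hyQ2 := hQ12 hyQ1
    have hwQ2 := hQ12 hwQ1
    have hvx : Orth X v x := h.orth_of_same hQ2 hwQ2 hvQ2 hxQ2 hv.1 (ne_one hv.2) hwvX hwx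
    have hvy : Orth X v y := h.orth_of_same hQ2 hwQ2 hvQ2 hyQ2 hv.1 (ne_one hv.2) hwvX hwy
    have hwv1 : w' * v ≠ 1 := by
      intro h1
      apply hvw
      have h2 : w'⁻¹ = v := inv_eq_of_mul_eq_one_right h1
      rw [← h2]; exact inv_eq hw'I.2
    have hwwv : w' * (w' * v) ∈ X := by
      rw [← mul_assoc, hw'w', one_mul]; exact hv.1
    have hpx : Orth X (w' * v) x :=
      h.orth_of_same hQ2 hwQ2 (Q2.mul_mem hwQ2 hvQ2) hxQ2 hwvX hwv1 hwwv hwx
    have hpy : Orth X (w' * v) y :=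
      h.orth_of_same hQ2 hwQ2 (Q2.mul_mem hwQ2 hvQ2) hyQ2 hwvX hwv1 hwwv hwy
    -- `w'` and `v` are conjugate in `C(η)`
    have hcw' : w' * η = η * w' := by
      rw [hw'z, ← mul_assoc η z η, hηz]
    have hcv : v * η = η * v := by
      rw [hηe]
      calc v * (w' * x * y) = (v * w') * x * y := by group
        _ = w' * (v * x) * y := by rw [← hwv]; group
        _ = w' * x * (v * y) := by rw [hvx.comm]; group
        _ = w' * x * y * v := by rw [hvy.comm]; group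
    obtain ⟨g, hg, hgv⟩ := d.exists_conj_in (U := centralizer ({η} : Set G)) hx hw hxw (mem_cent.2 hηx)
      (mem_cent.2 (hcγ' η hηin)) hw'I hv (mem_cent.2 hcw') (mem_cent.2 hcv)
    rw [mem_cent] at hg
    have hgη : g * η * g⁻¹ = η := by rw [hg]; group
    have ho' := ho.conj h g
    set ξ := v * η with hξ
    have hξ1 : ξ = g * x * g⁻¹ * (g * y * g⁻¹) := by
      have h1 : w' * η = z := by rw [hw'z, mul_assoc, hηη, mul_one]
      calc ξ = (g * w' * g⁻¹) * (g * η * g⁻¹) := by rw [hξ, hgv, hgη]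
        _ = g * (w' * η) * g⁻¹ := by group
        _ = _ := by rw [h1, hz]; group
    have hξ2 : ξ = (w' * v) * x * y := by
      rw [hξ, hηe]
      calc v * (w' * x * y) = (v * w') * x * y := by group
        _ = _ := by rw [← hwv]
    set C : Subgroup G := centralizer ({ξ} : Set G) with hC
    have hpQ2 : w' * v ∈ Q2 := Q2.mul_mem hwQ2 hvQ2
    have hcx : x * ξ = ξ * x := by
      rw [hξ2]
      calc x * (w' * v * x * y) = (x * (w' * v)) * x * y := by group
        _ = (w' * v) * x * (x * y) := by rw [← hpx.comm]; group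
        _ = (w' * v) * x * y * x := by rw [ho.comm]; group
    have hcy : y * ξ = ξ * y := by
      rw [hξ2]
      calc y * (w' * v * x * y) = (y * (w' * v)) * x * y := by group
        _ = (w' * v) * (y * x) * y := by rw [← hpy.comm]; group
        _ = (w' * v) * x * y * y := by rw [← ho.comm]; group
    have hcp : w' * v * ξ = ξ * (w' * v) := by
      rw [hξ2]
      calc w' * v * (w' * v * x * y) = w' * v * ((w' * v * x) * y) := by group
        _ = w' * v * (x * ((w' * v) * y)) := by rw [hpx.comm]; group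
        _ = w' * v * x * y * (w' * v) := by rw [hpy.comm]; group
    have hQ3 : IsPGroup 2 ((Q2 ⊓ C).subgroupOf C) :=
      (hQ2.to_le inf_le_left).of_equiv (Subgroup.subgroupOfEquivOfLe inf_le_right).symm
    obtain ⟨R, hR⟩ := hQ3.exists_le_sylow
    have hU : IsPGroup 2 (zpowers (g * x * g⁻¹) ⊔ zpowers (g * y * g⁻¹) : Subgroup G) := by
      refine isPGroup_sup_zpowers (isPGroup_zpowers_of_orderOf (orderOf_conj hx.2 g))
        (isPGroup_zpowers_of_orderOf (orderOf_conj hy.2 g)) ?_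
      intro q hq
      obtain ⟨n, rfl⟩ := mem_zpowers_iff.1 hq
      exact ((show Commute (g * x * g⁻¹) (g * y * g⁻¹) from ho'.comm).symm.zpow_right n).eq
    have hUC : (zpowers (g * x * g⁻¹) ⊔ zpowers (g * y * g⁻¹) : Subgroup G) ≤ C := by
      rw [sup_le_iff, zpowers_le, zpowers_le, hC, mem_cent, mem_cent, hξ1]
      refine ⟨?_, ?_⟩
      · rw [mul_assoc (g * x * g⁻¹), ← ho'.comm]
      · rw [← mul_assoc, ← ho'.comm]
    obtain ⟨c, hcC, hc⟩ := exists_conj_sylow_subgroup hU hUC R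
    have hR2 : IsPGroup 2 ((R : Subgroup C).map C.subtype) := R.2.map _
    have hin : ∀ q ∈ Q2, q * ξ = ξ * q → q ∈ (R : Subgroup C).map C.subtype := by
      intro q hq hqc
      have hqC : q ∈ C := by rw [hC, mem_cent]; exact hqc
      exact ⟨⟨q, hqC⟩, hR (by rw [mem_subgroupOf]; exact ⟨hq, hqC⟩), rfl⟩
    rw [hC, mem_cent] at hcC
    have hcξ : c * ξ * c⁻¹ = ξ := by rw [hcC]; group
    refine h.coord_three hR2 (hin _ hpQ2 hcp) (hin x hxQ2 hcx) (hin y hyQ2 hcy)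
      (hc _ (mem_sup_left (mem_zpowers _))) (hc _ (mem_sup_right (mem_zpowers _)))
      (h.conj_mem _ ho'.left c) (h.conj_mem _ ho'.right c) hpx ho hpy ?_
    rw [← hξ2, ← hcξ, hξ1]
    group
  · -- a larger subgroup
    have hQ : IsPGroup 2 (zpowers η ⊔ zpowers z : Subgroup G) := by
      refine hηp.to_sup_of_normal_left' (isPGroup_zpowers_of_orderOf (orderOf_eq_two hzz hz1)) ?_
      rw [zpowers_le, mem_normalizer_iff]
      have key : ∀ q ∈ zpowers η, z * q * z⁻¹ ∈ zpowers η := by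
        intro q hq
        obtain ⟨n, rfl⟩ := mem_zpowers_iff.1 hq
        rw [← conj_zpow]
        refine zpow_mem ?_ n
        have h1 : z * η * z⁻¹ = η⁻¹ := by rw [← hzη, hzi]
        rw [h1]; exact inv_mem (mem_zpowers η)
      intro q
      refine ⟨key q, fun hq => ?_⟩
      have h1 := key _ hq
      have e : z * (z * q * z⁻¹) * z⁻¹ = (z * z) * q * (z * z)⁻¹ := by group
      rw [e, hzz, one_mul, inv_one, mul_one] at h1
      exact h1
    have hηA : η ∈ 𝒜 := by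
      rw [← hzw']
      refine h.fam.mul_mem _ hQ z (mem_sup_right (mem_zpowers z)) w' ?_ hzA (h.sub hw'I.1)
      rw [hw'z]
      exact Subgroup.mul_mem _ (mem_sup_right (mem_zpowers z)) (mem_sup_left (mem_zpowers η))
    set Y' : Subgroup G := Y ⊔ zpowers η with hY'
    have hY'2 : IsPGroup 2 Y' := isPGroup_sup_zpowers hY hηp hηY
    have hY'A : ∀ q ∈ Y', q ∈ 𝒜 := by
      intro q hq
      have h1 : Y' ≤ fam 𝒜 Y' := by
        rw [hY', sup_le_iff, zpowers_le]
        exact ⟨fun q hq => mem_fam (hYA q hq) (mem_sup_left hq), mem_fam hηA (mem_sup_right (mem_zpowers η))⟩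
      exact ((h.fam.mem_fam_iff hY'2).1 (h1 hq)).1
    have hlt : Nat.card Y < Nat.card Y' := by
      by_contra hle
      rw [not_lt] at hle
      have h1 : Y = Y' := Subgroup.eq_of_le_of_card_ge le_sup_left hle
      apply hηin
      rw [h1]; exact mem_sup_right (mem_zpowers η)
    obtain ⟨a, ha, -, -, -, Q', hQ', hYQ', haQ', -, hca⟩ := (by
      obtain ⟨a, ha, b, hb, hab, Q', h1, h2, h3, h4, h5⟩ := exists_orth_in h d.two hY'2
      exact ⟨a, ha, trivial, trivial, trivial, Q', h1, h2, h3, trivial, fun q hq hqA => (h5 q hq hqA).1⟩ :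
      ∃ a : G, a ∈ IX X ∧ True ∧ True ∧ True ∧ ∃ Q' : Subgroup G, IsPGroup 2 Q' ∧ Y' ≤ Q' ∧ a ∈ Q' ∧ True ∧
        ∀ q ∈ Q', q ∈ 𝒜 → a * q = q * a)
    have hfixa : ∀ q ∈ Y', r (q * a * q⁻¹) a := fun q hq => d.st_of_comm (hca q (hYQ' hq) (hY'A q hq)).symm
    have huniq : ∀ e ∈ IX X, (∀ q ∈ Y', r (q * e * q⁻¹) e) → r a e := by
      intro e he hfe
      by_contra hae
      have := hmax Y' ⟨hY'2, hY'A, a, ha, e, he, hae, hfixa, hfe⟩
      exact absurd this (not_le.2 hlt)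
    have hnorm : ∀ s : G, (∀ q ∈ Y', s⁻¹ * q * s ∈ Y') → r (s * a * s⁻¹) a := by
      intro s hs
      refine d.eqv.symm (huniq _ (IX_conj h ha s) fun q hq => ?_)
      have h1 := d.conj s _ (IX_conj h ha (s⁻¹ * q * s)) a ha (hfixa _ (hs q hq))
      have e : s * (s⁻¹ * q * s * a * (s⁻¹ * q * s)⁻¹) * s⁻¹ = q * (s * a * s⁻¹) * q⁻¹ := by group
      rwa [e] at h1
    have hgen : ∀ s : G, (∀ q ∈ Y, s⁻¹ * q * s ∈ Y') → s⁻¹ * η * s ∈ Y' → ∀ q ∈ Y', s⁻¹ * q * s ∈ Y' := by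
      intro s h1 h2 q hq
      have h3 : Y' ≤ Y'.comap (MulAut.conj s⁻¹).toMonoidHom := by
        rw [hY', sup_le_iff, zpowers_le, ← hY']
        refine ⟨fun q hq => ?_, ?_⟩
        · rw [mem_comap]
          change s⁻¹ * q * s⁻¹⁻¹ ∈ Y'
          rw [inv_inv]; exact h1 q hq
        · rw [mem_comap]
          change s⁻¹ * η * s⁻¹⁻¹ ∈ Y'
          rw [inv_inv]; exact h2
      have h4 := h3 hq
      rw [mem_comap] at h4
      change s⁻¹ * q * s⁻¹⁻¹ ∈ Y' at h4
      rwa [inv_inv] at h4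
    have hηY' : η⁻¹ ∈ Y' := inv_mem (mem_sup_right (mem_zpowers η))
    have hza : r (z * a * z⁻¹) a := by
      refine hnorm z (hgen z (fun q hq => ?_) (by rw [hzη]; exact hηY'))
      have : z⁻¹ * q * z = q := by rw [mul_assoc, ← hzY q hq]; group
      rw [this]; exact mem_sup_left hq
    have hwa : r (w * a * w⁻¹) a := by
      refine hnorm w (hgen w (fun q hq => ?_) (by rw [hwη]; exact hηY'))
      have : w⁻¹ * q * w = q := by rw [mul_assoc, ← hcγ' q hq]; group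
      rw [this]; exact mem_sup_left hq
    exact hxw (d.eqv.trans (d.eq_of_mul_fix hx hy ho ha hza) (d.eqv.symm (d.eq_of_fix hw ha hwa)))

end Data

/-- **(UFP)** -/
theorem ufp [Finite G] {𝒜 X : Set G} (h : Multi 𝒜 X) (hR : Rich X) (hO : ∃ x y : G, Orth X x y)
    {r : G → G → Prop} (eqv : Equivalence r) (conj : ∀ g x y : G, r x y → r (g * x * g⁻¹) (g * y * g⁻¹))
    (comm : ∀ x ∈ X, ∀ y ∈ X, orderOf x = 2 → orderOf y = 2 → x * y = y * x → r x y) :
    ∀ x ∈ X, ∀ y ∈ X, orderOf x = 2 → orderOf y = 2 → r x y := by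
  intro x hx y hy ox oy
  have d : Data 𝒜 X r := ⟨h, hR, fun x hx y hy ho g hg => LocalSep.exists_conj_pair h hx.2 hy.2 ho hg, hO, eqv,
    fun g x _ y _ => conj g x y, fun x hx y hy => comm x hx.1 y hy.1 hx.2 hy.2⟩
  exact d.ufp ⟨hx, ox⟩ ⟨hy, oy⟩

end Cfsg.Agent.PermParts.Ufp
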