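import Cfsg.Agent.PermParts.Parts
import Cfsg.Agent.PermParts.LocalSep
import Cfsg.Agent.PermParts.Ufp

/-!
# The end of the proof of the permuted product theorem

`X` a rich multifamily with at least three parts, locally separated (`SepAt`), such that `[O(C(x)), v] = 1` for
orthogonal involutions `x, v` of `X`.  Then an involution `z` of `X` is orthogonal to one of `x, y`, for any two
orthogonal involutions `x, y` of `X`.
-/

set_option autoImplicit false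
set_option linter.style.haveILetI false
set_option maxHeartbeats 400000

namespace Cfsg.Agent.PermParts.Final

open Subgroup
open Cfsg.Agent.TwoFusion.ClosedFam Cfsg.Agent.TwoFusion.ClosedSimple
open Cfsg.Agent.TwoFusion.ClosedLocal hiding isPGroup_sup_zpowers
open Cfsg.Agent.PermParts.Basic
open Cfsg.Agent.PermParts.Ufp (IX)

variable {G : Type*} [Group G] [Finite G] {𝒜 X : Set G}

omit [Finite G] in
theorem eq_one_of_odd_sq {K : Subgroup G} (hK : Odd (Nat.card K)) {c : G} (hc : c ∈ K) (h2 : c * c = 1) :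
    c = 1 := by
  have h1 : orderOf c ∣ 2 := orderOf_dvd_of_pow_eq_one (by rw [pow_two]; exact h2)
  have h3 : orderOf c ∣ Nat.card K := Subgroup.orderOf_dvd_natCard K hc
  rw [← orderOf_eq_one_iff]
  have hodd : Odd (orderOf c) := hK.of_dvd_nat h3
  rcases (Nat.dvd_prime Nat.prime_two).1 h1 with h | h
  · exact h
  · rw [h] at hodd; exact absurd hodd (by decide)

omit [Finite G] in
/-- an involution `v` with `[v, v'] ∈ K`, `K` of odd order centralised by `v`, commutes with `v'`. -/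
theorem comm_of_comm_mem {K : Subgroup G} (hK : Odd (Nat.card K)) {v v' : G} (hv : v * v = 1)
    (hc : v * v' * v⁻¹ * v'⁻¹ ∈ K) (hcv : ∀ o ∈ K, o * v = v * o) : v * v' = v' * v := by
  have hvi : v⁻¹ = v := inv_eq_of_mul_eq_one_left hv
  set c := v * v' * v⁻¹ * v'⁻¹ with hcdef
  have h1 : c * v = v * c := hcv c hc
  have h2 : v * c = v' * v * v'⁻¹ := by
    rw [hcdef, hvi]
    calc v * (v * v' * v * v'⁻¹) = (v * v) * v' * v * v'⁻¹ := by group
      _ = v' * v * v'⁻¹ := by rw [hv, one_mul]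
  have h3 : c * c = 1 := by
    have e : (v * c) * (v * c) = 1 := by
      rw [h2]
      calc v' * v * v'⁻¹ * (v' * v * v'⁻¹) = v' * (v * v) * v'⁻¹ := by group
        _ = 1 := by rw [hv]; group
    calc c * c = (v * v) * (c * c) := by rw [hv, one_mul]
      _ = v * (v * c) * c := by group
      _ = v * (c * v) * c := by rw [← h1]
      _ = (v * c) * (v * c) := by group
      _ = 1 := e
  have h4 := eq_one_of_odd_sq hK hc h3
  rw [h4, mul_one] at h2
  calc v * v' = v' * v * v'⁻¹ * v' := by rw [← h2]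
    _ = v' * v := by group

/-- (J2) -/
theorem orth_of_not_rel (h : Multi 𝒜 X) {w v v' : G} {r : G → G → Prop} (hs : SepAt 𝒜 X w r)
    (hJ : ∀ o ∈ Oc w, o * v = v * o) (hvw : Orth X v w) (ov : orderOf v = 2) (hv' : v' ∈ X)
    (hc : v' * w = w * v') (hv'1 : v' ≠ 1) (hn : ¬ r v v') : Orth X v v' := by
  have hv1 := hvw.left_ne_one
  have hc0 := hs.comm v hvw.left v' hv' hvw.comm hc hv1 hv'1 hn
  have hcomm := comm_of_comm_mem (odd_Oc w) (mul_self ov) hc0 hJ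
  refine ⟨hvw.left, hv', hcomm, fun hX => hn ?_⟩
  have hQ : IsPGroup 2 (zpowers v ⊔ zpowers v' : Subgroup G) := by
    refine isPGroup_sup_zpowers (h.isPGroup_zpowers hvw.left) (h.isPGroup_zpowers hv') ?_
    rintro _ ⟨k, rfl⟩
    exact ((show Commute v v' from hcomm).symm.zpow_right k).eq
  exact hs.same _ hQ v (mem_sup_left (mem_zpowers v)) v' (mem_sup_right (mem_zpowers v')) hvw.left hv' hvw.comm hc
    hv1 hv'1 hX

/-- (J1) `w^⊥ ⊆ u^⊥` if `u` is an element of the part of `w`, commuting with `w`. -/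
theorem orth_of_same (h : Multi 𝒜 X) {w v u : G} {r : G → G → Prop} (hs : SepAt 𝒜 X w r)
    (hJ : ∀ o ∈ Oc w, o * v = v * o) (hvw : Orth X v w) (ov : orderOf v = 2) (hu : u ∈ X)
    (hc : u * w = w * u) (hu1 : u ≠ 1) (huw : u * w ∈ X) : Orth X v u := by
  have hw1 := hvw.right_ne_one
  refine orth_of_not_rel h hs hJ hvw ov hu hc hu1 fun hvu => ?_
  have hQ : IsPGroup 2 (zpowers u ⊔ zpowers w : Subgroup G) := by
    refine isPGroup_sup_zpowers (h.isPGroup_zpowers hu) (h.isPGroup_zpowers hvw.right) ?_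
    rintro _ ⟨k, rfl⟩
    exact ((show Commute w u from hc.symm).zpow_right k).eq
  have huw' := hs.same _ hQ u (mem_sup_left (mem_zpowers u)) w (mem_sup_right (mem_zpowers w)) hu hvw.right hc rfl
    hu1 hw1 huw
  exact hs.orth v w hvw hvw.comm rfl (hs.eqv.trans hvu huw')

/-- `Σ(x, y) = {z | z ⊥ x or z ⊥ y}` -/
def Sig (X : Set G) (x y : G) : Set G := {z | z ∈ IX X ∧ (Orth X z x ∨ Orth X z y)}

omit [Finite G] in
theorem Sig_comm (x y : G) : Sig X x y = Sig X y x := by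
  ext z
  exact and_congr_right fun _ => or_comm

/-- `Σ(x) = {z | z ∈ Σ(x, y) for all y ⊥ x}` -/
def Sig1 (X : Set G) (x : G) : Set G := {z | ∀ y ∈ IX X, Orth X x y → z ∈ Sig X x y}

structure Data (𝒜 X : Set G) : Prop where
  multi : Multi 𝒜 X
  rich : Rich X
  three : Three X
  sep : ∀ w ∈ X, orderOf w = 2 → ∃ r, SepAt 𝒜 X w r
  cent : ∀ x v : G, Orth X x v → orderOf x = 2 → orderOf v = 2 → ∀ o ∈ Oc x, o * v = v * o

namespace Data

variable (d : Data 𝒜 X)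
include d

/-- (J3) -/
theorem orth_or {x y v z : G} (hx : x ∈ IX X) (hy : y ∈ IX X) (hv : v ∈ IX X) (hz : z ∈ IX X)
    (hxy : Orth X x y) (hvy : Orth X v y) (hxv : Orth X x v) (hzy : Orth X z y) : Orth X z x ∨ Orth X z v := by
  obtain ⟨r, hs⟩ := d.sep y hy.1 hy.2
  have hJ : ∀ o ∈ Oc y, o * z = z * o := d.cent y z hzy.symm hy.2 hz.2
  by_cases h1 : r z x
  · refine Or.inr (orth_of_not_rel d.multi hs hJ hzy hz.2 hv.1 hvy.comm hvy.left_ne_one fun h2 => ?_)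
    exact hs.orth x v hxv hxy.comm hvy.comm (hs.eqv.trans (hs.eqv.symm h1) h2)
  · exact Or.inl (orth_of_not_rel d.multi hs hJ hzy hz.2 hx.1 hxy.comm hxy.left_ne_one h1)

/-- (J1) -/
theorem orth_congr {w u v : G} (hw : w ∈ IX X) (hu : u ∈ IX X) (hv : v ∈ IX X) (hc : u * w = w * u)
    (huw : u * w ∈ X) (hvw : Orth X v w) : Orth X v u := by
  obtain ⟨r, hs⟩ := d.sep w hw.1 hw.2
  exact orth_of_same d.multi hs (d.cent w v hvw.symm hw.2 hv.2) hvw hv.2 hu.1 hc (ne_one hu.2) huw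

theorem Sig_le_third {x y v : G} (hx : x ∈ IX X) (hy : y ∈ IX X) (hv : v ∈ IX X) (hxy : Orth X x y)
    (hyv : Orth X y v) (hxv : Orth X x v) : Sig X x y ⊆ Sig X x v := by
  rintro z ⟨hz, h1 | h1⟩
  · exact ⟨hz, Or.inl h1⟩
  · exact ⟨hz, d.orth_or hx hy hv hz hxy hyv.symm hxv h1⟩

theorem Sig_third {x y v : G} (hx : x ∈ IX X) (hy : y ∈ IX X) (hv : v ∈ IX X) (hxy : Orth X x y)
    (hyv : Orth X y v) (hxv : Orth X x v) : Sig X x y = Sig X x v :=
  Set.Subset.antisymm (d.Sig_le_third hx hy hv hxy hyv hxv) (d.Sig_le_third hx hv hy hxv hyv.symm hxy)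

theorem Sig_le_same {x u y : G} (hx : x ∈ IX X) (hu : u ∈ IX X) (hc : x * u = u * x) (hxu : x * u ∈ X) :
    Sig X x y ⊆ Sig X u y := by
  rintro z ⟨hz, h1 | h1⟩
  · exact ⟨hz, Or.inl (d.orth_congr hx hu hz hc.symm (by rw [← hc]; exact hxu) h1)⟩
  · exact ⟨hz, Or.inr h1⟩

theorem Sig_same {x u y : G} (hx : x ∈ IX X) (hu : u ∈ IX X) (hc : x * u = u * x) (hxu : x * u ∈ X) :
    Sig X x y = Sig X u y :=
  Set.Subset.antisymm (d.Sig_le_same hx hu hc hxu) (d.Sig_le_same hu hx hc.symm (by rw [← hc]; exact hxu))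

theorem exists_third {x y : G} (hx : x ∈ IX X) (hy : y ∈ IX X) (hxy : Orth X x y) :
    ∃ z ∈ IX X, Orth X x z ∧ Orth X y z := by
  have hQ := Parts.orth_isPGroup d.multi hxy
  obtain ⟨T, hT⟩ := hQ.exists_le_sylow
  obtain ⟨z, hz, -, oz, h1, h2, -⟩ := Parts.exists_third d.multi T d.three hx.1
    (hT (mem_sup_left (mem_zpowers x))) (ne_one hx.2) hy.1 (hT (mem_sup_right (mem_zpowers y))) (ne_one hy.2)
  exact ⟨z, ⟨hz, oz⟩, h1, h2⟩

theorem Sig_congr {x y y' : G} (hx : x ∈ IX X) (hy : y ∈ IX X) (hy' : y' ∈ IX X) (hxy : Orth X x y)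
    (hxy' : Orth X x y') : Sig X x y = Sig X x y' := by
  obtain ⟨r, hs⟩ := d.sep x hx.1 hx.2
  have key : ∀ u ∈ IX X, ∀ v ∈ IX X, Orth X x u → Orth X x v → ¬ r u v → Sig X x u = Sig X x v := by
    intro u hu v hv hxu hxv hn
    have huv : Orth X u v := orth_of_not_rel d.multi hs (d.cent x u hxu hx.2 hu.2) hxu.symm hu.2 hv.1
      hxv.comm.symm hxv.right_ne_one hn
    exact d.Sig_third hx hu hv hxu huv hxv
  by_cases h1 : r y y'
  · obtain ⟨z, hz, hxz, hyz⟩ := d.exists_third hx hy hxy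
    have h2 : ¬ r y z := hs.orth y z hyz hxy.comm.symm hxz.comm.symm
    have h3 : ¬ r y' z := fun h4 => h2 (hs.eqv.trans h1 h4)
    rw [key y hy z hz hxy hxz h2, key y' hy' z hz hxy' hxz h3]
  · exact key y hy y' hy' hxy hxy' h1

theorem exists_orth {x : G} (hx : x ∈ IX X) : ∃ y ∈ IX X, Orth X x y := by
  obtain ⟨T, hT⟩ := (d.multi.isPGroup_zpowers hx.1).exists_le_sylow
  obtain ⟨a, b, c, hab, -, -⟩ := d.three
  obtain ⟨z, hz, -, oz, h1, -, -⟩ := Parts.exists_third d.multi T d.three hx.1 (hT (mem_zpowers x))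
    (ne_one hx.2) hx.1 (hT (mem_zpowers x)) (ne_one hx.2)
  exact ⟨z, ⟨hz, oz⟩, h1⟩

theorem Sig1_eq {x y : G} (hx : x ∈ IX X) (hy : y ∈ IX X) (hxy : Orth X x y) : Sig1 X x = Sig X x y := by
  ext z
  constructor
  · intro hz; exact hz y hy hxy
  · intro hz y' hy' hxy'
    rw [← d.Sig_congr hx hy hy' hxy hxy']; exact hz

theorem Sig1_congr {x x' : G} (hx : x ∈ IX X) (hx' : x' ∈ IX X) (hc : x * x' = x' * x) :
    Sig1 X x = Sig1 X x' := by
  by_cases h1 : x * x' ∈ X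
  · obtain ⟨y, hy, hxy⟩ := d.exists_orth hx
    have hx'y : Orth X x' y := (d.orth_congr hx hx' hy hc.symm (by rw [← hc]; exact h1) hxy.symm).symm
    rw [d.Sig1_eq hx hy hxy, d.Sig1_eq hx' hy hx'y, d.Sig_same hx hx' hc h1]
  · have ho : Orth X x x' := ⟨hx.1, hx'.1, hc, h1⟩
    rw [d.Sig1_eq hx hx' ho, d.Sig1_eq hx' hx ho.symm, Sig_comm]

omit [Finite G] in
theorem Sig1_conj {x z : G} (g : G) (hz : z ∈ Sig1 X x) : g * z * g⁻¹ ∈ Sig1 X (g * x * g⁻¹) := by
  intro y hy ho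
  have hy' : g⁻¹ * y * g⁻¹⁻¹ ∈ IX X := ⟨d.multi.conj_mem y hy.1 g⁻¹, orderOf_conj hy.2 g⁻¹⟩
  have ho' : Orth X x (g⁻¹ * y * g⁻¹⁻¹) := by
    have := ho.conj d.multi g⁻¹
    have e : g⁻¹ * (g * x * g⁻¹) * g⁻¹⁻¹ = x := by group
    rwa [e] at this
  obtain ⟨h1, h2⟩ := hz _ hy' ho'
  refine ⟨⟨d.multi.conj_mem z h1.1 g, orderOf_conj h1.2 g⟩, ?_⟩
  rcases h2 with h2 | h2
  · exact Or.inl (h2.conj d.multi g)
  · right
    have := h2.conj d.multi g
    have e : g * (g⁻¹ * y * g⁻¹⁻¹) * g⁻¹ = y := by group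
    rwa [e] at this

/-- **(h)** -/
theorem orth_or_orth {x y z : G} (hx : x ∈ IX X) (hy : y ∈ IX X) (hz : z ∈ IX X) (hxy : Orth X x y) :
    Orth X z x ∨ Orth X z y := by
  have key := Ufp.ufp d.multi d.rich (by obtain ⟨a, b, c, hab, -, -⟩ := d.three; exact ⟨a, b, hab⟩)
    (r := fun x y => Sig1 X x = Sig1 X y) ⟨fun _ => rfl, fun h => h.symm, fun h1 h2 => h1.trans h2⟩
    (by
      intro g x y hxy
      have hle : ∀ x y : G, Sig1 X x = Sig1 X y → Sig1 X (g * x * g⁻¹) ⊆ Sig1 X (g * y * g⁻¹) := by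
        intro x y hxy z hz
        have h1 := d.Sig1_conj g⁻¹ hz
        have e : g⁻¹ * (g * x * g⁻¹) * g⁻¹⁻¹ = x := by group
        rw [e, hxy] at h1
        have h2 := d.Sig1_conj g h1
        have e2 : g * (g⁻¹ * z * g⁻¹⁻¹) * g⁻¹ = z := by group
        rwa [e2] at h2
      exact Set.Subset.antisymm (hle x y hxy) (hle y x hxy.symm))
    (fun x hx y hy ox oy hc => d.Sig1_congr ⟨hx, ox⟩ ⟨hy, oy⟩ hc)
  obtain ⟨w, hw, hzw⟩ := d.exists_orth hz
  have h1 : z ∈ Sig1 X w := by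
    intro v _ _
    exact ⟨hz, Or.inl hzw⟩
  rw [key w hw.1 x hx.1 hw.2 hx.2, d.Sig1_eq hx hy hxy] at h1
  exact h1.2

end Data

/-- **GPP**: the end of the proof. -/
theorem gpp (h : Multi 𝒜 X) (hR : Rich X) (h3 : Three X)
    (hsep : ∀ w ∈ X, orderOf w = 2 → ∃ r, SepAt 𝒜 X w r)
    (hJ : ∀ x v : G, Orth X x v → orderOf x = 2 → orderOf v = 2 → ∀ o ∈ Oc x, o * v = v * o) :
    ∀ x y z : G, Orth X x y → z ∈ X → orderOf x = 2 → orderOf y = 2 → orderOf z = 2 →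
      Orth X z x ∨ Orth X z y := by
  intro x y z hxy hz ox oy oz
  have d : Data 𝒜 X := ⟨h, hR, h3, hsep, hJ⟩
  exact d.orth_or_orth ⟨hxy.left, ox⟩ ⟨hxy.right, oy⟩ ⟨hz, oz⟩ hxy

end Cfsg.Agent.PermParts.Final
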