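import Cfsg.Agent.PermParts.Functor
import Cfsg.Agent.PermParts.Ufp

/-!
# Theorem PP (permuted parts): the functor is constant

`Ctx 𝒜 X` (the local input of `PermParts/Functor.lean`) and `O(G) = 1` give `[O_x, y] = 1` and `O_x ∩ O_y = 1` for
orthogonal involutions `x ⊥ y` of `X`: `Wx` is constant by `Ufp.ufp`.
-/

set_option autoImplicit false
set_option linter.style.haveILetI false
set_option maxHeartbeats 400000
set_option linter.unusedSectionVars false

namespace Cfsg.Agent.PermParts.Functor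

open Subgroup
open scoped commutatorElement
open Cfsg.Agent.TwoFusion.ClosedFam
open Cfsg.Agent.TwoFusion.ClosedFunctor Cfsg.Agent.TwoFusion.ClosedFour Cfsg.Agent.TwoFusion.GoldWFunctor
open Cfsg.Agent.TwoFusion.ClosedSimple
open Cfsg.Agent.PermParts.Basic Cfsg.Agent.PermParts.Parts
open Cfsg.Agent.ProdFusion.Functor

variable {G : Type*} [Group G] [Finite G]

namespace Ctx

theorem wx_conj_le {𝒜 X : Set G} (hM : Multi 𝒜 X) (x g : G) :
    (Wx X x).map (MulAut.conj g).toMonoidHom ≤ Wx X (g * x * g⁻¹) := by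
  rw [map_le_iff_le_comap]
  refine iSup_le fun y => ?_
  rw [← map_le_iff_le_comap, map_Wab]
  exact le_iSup (fun y : {y : G // OI X (g * x * g⁻¹) y} => Wab (g * x * g⁻¹) (y : G))
    ⟨g * y * g⁻¹, y.2.conj hM g⟩

theorem wx_conj {𝒜 X : Set G} (hM : Multi 𝒜 X) (x g : G) :
    Wx X (g * x * g⁻¹) = (Wx X x).map (MulAut.conj g).toMonoidHom := by
  refine le_antisymm ?_ (wx_conj_le hM x g)
  have h := wx_conj_le hM (g * x * g⁻¹) g⁻¹
  have e : g⁻¹ * (g * x * g⁻¹) * g⁻¹⁻¹ = x := by group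
  rw [e] at h
  intro t ht
  refine ⟨g⁻¹ * t * g, ?_, ?_⟩
  · have := h ⟨t, ht, rfl⟩
    change g⁻¹ * t * g⁻¹⁻¹ ∈ Wx X x at this
    rwa [inv_inv] at this
  · change g * (g⁻¹ * t * g) * g⁻¹ = t
    group

variable {𝒜 X : Set G} (c : Ctx 𝒜 X)
include c

theorem exists_orth : ∃ x y : G, Orth X x y := by
  obtain ⟨a, b, _, hab, _⟩ := c.three
  exact ⟨a, b, hab⟩

theorem const : ∀ x ∈ X, ∀ y ∈ X, orderOf x = 2 → orderOf y = 2 → Wx X x = Wx X y := by
  refine Ufp.ufp (r := fun x y => Wx X x = Wx X y) c.multi c.rich c.exists_orth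
    ⟨fun _ => rfl, fun h => h.symm, fun h h' => h.trans h'⟩ (fun g x y h => ?_)
    (fun x hx y hy ox oy hxy => c.Wx_comm hx hy ox oy hxy)
  rw [wx_conj c.multi, wx_conj c.multi, h]

/-- **The conclusion of the functor part**: `[O_x, y] = 1` and `O_x ∩ O_y = 1` for orthogonal involutions. -/
theorem core_comm_of_oddCore (hO : Cfsg.oddCore G = ⊥) {x y : G} (h : OI X x y) :
    (∀ v ∈ Oc x, v * y = y * v) ∧ Oc x ⊓ Oc y = ⊥ :=
  c.core_comm hO c.const h

end Ctx

end Cfsg.Agent.PermParts.Functor
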