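import Cfsg.Agent.PermParts.Parts
import Cfsg.Agent.TwoFusion.ClosedFunctor

/-!
# The permuted product theorem implies that `⟨𝒜⟩` does not permute the parts
-/

set_option autoImplicit false
set_option linter.style.haveILetI false

namespace Cfsg.Agent.PermParts.GppNoSwap

open Subgroup
open Cfsg.Agent.TwoFusion.ClosedFam Cfsg.Agent.TwoFusion.ClosedSimple
open Cfsg.Agent.TwoFusion.ClosedLocal (mul_self ne_one orderOf_conj)
open Cfsg.Agent.PermParts.Basic Cfsg.Agent.PermParts.Parts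

variable {G : Type*} [Group G] {𝒜 X : Set G}

/-- Pairwise orthogonal involutions. -/
def Ps (X : Set G) (s : Finset G) : Prop :=
  (∀ x ∈ s, x ∈ X ∧ orderOf x = 2) ∧ ∀ x ∈ s, ∀ y ∈ s, x ≠ y → Orth X x y

theorem exists_max [Finite G] (X : Set G) : ∃ s : Finset G, Ps X s ∧ ∀ t : Finset G, Ps X t → t.card ≤ s.card := by
  classical
  haveI := Fintype.ofFinite G
  obtain ⟨s, hs, hmax⟩ := (Finset.univ.filter (Ps X)).exists_max_image Finset.card
    ⟨∅, Finset.mem_filter.2 ⟨Finset.mem_univ _, by constructor <;> simp⟩⟩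
  exact ⟨s, (Finset.mem_filter.1 hs).2, fun t ht => hmax t (Finset.mem_filter.2 ⟨Finset.mem_univ _, ht⟩)⟩

section

variable (h : Multi 𝒜 X)
include h

theorem not_orth_self {x : G} : ¬ Orth X x x := by
  intro ho
  apply ho.notMem
  have := (h.pow_mem ho.left 2).1
  rwa [pow_two] at this

/-- no involution is orthogonal to all the involutions of `X ∩ T`. -/
theorem exists_not_orth [Finite G] (T : Sylow 2 G) {x : G} (hx : x ∈ X) (ox : orderOf x = 2) :
    ∃ t ∈ X, t ∈ (T : Subgroup G) ∧ orderOf t = 2 ∧ ¬ Orth X x t := by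
  classical
  by_contra hcon
  push Not at hcon
  obtain ⟨s, hs, hmax⟩ := exists_max X
  have hp : IsPGroup 2 (closure (s : Set G)) := by
    refine Cfsg.Agent.TwoFusion.ClosedFunctor.isPGroup_closure_of_comm _ (fun y hy => mul_self (hs.1 y hy).2) ?_
    intro y hy z hz
    by_cases e : y = z
    · rw [e]
    · exact (hs.2 y hy z hz e).comm
  obtain ⟨g, -, hg⟩ := exists_fam_conj_sylow h.fam hp T
  have hinj : Function.Injective (fun y : G => g * y * g⁻¹) := by
    intro a b hab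
    have h1 : g * a * g⁻¹ = g * b * g⁻¹ := hab
    exact mul_left_cancel (mul_right_cancel h1)
  set s' : Finset G := s.image (fun y : G => g * y * g⁻¹) with hs'
  have hs'X : ∀ y ∈ s', y ∈ X ∧ orderOf y = 2 := by
    intro y hy
    obtain ⟨z, hz, rfl⟩ := Finset.mem_image.1 hy
    exact ⟨h.conj_mem z (hs.1 z hz).1 g, orderOf_conj (hs.1 z hz).2 g⟩
  have hs'T : ∀ y ∈ s', y ∈ (T : Subgroup G) := by
    intro y hy
    obtain ⟨z, hz, rfl⟩ := Finset.mem_image.1 hy
    exact hg z (subset_closure hz) (h.sub (hs.1 z hz).1)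
  have hs'o : ∀ y ∈ s', ∀ z ∈ s', y ≠ z → Orth X y z := by
    intro y hy z hz hne
    obtain ⟨a, ha, rfl⟩ := Finset.mem_image.1 hy
    obtain ⟨b, hb, rfl⟩ := Finset.mem_image.1 hz
    exact (hs.2 a ha b hb fun e => hne (by rw [e])).conj h g
  have hxs : ∀ y ∈ s', Orth X x y := fun y hy => hcon y (hs'X y hy).1 (hs'T y hy) (hs'X y hy).2
  have hxn : x ∉ s' := fun hxs' => not_orth_self h (hxs x hxs')
  have h1 := hmax (insert x s') ⟨?_, ?_⟩
  · rw [Finset.card_insert_of_notMem hxn, hs', Finset.card_image_of_injective _ hinj] at h1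
    omega
  · intro y hy
    rcases Finset.mem_insert.1 hy with e | hy'
    · rw [e]; exact ⟨hx, ox⟩
    · exact hs'X y hy'
  · intro y hy z hz hne
    rcases Finset.mem_insert.1 hy with e | hy'
    · rcases Finset.mem_insert.1 hz with e' | hz'
      · exact absurd (e.trans e'.symm) hne
      · rw [e]; exact hxs z hz'
    · rcases Finset.mem_insert.1 hz with e' | hz'
      · rw [e']; exact (hxs y hy').symm
      · exact hs'o y hy' z hz' hne

variable (hG : ∀ x y z : G, Orth X x y → z ∈ X → orderOf x = 2 → orderOf y = 2 → orderOf z = 2 →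
  Orth X z x ∨ Orth X z y)
include hG

/-- elements of `𝒜` fix the classes -/
theorem not_orth_conj [Finite G] {u x : G} (hu : u ∈ 𝒜) (hx : x ∈ X) (ox : orderOf x = 2) :
    ¬ Orth X (u * x * u⁻¹) x := by
  intro ho
  obtain ⟨T, hT⟩ := (h.fam.isPGroup_zpowers hu).exists_le_sylow
  have huT : u ∈ (T : Subgroup G) := hT (mem_zpowers u)
  obtain ⟨t, htX, htT, ot, hxt⟩ := exists_not_orth h T hx ox
  apply hxt
  rcases hG _ _ t ho htX (orderOf_conj ox u) ox ot with h1 | h1
  · have h2 := h1.conj h u⁻¹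
    have e : u⁻¹ * (u * x * u⁻¹) * u⁻¹⁻¹ = x := by group
    rw [e] at h2
    rcases hG _ _ t h2 htX (orderOf_conj ot u⁻¹) ox ot with h3 | h3
    · exact absurd (h.normal T T.2 t htT u⁻¹ (inv_mem huT) (h.fam.inv_mem hu) htX) h3.notMem
    · exact h3.symm
  · exact h1.symm

/-- `⟨𝒜⟩` fixes the classes -/
theorem not_orth_fam_conj [Finite G] {g : G} (hg : g ∈ fam 𝒜 (⊤ : Subgroup G)) :
    ∀ x ∈ X, orderOf x = 2 → ¬ Orth X (g * x * g⁻¹) x := by
  unfold fam at hg
  refine closure_induction (p := fun g _ => ∀ x ∈ X, orderOf x = 2 → ¬ Orth X (g * x * g⁻¹) x) ?_ ?_ ?_ ?_ hg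
  · intro u hu x hx ox
    exact not_orth_conj h hG hu.1 hx ox
  · intro x _ _ ho
    rw [one_mul, inv_one, mul_one] at ho
    exact not_orth_self h ho
  · intro a b _ _ iha ihb x hx ox ho
    have e : a * b * x * (a * b)⁻¹ = a * (b * x * b⁻¹) * a⁻¹ := by group
    rw [e] at ho
    have hbx := h.conj_mem x hx b
    rcases hG _ _ (b * x * b⁻¹) ho hbx (orderOf_conj (orderOf_conj ox b) a) ox (orderOf_conj ox b) with h1 | h1
    · exact iha _ hbx (orderOf_conj ox b) h1.symm
    · exact ihb x hx ox h1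
  · intro a _ iha x hx ox ho
    have h2 := ho.conj h a
    have e : a * (a⁻¹ * x * a⁻¹⁻¹) * a⁻¹ = x := by group
    rw [e] at h2
    exact iha x hx ox h2.symm

theorem noSwap_of_gpp [Finite G] : NoSwap 𝒜 X := by
  intro x y hxy g hg Q hQ hgx hy hmem
  have hR := orth_isPGroup h hxy
  have hxR : x ∈ zpowers x ⊔ zpowers y := mem_sup_left (mem_zpowers x)
  have hyR : y ∈ zpowers x ⊔ zpowers y := mem_sup_right (mem_zpowers y)
  have hx1 := hxy.left_ne_one
  have hy1 := hxy.right_ne_one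
  -- involutions in the parts of `x`, `y`
  obtain ⟨a, haX, haQ, oa, hxa⟩ := exists_involution h (h.isPGroup_zpowers hxy.left) hxy.left (mem_zpowers x) hx1
  obtain ⟨b, hbX, hbQ, ob, hyb⟩ := exists_involution h (h.isPGroup_zpowers hxy.right) hxy.right (mem_zpowers y) hy1
  have ha1 := ne_one oa
  have hb1 := ne_one ob
  have haR : a ∈ zpowers x ⊔ zpowers y := mem_sup_left haQ
  have hbR : b ∈ zpowers x ⊔ zpowers y := mem_sup_right hbQ
  have hab : Orth X a b :=
    orth_of_same_right h hR haR hyR hbR hbX hb1 hyb (h.orth_of_same hR hxR haR hyR haX ha1 hxa hxy)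
  have hgaQ : g * a * g⁻¹ ∈ Q := by
    obtain ⟨n, hn⟩ := mem_zpowers_iff.1 haQ
    have e : g * a * g⁻¹ = (g * x * g⁻¹) ^ n := by rw [conj_zpow, hn]
    rw [e]; exact zpow_mem hgx n
  have hbQ' : b ∈ Q := by
    obtain ⟨n, hn⟩ := mem_zpowers_iff.1 hbQ
    rw [← hn]; exact zpow_mem hy n
  have hgxX := h.conj_mem x hxy.left g
  have hgaX := h.conj_mem a haX g
  have hgx1 : g * x * g⁻¹ ≠ 1 := fun e => hx1 (conj_eq_one_iff.1 e)
  have h1 : g * a * g⁻¹ * (g * x * g⁻¹) ∈ X := by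
    have := h.conj_mem _ (h.symm hxa) g
    have e : g * (a * x) * g⁻¹ = g * a * g⁻¹ * (g * x * g⁻¹) := by group
    rwa [e] at this
  have h2 : g * a * g⁻¹ * y ∈ X := h.trans Q hQ _ hgaQ _ hgx y hy hgaX hgxX hxy.right hgx1 h1 hmem
  have h3 : g * a * g⁻¹ * b ∈ X := h.trans Q hQ _ hgaQ y hy b hbQ' hgaX hxy.right hbX hy1 h2 hyb
  rcases hG a b (g * a * g⁻¹) hab hgaX oa ob (orderOf_conj oa g) with h4 | h4
  · exact not_orth_fam_conj h hG hg a haX oa h4
  · exact h4.notMem h3

end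

end Cfsg.Agent.PermParts.GppNoSwap
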