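import Cfsg.Agent.PermParts.Basic

/-!
# Multifamilies in quotients by normal subgroups of odd order
-/

set_option autoImplicit false
set_option linter.style.haveILetI false

namespace Cfsg.Agent.PermParts.Quot

open Subgroup
open Cfsg.Agent.TwoFusion.ClosedFam
open Cfsg.Agent.PermParts.Basic

variable {G K : Type*} [Group G] [Group K] [Finite G] {f : G →* K}

/-- elements of a 2-subgroup with the same image modulo an odd kernel are equal -/
theorem eq_of_map_eq (hodd : Odd (Nat.card f.ker)) {Q : Subgroup G} (hQ : IsPGroup 2 Q) {x y : G} (hx : x ∈ Q)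
    (hy : y ∈ Q) (hxy : f x = f y) : x = y := by
  have hk : x⁻¹ * y ∈ f.ker := by rw [MonoidHom.mem_ker, map_mul, map_inv, hxy]; group
  have hq : x⁻¹ * y ∈ Q := mul_mem (inv_mem hx) hy
  obtain ⟨k, hk2⟩ := hQ ⟨_, hq⟩
  have hk3 : (x⁻¹ * y) ^ 2 ^ k = 1 := congrArg Subtype.val hk2
  have hd1 : orderOf (x⁻¹ * y) ∣ 2 ^ k := orderOf_dvd_of_pow_eq_one hk3
  have hd2 : orderOf (x⁻¹ * y) ∣ Nat.card f.ker := by
    have := orderOf_dvd_natCard (⟨_, hk⟩ : f.ker)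
    rwa [← Subgroup.orderOf_coe] at this
  have hc : Nat.Coprime (2 ^ k) (Nat.card f.ker) := Nat.Coprime.pow_left k (Nat.coprime_two_left.2 hodd)
  have := Nat.eq_one_of_dvd_coprimes hc hd1 hd2
  exact inv_mul_eq_one.1 (orderOf_eq_one_iff.1 this)

/-- lifting of a 2-subgroup of the quotient, with the elements of a conjugation invariant set of 2-elements -/
theorem exists_lift' (hf : Function.Surjective f) (hodd : Odd (Nat.card f.ker)) (Q' : Subgroup K)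
    (hQ' : IsPGroup 2 Q') :
    ∃ Q : Subgroup G, IsPGroup 2 Q ∧ Q.map f = Q' ∧
      (∀ x : G, IsPGroup 2 (zpowers x) → f x ∈ Q' → ∃ n ∈ f.ker, n * x * n⁻¹ ∈ Q) ∧
      (∀ Y : Set G, (∀ y ∈ Y, ∀ g : G, g * y * g⁻¹ ∈ Y) → (∀ y ∈ Y, IsPGroup 2 (zpowers y)) →
        ∀ q ∈ Q, f q ∈ f '' Y ↔ q ∈ Y) := by
  obtain ⟨Q, hQ, hmap, hlift⟩ := exists_lift hf Q' hQ'
  refine ⟨Q, hQ, hmap, hlift, fun Y hconj hY2 q hq => ⟨?_, fun h => ⟨q, h, rfl⟩⟩⟩
  rintro ⟨y, hy, hyq⟩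
  have hqQ' : f q ∈ Q' := by rw [← hmap]; exact ⟨q, hq, rfl⟩
  obtain ⟨n, hn, hny⟩ := hlift y (hY2 y hy) (by rw [hyq]; exact hqQ')
  have : n * y * n⁻¹ = q := by
    refine eq_of_map_eq hodd hQ hny hq ?_
    rw [MonoidHom.mem_ker] at hn
    rw [map_mul, map_mul, map_inv, hn, hyq]; group
  rw [← this]
  exact hconj y hy n

/-- 2-elements with the same image modulo an odd kernel are conjugate under the kernel -/
theorem exists_conj_of_map_eq (hf : Function.Surjective f) (hodd : Odd (Nat.card f.ker)) {x y : G}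
    (hx : IsPGroup 2 (zpowers x)) (hy : IsPGroup 2 (zpowers y)) (hxy : f x = f y) :
    ∃ n ∈ f.ker, n * x * n⁻¹ = y := by
  obtain ⟨Q, hQ, hmap, hlift⟩ := exists_lift hf _ (hx.map f)
  have hxQ : f x ∈ (zpowers x).map f := ⟨x, mem_zpowers x, rfl⟩
  obtain ⟨n, hn, hnx⟩ := hlift x hx hxQ
  obtain ⟨m, hm, hmy⟩ := hlift y hy (by rw [← hxy]; exact hxQ)
  have h1 : n * x * n⁻¹ = m * y * m⁻¹ := by
    refine eq_of_map_eq hodd hQ hnx hmy ?_
    rw [MonoidHom.mem_ker] at hn hm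
    rw [map_mul, map_mul, map_inv, map_mul, map_mul, map_inv, hn, hm, hxy]
  refine ⟨m⁻¹ * n, mul_mem (inv_mem hm) hn, ?_⟩
  have e : m⁻¹ * n * x * (m⁻¹ * n)⁻¹ = m⁻¹ * (n * x * n⁻¹) * m := by group
  rw [e, h1]; group

/-- a 2-element is in a conjugation invariant set `Y` of 2-elements iff its image is in the image of `Y` -/
theorem map_mem_image_iff (hf : Function.Surjective f) (hodd : Odd (Nat.card f.ker)) {Y : Set G}
    (hconj : ∀ y ∈ Y, ∀ g : G, g * y * g⁻¹ ∈ Y) (hY2 : ∀ y ∈ Y, IsPGroup 2 (zpowers y)) {x : G}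
    (hx : IsPGroup 2 (zpowers x)) : f x ∈ f '' Y ↔ x ∈ Y := by
  refine ⟨?_, fun h => ⟨x, h, rfl⟩⟩
  rintro ⟨y, hy, hyx⟩
  obtain ⟨n, -, hn⟩ := exists_conj_of_map_eq hf hodd (hY2 y hy) hx hyx
  rw [← hn]
  exact hconj y hy n

theorem orderOf_map_eq (hodd : Odd (Nat.card f.ker)) {x : G} (hx : IsPGroup 2 (zpowers x)) :
    orderOf (f x) = orderOf x := by
  apply Nat.dvd_antisymm (orderOf_map_dvd f x)
  apply orderOf_dvd_of_pow_eq_one
  refine eq_of_map_eq hodd hx (npow_mem_zpowers x _) (one_mem _) ?_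
  rw [map_pow, pow_orderOf_eq_one, map_one]

section Multi

variable {𝒜 X : Set G} (h : Multi 𝒜 X) (hf : Function.Surjective f) (hodd : Odd (Nat.card f.ker))
include h hf hodd

theorem mem_image_iff {x : G} (hx : IsPGroup 2 (zpowers x)) : f x ∈ f '' X ↔ x ∈ X :=
  map_mem_image_iff hf hodd h.conj_mem (fun _ hy => h.isPGroup_zpowers hy) hx

theorem mem_image_iff_fam {x : G} (hx : IsPGroup 2 (zpowers x)) : f x ∈ f '' 𝒜 ↔ x ∈ 𝒜 :=
  map_mem_image_iff hf hodd h.fam.conj_mem (fun _ hy => h.fam.isPGroup_zpowers hy) hx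

theorem exists_lift_multi (Q' : Subgroup K) (hQ' : IsPGroup 2 Q') :
    ∃ Q : Subgroup G, IsPGroup 2 Q ∧ Q.map f = Q' ∧ (∀ q ∈ Q, f q ∈ f '' X ↔ q ∈ X) ∧
      (∀ q ∈ Q, f q ∈ f '' 𝒜 ↔ q ∈ 𝒜) := by
  obtain ⟨Q, hQ, hmap, -, hY⟩ := exists_lift' hf hodd Q' hQ'
  exact ⟨Q, hQ, hmap, hY X h.conj_mem (fun _ hy => h.isPGroup_zpowers hy),
    hY 𝒜 h.fam.conj_mem (fun _ hy => h.fam.isPGroup_zpowers hy)⟩

/-- A multifamily passes to quotients by normal subgroups of odd order. -/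
theorem multi : Multi (f '' 𝒜) (f '' X) where
  fam := h.fam.image hf
  sub := Set.image_mono h.sub
  one_mem := ⟨1, h.one_mem, map_one f⟩
  conj_mem := by
    rintro _ ⟨x, hx, rfl⟩ g
    obtain ⟨g, rfl⟩ := hf g
    exact ⟨g * x * g⁻¹, h.conj_mem x hx g, by simp⟩
  inv_mem := by
    rintro _ ⟨x, hx, rfl⟩
    exact ⟨x⁻¹, h.inv_mem x hx, map_inv f x⟩
  trans := by
    intro Q' hQ' x' hx' y' hy' z' hz' hxX hyX hzX hy1 hxy hyz
    obtain ⟨Q, hQ, hmap, hX, -⟩ := exists_lift_multi h hf hodd Q' hQ'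
    rw [← hmap] at hx' hy' hz'
    obtain ⟨x, hx, rfl⟩ := hx'
    obtain ⟨y, hy, rfl⟩ := hy'
    obtain ⟨z, hz, rfl⟩ := hz'
    rw [← map_mul, hX _ (mul_mem hx hy)] at hxy
    rw [← map_mul, hX _ (mul_mem hy hz)] at hyz
    rw [hX _ hx] at hxX
    rw [hX _ hy] at hyX
    rw [hX _ hz] at hzX
    rw [← map_mul, hX _ (mul_mem hx hz)]
    exact h.trans Q hQ x hx y hy z hz hxX hyX hzX (fun e => hy1 (by rw [e, map_one])) hxy hyz
  normal := by
    intro Q' hQ' x' hx' q' hq' hq𝒜 hxX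
    obtain ⟨Q, hQ, hmap, hX, h𝒜⟩ := exists_lift_multi h hf hodd Q' hQ'
    rw [← hmap] at hx' hq'
    obtain ⟨x, hx, rfl⟩ := hx'
    obtain ⟨q, hq, rfl⟩ := hq'
    rw [h𝒜 _ hq] at hq𝒜
    rw [hX _ hx] at hxX
    have e : f x * (f q * f x * (f q)⁻¹) = f (x * (q * x * q⁻¹)) := by simp
    rw [e, hX _ (mul_mem hx (mul_mem (mul_mem hq hx) (inv_mem hq)))]
    exact h.normal Q hQ x hx q hq hq𝒜 hxX
  indep := by
    intro Q' hQ' c' hc' hcX hc1 x' hx' hxX hxc hcl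
    obtain ⟨Q, hQ, hmap, hX, -⟩ := exists_lift_multi h hf hodd Q' hQ'
    have hc'' := hc'
    rw [← hmap] at hc' hx'
    obtain ⟨c, hc, rfl⟩ := hc'
    obtain ⟨x, hx, rfl⟩ := hx'
    rw [hX _ hc] at hcX
    rw [hX _ hx] at hxX
    rw [← map_mul, hX _ (mul_mem hx hc)] at hxc
    have hle : closure {y : K | y ∈ Q' ∧ y ∈ f '' X ∧ y * f c ∉ f '' X} ≤
        (closure {y : G | y ∈ Q ∧ y ∈ X ∧ y * c ∉ X}).map f := by
      rw [closure_le]
      rintro y' ⟨hyQ, hyX, hyc⟩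
      rw [← hmap] at hyQ
      obtain ⟨y, hy, rfl⟩ := hyQ
      rw [hX _ hy] at hyX
      rw [← map_mul, hX _ (mul_mem hy hc)] at hyc
      exact ⟨y, subset_closure ⟨hy, hyX, hyc⟩, rfl⟩
    obtain ⟨y, hy, hyx⟩ := hle hcl
    have hyQ : y ∈ Q := by
      have : closure {y : G | y ∈ Q ∧ y ∈ X ∧ y * c ∉ X} ≤ Q := by
        rw [closure_le]; exact fun z hz => hz.1
      exact this hy
    have hyx' : y = x := eq_of_map_eq hodd hQ hyQ hx hyx
    rw [hyx'] at hy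
    rw [h.indep Q hQ c hc hcX (fun e => hc1 (by rw [e, map_one])) x hx hxX hxc hy, map_one]

theorem rich (hr : Rich X) : Rich (f '' X) := by
  rintro _ ⟨x, hx, rfl⟩ hx2
  rw [orderOf_map_eq hodd (h.isPGroup_zpowers hx)] at hx2
  obtain ⟨y, hy, hy2, hyx, hxy, hxyX⟩ := hr x hx hx2
  refine ⟨f y, ⟨y, hy, rfl⟩, ?_, ?_, by rw [← map_mul, hxy, map_mul], ⟨x * y, hxyX, map_mul f x y⟩⟩
  · rw [orderOf_map_eq hodd (h.isPGroup_zpowers hy)]; exact hy2
  · intro e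
    apply hyx
    have hQ : IsPGroup 2 (zpowers x ⊔ zpowers y : Subgroup G) := by
      refine isPGroup_sup_zpowers (h.isPGroup_zpowers hx) (h.isPGroup_zpowers hy) ?_
      intro q hq
      obtain ⟨n, rfl⟩ := mem_zpowers_iff.1 hq
      have : Commute y x := hxy.symm
      exact (this.zpow_right n).eq
    exact eq_of_map_eq hodd hQ (mem_sup_right (mem_zpowers y)) (mem_sup_left (mem_zpowers x)) e

omit hf hodd in
theorem isPGroup_zpowers_mul {x y : G} (hxy : Orth X x y) : IsPGroup 2 (zpowers (x * y)) := by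
  have hQ : IsPGroup 2 (zpowers x ⊔ zpowers y : Subgroup G) := by
    refine isPGroup_sup_zpowers (h.isPGroup_zpowers hxy.left) (h.isPGroup_zpowers hxy.right) ?_
    intro q hq
    obtain ⟨n, rfl⟩ := mem_zpowers_iff.1 hq
    have : Commute y x := hxy.comm.symm
    exact (this.zpow_right n).eq
  refine hQ.to_le ?_
  rw [zpowers_le]
  exact mul_mem (mem_sup_left (mem_zpowers x)) (mem_sup_right (mem_zpowers y))

/-- orthogonality passes to the quotient -/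
theorem orth_map {x y : G} (hxy : Orth X x y) : Orth (f '' X) (f x) (f y) := by
  refine ⟨⟨x, hxy.left, rfl⟩, ⟨y, hxy.right, rfl⟩, by rw [← map_mul, hxy.comm, map_mul], ?_⟩
  rw [← map_mul, mem_image_iff h hf hodd (isPGroup_zpowers_mul h hxy)]
  exact hxy.notMem

/-- elements with commuting images commute after conjugation with an element of the kernel -/
theorem exists_conj_comm {x y : G} (hx : IsPGroup 2 (zpowers x)) (hy : IsPGroup 2 (zpowers y))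
    (hxy : f x * f y = f y * f x) : ∃ n ∈ f.ker, n * x * n⁻¹ * y = y * (n * x * n⁻¹) ∧
      ∃ Q : Subgroup G, IsPGroup 2 Q ∧ n * x * n⁻¹ ∈ Q ∧ y ∈ Q := by
  have hQ' : IsPGroup 2 (zpowers (f x) ⊔ zpowers (f y) : Subgroup K) := by
    have hx' : IsPGroup 2 (zpowers (f x)) := by rw [← MonoidHom.map_zpowers]; exact hx.map f
    have hy' : IsPGroup 2 (zpowers (f y)) := by rw [← MonoidHom.map_zpowers]; exact hy.map f
    refine isPGroup_sup_zpowers hx' hy' ?_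
    intro q hq
    obtain ⟨n, rfl⟩ := mem_zpowers_iff.1 hq
    have : Commute (f y) (f x) := hxy.symm
    exact (this.zpow_right n).eq
  obtain ⟨Q, hQ, hmap, hlift⟩ := exists_lift hf _ hQ'
  obtain ⟨n, hn, hnx⟩ := hlift x hx (mem_sup_left (mem_zpowers _))
  obtain ⟨m, hm, hmy⟩ := hlift y hy (mem_sup_right (mem_zpowers _))
  have hcomm : n * x * n⁻¹ * (m * y * m⁻¹) = m * y * m⁻¹ * (n * x * n⁻¹) := by
    refine eq_of_map_eq hodd hQ (mul_mem hnx hmy) (mul_mem hmy hnx) ?_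
    rw [MonoidHom.mem_ker] at hn hm
    simp only [map_mul, map_inv, hn, hm, inv_one, one_mul, mul_one]
    exact hxy
  refine ⟨m⁻¹ * n, mul_mem (inv_mem hm) hn, ?_, Q.map (MulAut.conj m⁻¹).toMonoidHom, hQ.map _, ?_, ?_⟩
  · have e1 : m⁻¹ * n * x * (m⁻¹ * n)⁻¹ * y = m⁻¹ * (n * x * n⁻¹ * (m * y * m⁻¹)) * m := by group
    have e2 : y * (m⁻¹ * n * x * (m⁻¹ * n)⁻¹) = m⁻¹ * (m * y * m⁻¹ * (n * x * n⁻¹)) * m := by group
    rw [e1, e2, hcomm]
  · refine ⟨n * x * n⁻¹, hnx, ?_⟩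
    change m⁻¹ * (n * x * n⁻¹) * m⁻¹⁻¹ = _
    group
  · refine ⟨m * y * m⁻¹, hmy, ?_⟩
    change m⁻¹ * (m * y * m⁻¹) * m⁻¹⁻¹ = _
    group

/-- orthogonality lifts from the quotient -/
theorem exists_orth_of_map {x y : G} (hx : x ∈ X) (hy : y ∈ X) (hxy : Orth (f '' X) (f x) (f y)) :
    ∃ n ∈ f.ker, Orth X (n * x * n⁻¹) y := by
  obtain ⟨n, hn, hc, -⟩ := exists_conj_comm h hf hodd (h.isPGroup_zpowers hx) (h.isPGroup_zpowers hy) hxy.comm
  refine ⟨n, hn, h.conj_mem x hx n, hy, hc, fun hmem => hxy.notMem ⟨_, hmem, ?_⟩⟩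
  rw [MonoidHom.mem_ker] at hn
  rw [map_mul, map_mul, map_mul, map_inv, hn]; group

theorem noSwap (hn : NoSwap (f '' 𝒜) (f '' X)) : NoSwap 𝒜 X := by
  intro x y hxy g hg Q hQ hgx hy hmem
  have hg' : f g ∈ fam (f '' 𝒜) (⊤ : Subgroup K) := by
    have := map_fam_top 𝒜 f
    unfold fam
    rw [coe_top, Set.inter_univ, ← MonoidHom.map_closure]
    refine ⟨g, ?_, rfl⟩
    have e : fam 𝒜 (⊤ : Subgroup G) = closure 𝒜 := by unfold fam; rw [coe_top, Set.inter_univ]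
    rw [← e]; exact hg
  have := hn (f x) (f y) (orth_map h hf hodd hxy) (f g) hg' (Q.map f) (hQ.map f)
    ⟨_, hgx, by simp⟩ ⟨y, hy, rfl⟩
  exact this ⟨_, hmem, by simp⟩

/-- three pairwise orthogonal elements -/
theorem three (h3 : Three X) : Three (f '' X) := by
  obtain ⟨x, y, z, hxy, hyz, hxz⟩ := h3
  exact ⟨f x, f y, f z, orth_map h hf hodd hxy, orth_map h hf hodd hyz, orth_map h hf hodd hxz⟩

end Multi

end Cfsg.Agent.PermParts.Quot
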