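import Cfsg.Agent.PermParts.Basic
import Cfsg.Agent.ProdFusion.TwoRel

/-!
# Multifamilies with at most two parts
-/

set_option autoImplicit false
set_option linter.style.haveILetI false

namespace Cfsg.Agent.PermParts.TwoParts

open Subgroup
open Cfsg.Agent.TwoFusion.ClosedFam Cfsg.Agent.PermParts.Basic
open Cfsg.Agent.ProdFusion.TwoRel (Two Plus mem_smul conj_eq_one plus_all)
open Cfsg.Agent.Lib.GoldschmidtFusion (card_map_conj mem_normalizer_iff_map_conj)

universe u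

variable {G : Type u} [Group G] {𝒜 X : Set G}

/-- A multifamily restricted to a subgroup. -/
theorem restrict (h : Multi 𝒜 X) (H : Subgroup G) : Multi {x : H | (x : G) ∈ 𝒜} {x : H | (x : G) ∈ X} where
  fam := h.fam.restrict H
  sub := fun x hx => h.sub hx
  one_mem := h.one_mem
  conj_mem := fun x hx g => h.conj_mem x hx g
  inv_mem := fun x hx => h.inv_mem x hx
  trans := fun Q hQ x hx y hy z hz hxX hyX hzX hy1 h1 h2 =>
    h.trans (Q.map H.subtype) (hQ.map _) x (mem_map_of_mem _ hx) y (mem_map_of_mem _ hy) z (mem_map_of_mem _ hz)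
      hxX hyX hzX (fun e => hy1 (Subtype.ext e)) h1 h2
  normal := fun Q hQ x hx q hq hq𝒜 hxX =>
    h.normal (Q.map H.subtype) (hQ.map _) x (mem_map_of_mem _ hx) q (mem_map_of_mem _ hq) hq𝒜 hxX
  indep := by
    intro Q hQ c hc hcX hc1 x hx hxX hxc hcl
    refine Subtype.ext (h.indep (Q.map H.subtype) (hQ.map _) c (mem_map_of_mem _ hc) hcX
      (fun e => hc1 (Subtype.ext e)) x (mem_map_of_mem _ hx) hxX hxc ?_)
    have h1 : (x : G) ∈ (closure {y : H | y ∈ Q ∧ y ∈ {x : H | (x : G) ∈ X} ∧ y * c ∉ {x : H | (x : G) ∈ X}}).map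
        H.subtype := mem_map_of_mem _ hcl
    rw [MonoidHom.map_closure] at h1
    refine closure_mono ?_ h1
    rintro _ ⟨y, ⟨hy, hyX, hyc⟩, rfl⟩
    exact ⟨mem_map_of_mem _ hy, hyX, hyc⟩

/-- The two parts of a Sylow subgroup. -/
theorem exists_two (h : Multi 𝒜 X) (h2 : ¬ Three X) (T : Sylow 2 G) {x y : G} (hxy : Orth X x y)
    (hx : x ∈ (T : Subgroup G)) (hy : y ∈ (T : Subgroup G)) :
    ∃ P₁ P₂ : Subgroup G, Two 𝒜 X T P₁ P₂ ∧ x ∈ P₁ ∧ y ∈ P₂ := by
  obtain ⟨P₁, hP₁⟩ := h.exists_part T.2 hx hxy.left hxy.left_ne_one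
  obtain ⟨P₂, hP₂⟩ := h.exists_part T.2 hy hxy.right hxy.right_ne_one
  have hself : ∀ z ∈ (T : Subgroup G), z ∈ X → z * z ∈ X := by
    intro z hz hzX
    simpa using h.normal T T.2 z hz 1 (one_mem _) h.fam.one_mem hzX
  have hxP : x ∈ P₁ := (hP₁ x).2 ⟨hx, hxy.left, hself x hx hxy.left⟩
  have hyP : y ∈ P₂ := (hP₂ y).2 ⟨hy, hxy.right, hself y hy hxy.right⟩
  refine ⟨P₁, P₂, ?_, hxP, hyP⟩
  exact
    { fam := h.fam
      conj := h.conj_mem
      sub := h.sub
      le₁ := fun z hz => ((hP₁ z).1 hz).1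
      le₂ := fun z hz => ((hP₂ z).1 hz).1
      inf := by
        rw [eq_bot_iff]
        intro z hz
        rw [mem_bot]
        by_contra hz1
        obtain ⟨hzT, hzX, hzx⟩ := (hP₁ z).1 (mem_inf.1 hz).1
        obtain ⟨-, -, hzy⟩ := (hP₂ z).1 (mem_inf.1 hz).2
        exact hxy.notMem (h.trans T T.2 x hx z hzT y hy hxy.left hzX hxy.right hz1 (h.symm hzx) hzy)
      mem_iff := by
        intro z hz
        constructor
        · intro hzX
          by_contra hcon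
          rw [not_or] at hcon
          have h1 : z * x ∉ X := fun e => hcon.1 ((hP₁ z).2 ⟨hz, hzX, e⟩)
          have h3 : z * y ∉ X := fun e => hcon.2 ((hP₂ z).2 ⟨hz, hzX, e⟩)
          exact h2 ⟨z, x, y, h.orth_of_notMem T.2 hz hx hzX hxy.left h1, hxy,
            h.orth_of_notMem T.2 hz hy hzX hxy.right h3⟩
        · rintro (h1 | h1)
          · exact ((hP₁ z).1 h1).2.1
          · exact ((hP₂ z).1 h1).2.1
      ne₁ := fun e => hxy.left_ne_one (by rwa [e, mem_bot] at hxP)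
      ne₂ := fun e => hxy.right_ne_one (by rwa [e, mem_bot] at hyP)
      norm := by
        intro a ha haT z hz
        obtain ⟨hzT, hzX, hzx⟩ := (hP₁ z).1 hz
        by_cases hz1 : z = 1
        · rw [hz1]
          simp
        have h1 : a * z * a⁻¹ ∈ (T : Subgroup G) := mul_mem (mul_mem haT hzT) (inv_mem haT)
        refine (hP₁ _).2 ⟨h1, h.conj_mem z hzX a, ?_⟩
        exact h.trans T T.2 _ h1 z hzT x hx (h.conj_mem z hzX a) hzX hxy.left hz1
          (h.symm (h.normal T T.2 z hzT a haT ha hzX)) hzx }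

/-- The case that `G` is generated by the family. -/
theorem two_of_gen [Finite G] (h : Multi 𝒜 X) (h2 : ¬ Three X) (hgen : fam 𝒜 (⊤ : Subgroup G) = ⊤) :
    ∀ x y : G, Orth X x y → ∀ g : G, ∀ Q : Subgroup G, IsPGroup 2 Q → g * x * g⁻¹ ∈ Q → y ∈ Q →
      g * x * g⁻¹ * y ∉ X := by
  haveI : Fact (Nat.Prime 2) := ⟨Nat.prime_two⟩
  intro x y hxy g Q hQ hgx hy
  have hP : IsPGroup 2 (zpowers x ⊔ zpowers y : Subgroup G) := by
    refine isPGroup_sup_zpowers (h.isPGroup_zpowers hxy.left) (h.isPGroup_zpowers hxy.right) ?_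
    intro q hq
    obtain ⟨n, rfl⟩ := mem_zpowers_iff.1 hq
    exact ((show Commute y x from hxy.comm.symm).zpow_right n).eq
  obtain ⟨T, hT⟩ := hP.exists_le_sylow
  obtain ⟨P₁, P₂, H, hxP, hyP⟩ := exists_two h h2 T hxy (hT (mem_sup_left (mem_zpowers x)))
    (hT (mem_sup_right (mem_zpowers y)))
  have hall := plus_all H hgen
  have hn₁ : (T : Subgroup G) ≤ normalizer (P₁ : Set G) := by
    intro s hs
    rw [mem_normalizer_iff_map_conj]
    refine eq_of_le_of_card_ge ?_ (by rw [card_map_conj])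
    rintro _ ⟨x, hx, rfl⟩
    exact (H.plus_iff_left hs).1 (hall s hs) x hx
  have hn₂ : (T : Subgroup G) ≤ normalizer (P₂ : Set G) := by
    intro s hs
    rw [mem_normalizer_iff_map_conj]
    refine eq_of_le_of_card_ge ?_ (by rw [card_map_conj])
    rintro _ ⟨x, hx, rfl⟩
    rcases H.dich hs with h1 | h1
    · exact h1.2 x hx
    · exfalso
      obtain ⟨z, hz, hz1⟩ := P₁.bot_or_exists_ne_one.resolve_left H.ne₁
      exact hz1 (conj_eq_one.1 (H.eq_one ((H.plus_iff_left hs).1 (hall s hs) z hz) (h1.1 z hz)))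
  have hcl : ∀ x : G, (x ∈ P₁ ∨ x ∈ P₂) → ∀ g : G, g * x * g⁻¹ ∈ T → g * x * g⁻¹ ∈ P₁ ∨ g * x * g⁻¹ ∈ P₂ := by
    intro x hx g hg
    have h1 : x ∈ X := (H.mem_iff x (hx.elim (fun h' => H.le₁ h') (fun h' => H.le₂ h'))).2 hx
    exact (H.mem_iff _ hg).1 (H.conj x h1 g)
  obtain ⟨P, hQP⟩ := hQ.exists_le_sylow
  obtain ⟨k, hk⟩ := MulAction.exists_smul_eq G P T
  have key : ∀ z ∈ Q, k * z * k⁻¹ ∈ (T : Subgroup G) := by
    intro z hz
    rw [← hk, mem_smul]
    have e : k⁻¹ * (k * z * k⁻¹) * k = z := by group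
    rw [e]; exact hQP hz
  have e1 : k * g * x * (k * g)⁻¹ = k * (g * x * g⁻¹) * k⁻¹ := by group
  have h3 : k * (g * x * g⁻¹) * k⁻¹ ∈ P₁ := by
    have h4 := Cfsg.Agent.ProdFusion.TwoFactors.conj_mem_of_normal T H.le₁ hn₁ H.inf hcl (g := k * g) hxP
      (by rw [e1]; exact key _ hgx)
    rwa [e1] at h4
  have h5 : k * y * k⁻¹ ∈ P₂ :=
    Cfsg.Agent.ProdFusion.TwoFactors.conj_mem_of_normal T H.le₂ hn₂ (by rw [inf_comm]; exact H.inf)
      (fun x hx g hg => (hcl x hx.symm g hg).symm) (g := k) hyP (key _ hy)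
  intro hmem
  have h6 := H.conj _ hmem k
  have e2 : k * (g * x * g⁻¹ * y) * k⁻¹ = k * (g * x * g⁻¹) * k⁻¹ * (k * y * k⁻¹) := by group
  rw [e2] at h6
  refine H.mul_notMem h3 h5 (fun e => hxy.left_ne_one ?_) (fun e => hxy.right_ne_one (conj_eq_one.1 e)) h6
  exact conj_eq_one.1 (conj_eq_one.1 e)

/-- **At most two parts.** -/
theorem two [Finite G] (h : Multi 𝒜 X) (h2 : ¬ Three X) : NoSwap 𝒜 X := by
  intro x y hxy g hg Q hQ hgx hy
  set N : Subgroup G := fam 𝒜 ⊤ with hN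
  have hAN : ∀ x ∈ 𝒜, x ∈ N := fun x hx => mem_fam hx (mem_top x)
  have hXN : ∀ x ∈ X, x ∈ N := fun x hx => hAN x (h.sub hx)
  have hgen : fam {x : N | (x : G) ∈ 𝒜} ⊤ = ⊤ := by
    apply Subgroup.map_injective N.subtype_injective
    rw [map_fam_restrict_top, ← MonoidHom.range_eq_map, Subgroup.range_subtype]
    apply le_antisymm (fam_le _ _)
    conv_lhs => rw [hN]
    rw [fam_le_iff]
    exact fun x hx _ => mem_fam hx (hAN x hx)
  have h3 : ¬ Three {x : N | (x : G) ∈ X} := by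
    rintro ⟨a, b, c, hab, hbc, hac⟩
    exact h2 ⟨a, b, c, ⟨hab.left, hab.right, congrArg Subtype.val hab.comm, hab.notMem⟩,
      ⟨hbc.left, hbc.right, congrArg Subtype.val hbc.comm, hbc.notMem⟩,
      ⟨hac.left, hac.right, congrArg Subtype.val hac.comm, hac.notMem⟩⟩
  have hQN : IsPGroup 2 (Q.subgroupOf N) := by
    rintro ⟨z, hz⟩
    obtain ⟨k, hk⟩ := hQ ⟨(z : G), hz⟩
    refine ⟨k, Subtype.ext (Subtype.ext ?_)⟩
    simpa using congrArg Subtype.val hk
  exact two_of_gen (restrict h N) h3 hgen ⟨x, hXN x hxy.left⟩ ⟨y, hXN y hxy.right⟩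
    ⟨hxy.left, hxy.right, Subtype.ext hxy.comm, hxy.notMem⟩ ⟨g, hg⟩ (Q.subgroupOf N) hQN hgx hy

end Cfsg.Agent.PermParts.TwoParts
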