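import Cfsg.Agent.PermParts.Sep
import Cfsg.Agent.PermParts.GppNoSwap
import Cfsg.Agent.PermParts.Quot
import Cfsg.Agent.PermParts.TwoParts
import Cfsg.Agent.PermParts.Final
import Cfsg.Agent.PermParts.FunctorUfp
import Cfsg.Agent.PermParts.CoreSep
import Cfsg.Agent.ProdFusion.FunctorComplete

/-!
# The permuted product theorem

`noSwap`: let `X` be a rich multifamily inside the closed family `𝒜` of `G`.  Then `⟨𝒜⟩` does not fuse elements of
different parts.  `gpp`: if `O(G) = 1` and there are three parts, then every involution of `X` is orthogonal to one of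
two given orthogonal involutions.
-/

set_option autoImplicit false
set_option linter.style.haveILetI false

namespace Cfsg.Agent.PermParts.Main

open Subgroup
open Cfsg.Agent.TwoFusion.ClosedFam Cfsg.Agent.TwoFusion.ClosedSimple
open Cfsg.Agent.TwoFusion.ClosedLocal (mul_self ne_one orderOf_conj)
open Cfsg.Agent.PermParts.Basic Cfsg.Agent.PermParts.Parts Cfsg.Agent.PermParts.Restrict
open Cfsg.Agent.PermParts.Sep

universe u

/-- the inductive step: three parts and trivial core -/
theorem gpp_of_sep {G : Type u} [Group G] [Finite G] {𝒜 X : Set G} (h : Multi 𝒜 X) (hR : Rich X) (h3 : Three X)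
    (hO : Cfsg.oddCore G = ⊥) (hsep : ∀ w ∈ X, orderOf w = 2 → ∃ r, SepAt 𝒜 X w r) :
    ∀ x y z : G, Orth X x y → z ∈ X → orderOf x = 2 → orderOf y = 2 → orderOf z = 2 →
      Orth X z x ∨ Orth X z y := by
  refine Cfsg.Agent.PermParts.Final.gpp h hR h3 hsep ?_
  have c : Cfsg.Agent.PermParts.Functor.Ctx 𝒜 X :=
    { multi := h
      rich := hR
      three := h3
      complete := Cfsg.Agent.ProdFusion.FunctorComplete.complete
      cs := fun E F hEF => Cfsg.Agent.PermParts.CoreSep.isCoreSeparated h hsep hEF.left hEF.right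
        fun x hx y hy hx1 hy1 => hEF.orth x hx hx1 y hy hy1
      sep := hsep
      i5 := by
        intro b b' w hbb' hbw hb'w
        obtain ⟨r, hr⟩ := hsep w hbw.orth.right hbw.right
        exact Cfsg.Agent.PermParts.LocalSep.inf_inf_le h hr hbb'.left hbb'.right hbw.orth.comm hb'w.orth.comm
          hbb'.orth }
  intro x v hxv ox ov o ho
  exact (c.core_comm_of_oddCore hO ⟨hxv, ox, ov⟩).1 o ho

theorem noSwap_aux (n : ℕ) : ∀ (G : Type u) [Group G] [Finite G] (𝒜 X : Set G), Multi 𝒜 X → Rich X →
    Nat.card G + X.ncard ≤ n → NoSwap 𝒜 X := by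
  induction n with
  | zero =>
    intro G _ _ 𝒜 X _ _ hn
    have : 0 < Nat.card G := Nat.card_pos
    omega
  | succ n ih =>
    intro G _ _ 𝒜 X h hR hn
    by_cases h3 : Three X
    swap
    · exact Cfsg.Agent.PermParts.TwoParts.two h h3
    haveI hN : (Cfsg.oddCore G).Normal := Cfsg.Agent.Lib.Cores.pPrimeCore_normal 2
    by_cases hO : Cfsg.oddCore G = ⊥
    swap
    · -- the quotient by the core
      have hf : Function.Surjective (QuotientGroup.mk' (Cfsg.oddCore G)) := QuotientGroup.mk'_surjective _
      have hodd : Odd (Nat.card (QuotientGroup.mk' (Cfsg.oddCore G)).ker) := by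
        rw [QuotientGroup.ker_mk']
        exact Nat.coprime_two_right.1 (Cfsg.Agent.Lib.Cores.pPrimeCore_coprime 2)
      refine Cfsg.Agent.PermParts.Quot.noSwap h hf hodd (ih _ _ _ (Cfsg.Agent.PermParts.Quot.multi h hf hodd)
        (Cfsg.Agent.PermParts.Quot.rich h hf hodd hR) ?_)
      have h1 : Nat.card (G ⧸ Cfsg.oddCore G) < Nat.card G := by
        have h2 := Subgroup.card_eq_card_quotient_mul_card_subgroup (Cfsg.oddCore G)
        have h4 : 1 < Nat.card (Cfsg.oddCore G) := by
          rw [Subgroup.one_lt_card_iff_ne_bot]; exact hO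
        have h5 : 0 < Nat.card (G ⧸ Cfsg.oddCore G) := Nat.card_pos
        rw [h2]
        nlinarith
      have h2 := Set.ncard_image_le (f := QuotientGroup.mk' (Cfsg.oddCore G)) (Set.toFinite X)
      omega
    -- the colourings from the induction
    have hsep : ∀ w ∈ X, orderOf w = 2 → ∃ r, SepAt 𝒜 X w r := by
      intro w hw ow
      have hw1 := ne_one ow
      refine exists_sepAt h hw hw1 (ih _ _ _ ?_ (rich_off h hw hR hw1) ?_)
      · exact multi_off (multi_restrict h _) (w := self w) hw (fun e => hw1 (congrArg Subtype.val e)) self_comm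
      · have h1 : (off {x : centralizer ({w} : Set G) | (x : G) ∈ X} (self w)).ncard <
            ({x : centralizer ({w} : Set G) | (x : G) ∈ X} : Set _).ncard :=
          ncard_off (multi_restrict h _) hw (fun e => hw1 (congrArg Subtype.val e)) self_comm
            (by rw [orderOf_self]; exact ow)
        have h2 : ({x : centralizer ({w} : Set G) | (x : G) ∈ X} : Set _).ncard ≤ X.ncard := by
          rw [← Set.ncard_image_of_injective _ (Subgroup.subtype_injective (centralizer ({w} : Set G)))]
          refine Set.ncard_le_ncard ?_ (Set.toFinite X)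
          rintro _ ⟨x, hx, rfl⟩
          exact hx
        have h4 : Nat.card (centralizer ({w} : Set G)) ≤ Nat.card G := Subgroup.card_le_card_group _
        omega
    exact Cfsg.Agent.PermParts.GppNoSwap.noSwap_of_gpp h (gpp_of_sep h hR h3 hO hsep)

/-- **The permuted product theorem.** -/
theorem noSwap {G : Type u} [Group G] [Finite G] {𝒜 X : Set G} (h : Multi 𝒜 X) (hR : Rich X) : NoSwap 𝒜 X :=
  noSwap_aux _ G 𝒜 X h hR le_rfl

/-- There are colourings of the centralisers of the involutions of `X`. -/
theorem exists_sepAt' {G : Type u} [Group G] [Finite G] {𝒜 X : Set G} (h : Multi 𝒜 X) (hR : Rich X) :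
    ∀ w ∈ X, orderOf w = 2 → ∃ r, SepAt 𝒜 X w r := by
  intro w hw ow
  have hw1 := ne_one ow
  exact exists_sepAt h hw hw1 (noSwap
    (multi_off (multi_restrict h _) (w := self w) hw (fun e => hw1 (congrArg Subtype.val e)) self_comm)
    (rich_off h hw hR hw1))

/-- The colouring of `G`. -/
theorem sep {G : Type u} [Group G] [Finite G] {𝒜 X : Set G} (h : Multi 𝒜 X) (hR : Rich X) :
    Sep 𝒜 X (Rel 𝒜 X) := sep_rel h (noSwap h hR)

/-- `[x^G°, y] ≤ O(G)` for orthogonal elements. -/
theorem commutator_mem {G : Type u} [Group G] [Finite G] {𝒜 X : Set G} (h : Multi 𝒜 X) (hR : Rich X) {x y g : G}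
    (hxy : Orth X x y) (hg : g ∈ fam 𝒜 (⊤ : Subgroup G)) :
    g * x * g⁻¹ * y * (g * x * g⁻¹)⁻¹ * y⁻¹ ∈ Cfsg.oddCore G := by
  have s := sep h hR
  refine s.comm _ (h.conj_mem x hxy.left g) y hxy.right (conj_ne_one hxy.left_ne_one g) hxy.right_ne_one ?_
  intro h1
  exact s.orth x y hxy (s.eqv.trans (s.eqv.symm (s.fam_conj g hg x hxy.left hxy.left_ne_one)) h1)

/-- In a simple group a rich multifamily has at most one part. -/
theorem not_orth {G : Type u} [Group G] [Finite G] [IsSimpleGroup G] {𝒜 X : Set G} (h : Multi 𝒜 X) (hR : Rich X)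
    {x y : G} : ¬ Orth X x y := by
  intro hxy
  have h1 : fam 𝒜 (⊤ : Subgroup G) = ⊤ := by
    haveI := h.fam.fam_normal (⊤ : Subgroup G)
    rcases IsSimpleGroup.eq_bot_or_eq_top_of_normal (fam 𝒜 (⊤ : Subgroup G)) inferInstance with h1 | h1
    · exfalso
      have h2 : x ∈ fam 𝒜 (⊤ : Subgroup G) := mem_fam (h.sub hxy.left) (mem_top x)
      rw [h1, mem_bot] at h2
      exact hxy.left_ne_one h2
    · exact h1
  -- there are commuting involutions, so the core is trivial
  have hN : (Cfsg.oddCore G).Normal := Cfsg.Agent.Lib.Cores.pPrimeCore_normal 2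
  have hO : Cfsg.oddCore G = ⊥ := by
    rcases IsSimpleGroup.eq_bot_or_eq_top_of_normal (Cfsg.oddCore G) hN with h2 | h2
    · exact h2
    · exfalso
      have h3 : (Nat.card (Cfsg.oddCore G)).Coprime 2 := Cfsg.Agent.Lib.Cores.pPrimeCore_coprime 2
      refine hxy.left_ne_one (Cfsg.Agent.TwoFusion.ClosedLocal.eq_one_of_odd_of_isPGroup (K := Cfsg.oddCore G)
        (Nat.coprime_two_right.1 h3) (h.isPGroup_zpowers hxy.left) (by rw [h2]; exact mem_top x) (mem_zpowers x))
  -- `y` centralises the normal closure of `x`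
  have h2 : ∀ g : G, g * x * g⁻¹ * y = y * (g * x * g⁻¹) := by
    intro g
    have h3 := commutator_mem h hR hxy (g := g) (by rw [h1]; exact mem_top g)
    rw [hO, mem_bot] at h3
    exact mul_inv_eq_iff_eq_mul.1 (mul_inv_eq_one.1 h3)
  have h4 : normalClosure ({x} : Set G) = ⊤ := by
    rcases IsSimpleGroup.eq_bot_or_eq_top_of_normal (normalClosure ({x} : Set G)) normalClosure_normal with h5 | h5
    · exfalso
      have h6 : x ∈ normalClosure ({x} : Set G) := subset_normalClosure rfl
      rw [h5, mem_bot] at h6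
      exact hxy.left_ne_one h6
    · exact h5
  have h5 : normalClosure ({x} : Set G) ≤ centralizer ({y} : Set G) := by
    unfold normalClosure
    rw [closure_le]
    intro z hz
    obtain ⟨a, ha, hc⟩ := Group.mem_conjugatesOfSet_iff.1 hz
    rw [Set.mem_singleton_iff] at ha
    subst ha
    obtain ⟨g, hg⟩ := isConj_iff.1 hc
    rw [← hg]
    exact mem_centralizer_singleton_iff.2 (h2 g)
  have h6 : y ∈ center G := by
    rw [mem_center_iff]
    intro g
    have h7 : g ∈ centralizer ({y} : Set G) := h5 (by rw [h4]; exact mem_top g)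
    exact mem_centralizer_singleton_iff.1 h7
  rcases IsSimpleGroup.eq_bot_or_eq_top_of_normal (center G) inferInstance with h7 | h7
  · rw [h7, mem_bot] at h6
    exact hxy.right_ne_one h6
  · -- `G` is abelian and simple, so `x` and `y` are in a group of order 2
    have hx : x ∈ zpowers y := by
      haveI : (zpowers y).Normal := ⟨fun a ha g => by
        have : a ∈ center G := by rw [h7]; exact mem_top a
        rw [mem_center_iff.1 this g, mul_inv_cancel_right]; exact ha⟩
      rcases IsSimpleGroup.eq_bot_or_eq_top_of_normal (zpowers y) inferInstance with h8 | h8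
      · exfalso
        have h9 := mem_zpowers y
        rw [h8, mem_bot] at h9
        exact hxy.right_ne_one h9
      · rw [h8]; exact mem_top x
    apply hxy.notMem
    obtain ⟨n, hn⟩ := (mem_powers_iff_mem_zpowers (x := y)).2 hx
    have h8 := (h.pow_mem hxy.right n).2
    rw [← hn]
    exact h8

end Cfsg.Agent.PermParts.Main
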