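import Cfsg.Agent.TwoFusion.ClosedLocal

/-!
# Multifamilies: strongly closed unions of independent subgroups

`Multi 𝒜 X`: `𝒜` is a closed family and `X ⊆ 𝒜` is a conjugation invariant set which meets every 2-subgroup `Q` in a
union of independent subgroups of `Q` normalised by `𝒜 ∩ Q` (the *parts* of `Q`).  No part is named: two non-identity
elements `x, y` of `X` in a common 2-subgroup lie in the same part iff `x * y ∈ X`.

`Orth X x y`: `x`, `y` are commuting elements of `X` lying in different parts.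
-/

set_option autoImplicit false
set_option linter.style.haveILetI false

namespace Cfsg.Agent.PermParts.Basic

open Subgroup
open Cfsg.Agent.TwoFusion.ClosedFam Cfsg.Agent.TwoFusion.ClosedSimple

variable {G : Type*} [Group G]

/-- A multifamily `X` inside the closed family `𝒜`. -/
structure Multi (𝒜 X : Set G) : Prop where
  protected fam : IsClosedFam 𝒜
  sub : X ⊆ 𝒜
  protected one_mem : (1 : G) ∈ X
  protected conj_mem : ∀ x ∈ X, ∀ g : G, g * x * g⁻¹ ∈ X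
  protected inv_mem : ∀ x ∈ X, x⁻¹ ∈ X
  /-- being in the same part is transitive -/
  trans : ∀ Q : Subgroup G, IsPGroup 2 Q → ∀ x ∈ Q, ∀ y ∈ Q, ∀ z ∈ Q, x ∈ X → y ∈ X → z ∈ X → y ≠ 1 →
    x * y ∈ X → y * z ∈ X → x * z ∈ X
  /-- the parts of a 2-subgroup `Q` are normalised by `𝒜 ∩ Q` -/
  normal : ∀ Q : Subgroup G, IsPGroup 2 Q → ∀ x ∈ Q, ∀ q ∈ Q, q ∈ 𝒜 → x ∈ X → x * (q * x * q⁻¹) ∈ X
  /-- the parts of a 2-subgroup are independent -/
  indep : ∀ Q : Subgroup G, IsPGroup 2 Q → ∀ c ∈ Q, c ∈ X → c ≠ 1 → ∀ x ∈ Q, x ∈ X → x * c ∈ X →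
    x ∈ closure {y : G | y ∈ Q ∧ y ∈ X ∧ y * c ∉ X} → x = 1

/-- `x` and `y` are commuting elements of `X` in different parts. -/
structure Orth (X : Set G) (x y : G) : Prop where
  left : x ∈ X
  right : y ∈ X
  comm : x * y = y * x
  notMem : x * y ∉ X

/-- Every involution of `X` commutes with another involution of its part. -/
def Rich (X : Set G) : Prop := ∀ x ∈ X, orderOf x = 2 →
  ∃ y ∈ X, orderOf y = 2 ∧ y ≠ x ∧ x * y = y * x ∧ x * y ∈ X

/-- There are at least three parts. -/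
def Three (X : Set G) : Prop := ∃ x y z : G, Orth X x y ∧ Orth X y z ∧ Orth X x z

/-- `⟨𝒜⟩` does not fuse elements of different parts. -/
def NoSwap (𝒜 X : Set G) : Prop := ∀ x y : G, Orth X x y → ∀ g ∈ fam 𝒜 (⊤ : Subgroup G),
  ∀ Q : Subgroup G, IsPGroup 2 Q → g * x * g⁻¹ ∈ Q → y ∈ Q → g * x * g⁻¹ * y ∉ X

/-- The local information at the involution `w`: a colouring `r` of the elements of `X` commuting with `w`. -/
structure SepAt (𝒜 X : Set G) (w : G) (r : G → G → Prop) : Prop where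
  eqv : Equivalence r
  /-- invariance under `C(w)` -/
  conj : ∀ g : G, g * w = w * g → ∀ x y : G, r x y → r (g * x * g⁻¹) (g * y * g⁻¹)
  /-- `⟨𝒜 ∩ C(w)⟩` fixes the classes -/
  fam_conj : ∀ g ∈ fam 𝒜 (centralizer ({w} : Set G)), ∀ x ∈ X, x * w = w * x → x ≠ 1 →
    r (g * x * g⁻¹) x
  /-- `O(C(w))` fixes the classes -/
  core_conj : ∀ g ∈ Oc w, ∀ x ∈ X, x * w = w * x → x ≠ 1 → r (g * x * g⁻¹) x
  same : ∀ Q : Subgroup G, IsPGroup 2 Q → ∀ x ∈ Q, ∀ y ∈ Q, x ∈ X → y ∈ X → x * w = w * x → y * w = w * y →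
    x ≠ 1 → y ≠ 1 → x * y ∈ X → r x y
  orth : ∀ x y : G, Orth X x y → x * w = w * x → y * w = w * y → ¬ r x y
  comm : ∀ x ∈ X, ∀ y ∈ X, x * w = w * x → y * w = w * y → x ≠ 1 → y ≠ 1 → ¬ r x y →
    x * y * x⁻¹ * y⁻¹ ∈ Oc w

/-! ### 2-elements -/

theorem isPGroup_zpowers_of_pow {x : G} {k : ℕ} (hk : x ^ 2 ^ k = 1) : IsPGroup 2 (zpowers x) := by
  rintro ⟨y, hy⟩
  refine ⟨k, ?_⟩
  obtain ⟨n, rfl⟩ := mem_zpowers_iff.1 hy
  apply Subtype.ext
  simp only [SubmonoidClass.mk_pow, OneMemClass.coe_one]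
  rw [← zpow_natCast, ← zpow_mul, mul_comm, zpow_mul, zpow_natCast, hk, one_zpow]

/-- a 2-subgroup together with a 2-element commuting with it lies in a 2-subgroup. -/
theorem isPGroup_sup_zpowers {Q : Subgroup G} (hQ : IsPGroup 2 Q) {x : G} (hx : IsPGroup 2 (zpowers x))
    (hc : ∀ q ∈ Q, x * q = q * x) : IsPGroup 2 (Q ⊔ zpowers x : Subgroup G) := by
  refine hQ.to_sup_of_normal_left' hx ?_
  rw [zpowers_le]
  rw [mem_normalizer_iff]
  intro q
  constructor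
  · intro hq
    rw [hc q hq]
    simpa using hq
  · intro hq
    have h1 := hc _ hq
    have h2 : x * (x * q * x⁻¹) * x⁻¹ = x * q * x⁻¹ := by rw [h1]; group
    have h3 : x * q * x⁻¹ = q := by
      have := congrArg (fun t => x⁻¹ * t * x) h2
      simpa [mul_assoc] using this
    rwa [h3] at hq

namespace Multi

variable {𝒜 X : Set G} (h : Multi 𝒜 X)
include h

theorem conj_mem_iff {x : G} (g : G) : g * x * g⁻¹ ∈ X ↔ x ∈ X := by
  refine ⟨fun hx => ?_, fun hx => h.conj_mem x hx g⟩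
  have := h.conj_mem _ hx g⁻¹
  have e : g⁻¹ * (g * x * g⁻¹) * g⁻¹⁻¹ = x := by group
  rwa [e] at this

theorem symm {x y : G} (hxy : x * y ∈ X) : y * x ∈ X := by
  have := h.conj_mem _ hxy y
  have e : y * (x * y) * y⁻¹ = y * x := by group
  rwa [e] at this

theorem isPGroup_zpowers {x : G} (hx : x ∈ X) : IsPGroup 2 (zpowers x) := by
  exact h.fam.isPGroup_zpowers (h.sub hx)

theorem inv_mul_mem {Q : Subgroup G} (hQ : IsPGroup 2 Q) {x y : G} (hx : x ∈ Q) (hy : y ∈ Q) (hxX : x ∈ X)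
    (hyX : y ∈ X) (hxy : x * y ∈ X) : x⁻¹ * y ∈ X := by
  by_cases hx1 : x = 1
  · rw [hx1, inv_one, one_mul]; exact hyX
  · exact h.trans Q hQ _ (inv_mem hx) x hx y hy (h.inv_mem x hxX) hxX hyX hx1
      (by rw [inv_mul_cancel]; exact h.one_mem) hxy

/-- products inside a part -/
protected theorem mul_mem {Q : Subgroup G} (hQ : IsPGroup 2 Q) {c x y : G} (hc : c ∈ Q) (hx : x ∈ Q) (hy : y ∈ Q)
    (hcX : c ∈ X) (hc1 : c ≠ 1) (hxX : x ∈ X) (hyX : y ∈ X) (hxc : x * c ∈ X) (hyc : y * c ∈ X) :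
    x * y ∈ X ∧ x * y * c ∈ X := by
  have h1 : x * y ∈ X := h.trans Q hQ x hx c hc y hy hxX hcX hyX hc1 hxc (h.symm hyc)
  refine ⟨h1, ?_⟩
  by_cases hy1 : y = 1
  · rw [hy1, mul_one]; exact hxc
  · refine h.trans Q hQ (x * y) (Q.mul_mem hx hy) y⁻¹ (inv_mem hy) c hc h1 (h.inv_mem y hyX) hcX
      (inv_ne_one.2 hy1) (by rw [mul_inv_cancel_right]; exact hxX) ?_
    exact h.inv_mul_mem hQ hy hc hyX hcX hyc

protected theorem pow_mem {x : G} (hx : x ∈ X) (n : ℕ) : x ^ n ∈ X ∧ x ^ n * x ∈ X := by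
  have hQ := h.isPGroup_zpowers hx
  have hxQ : x ∈ zpowers x := mem_zpowers x
  by_cases hx1 : x = 1
  · rw [hx1, one_pow, one_mul]; exact ⟨h.one_mem, h.one_mem⟩
  have hxx : x * x ∈ X := by
    have := h.normal _ hQ x hxQ 1 (one_mem _) h.fam.one_mem hx
    simpa using this
  induction n with
  | zero => rw [pow_zero, one_mul]; exact ⟨h.one_mem, hx⟩
  | succ n ih =>
    rw [pow_succ]
    exact h.mul_mem hQ hxQ (npow_mem_zpowers x n) hxQ hx hx1 ih.1 hx ih.2 hxx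

/-- the part of `c` in the 2-subgroup `Q` -/
theorem exists_part {Q : Subgroup G} (hQ : IsPGroup 2 Q) {c : G} (hc : c ∈ Q) (hcX : c ∈ X) (hc1 : c ≠ 1) :
    ∃ P : Subgroup G, ∀ x, x ∈ P ↔ x ∈ Q ∧ x ∈ X ∧ x * c ∈ X := by
  refine ⟨{ carrier := {x | x ∈ Q ∧ x ∈ X ∧ x * c ∈ X}
            one_mem' := ⟨one_mem Q, h.one_mem, by rw [one_mul]; exact hcX⟩
            mul_mem' := ?_
            inv_mem' := ?_ }, fun x => Iff.rfl⟩
  · rintro x y ⟨hx, hxX, hxc⟩ ⟨hy, hyX, hyc⟩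
    obtain ⟨h1, h2⟩ := h.mul_mem hQ hc hx hy hcX hc1 hxX hyX hxc hyc
    exact ⟨Q.mul_mem hx hy, h1, h2⟩
  · rintro x ⟨hx, hxX, hxc⟩
    exact ⟨inv_mem hx, h.inv_mem x hxX, h.inv_mul_mem hQ hx hc hxX hcX hxc⟩

/-- elements of `X` in different parts of a 2-subgroup commute -/
theorem comm {Q : Subgroup G} (hQ : IsPGroup 2 Q) {x y : G} (hx : x ∈ Q) (hy : y ∈ Q) (hxX : x ∈ X)
    (hyX : y ∈ X) (hxy : x * y ∉ X) : x * y = y * x := by
  have hx1 : x ≠ 1 := fun e => hxy (by rw [e, one_mul]; exact hyX)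
  have hy1 : y ≠ 1 := fun e => hxy (by rw [e, mul_one]; exact hxX)
  obtain ⟨P, hP⟩ := h.exists_part hQ hx hxX hx1
  obtain ⟨R, hR⟩ := h.exists_part hQ hy hyX hy1
  have hxx : x * x ∈ X := by simpa using h.normal Q hQ x hx 1 (one_mem _) h.fam.one_mem hxX
  have hyy : y * y ∈ X := by simpa using h.normal Q hQ y hy 1 (one_mem _) h.fam.one_mem hyX
  have hxP : x ∈ P := (hP x).2 ⟨hx, hxX, hxx⟩
  have hyR : y ∈ R := (hR y).2 ⟨hy, hyX, hyy⟩
  have h1 : y * x * y⁻¹ ∈ P :=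
    (hP _).2 ⟨Q.mul_mem (Q.mul_mem hy hx) (inv_mem hy), h.conj_mem x hxX y, h.symm (h.normal Q hQ x hx y hy (h.sub hyX) hxX)⟩
  have h2 : x⁻¹ * y * x⁻¹⁻¹ ∈ R :=
    (hR _).2 ⟨Q.mul_mem (Q.mul_mem (inv_mem hx) hy) (inv_mem (inv_mem hx)), h.conj_mem y hyX x⁻¹,
      h.symm (h.normal Q hQ y hy x⁻¹ (inv_mem hx) (h.sub (h.inv_mem x hxX)) hyX)⟩
  have h3 : x⁻¹ * (y * x * y⁻¹) ∈ P := P.mul_mem (inv_mem hxP) h1
  have h4 : x⁻¹ * (y * x * y⁻¹) ∈ R := by
    have e : x⁻¹ * (y * x * y⁻¹) = (x⁻¹ * y * x⁻¹⁻¹) * y⁻¹ := by group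
    rw [e]; exact R.mul_mem h2 (inv_mem hyR)
  obtain ⟨h3Q, h3X, h3x⟩ := (hP _).1 h3
  obtain ⟨_, _, h4y⟩ := (hR _).1 h4
  have h5 : x⁻¹ * (y * x * y⁻¹) = 1 := by
    by_contra hne
    refine hne (h.indep Q hQ x hx hxX hx1 _ h3Q h3X h3x (subset_closure ⟨h3Q, h3X, fun _ => ?_⟩))
    exact hxy (h.trans Q hQ x hx _ h3Q y hy hxX h3X hyX hne (h.symm h3x) h4y)
  have h6 : y * x * y⁻¹ = x := (inv_mul_eq_one.1 h5).symm
  calc x * y = (y * x * y⁻¹) * y := by rw [h6]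
    _ = y * x := by group

theorem orth_of_notMem {Q : Subgroup G} (hQ : IsPGroup 2 Q) {x y : G} (hx : x ∈ Q) (hy : y ∈ Q) (hxX : x ∈ X)
    (hyX : y ∈ X) (hxy : x * y ∉ X) : Orth X x y :=
  ⟨hxX, hyX, h.comm hQ hx hy hxX hyX hxy, hxy⟩

end Multi

namespace Orth

variable {X : Set G} {x y : G} (hxy : Orth X x y)
include hxy

theorem symm : Orth X y x := ⟨hxy.right, hxy.left, hxy.comm.symm, by rw [← hxy.comm]; exact hxy.notMem⟩

theorem left_ne_one : x ≠ 1 := fun e => hxy.notMem (by rw [e, one_mul]; exact hxy.right)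

theorem right_ne_one : y ≠ 1 := fun e => hxy.notMem (by rw [e, mul_one]; exact hxy.left)

theorem conj {𝒜 : Set G} (h : Multi 𝒜 X) (g : G) : Orth X (g * x * g⁻¹) (g * y * g⁻¹) := by
  refine ⟨h.conj_mem x hxy.left g, h.conj_mem y hxy.right g, ?_, ?_⟩
  · calc g * x * g⁻¹ * (g * y * g⁻¹) = g * (x * y) * g⁻¹ := by group
      _ = g * (y * x) * g⁻¹ := by rw [hxy.comm]
      _ = g * y * g⁻¹ * (g * x * g⁻¹) := by group
  · have e : g * x * g⁻¹ * (g * y * g⁻¹) = g * (x * y) * g⁻¹ := by group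
    rw [e, h.conj_mem_iff]; exact hxy.notMem

end Orth

namespace Multi

variable {𝒜 X : Set G} (h : Multi 𝒜 X)
include h

/-- orthogonality only depends on the parts -/
theorem orth_of_same {Q : Subgroup G} (hQ : IsPGroup 2 Q) {x x' y : G} (hx : x ∈ Q) (hx' : x' ∈ Q) (hy : y ∈ Q)
    (hx'X : x' ∈ X) (hx'1 : x' ≠ 1) (hxx : x * x' ∈ X) (hxy : Orth X x y) : Orth X x' y := by
  refine h.orth_of_notMem hQ hx' hy hx'X hxy.right fun h1 => ?_
  exact hxy.notMem (h.trans Q hQ x hx x' hx' y hy hxy.left hx'X hxy.right hx'1 hxx h1)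

theorem notMem_inv {Q : Subgroup G} (hQ : IsPGroup 2 Q) {x y : G} (hx : x ∈ Q) (hy : y ∈ Q) (hxX : x ∈ X)
    (hyX : y ∈ X) (hxy : x * y ∉ X) : x⁻¹ * y ∉ X := by
  intro h1
  have := h.inv_mul_mem hQ (inv_mem hx) hy (h.inv_mem x hxX) hyX h1
  rw [inv_inv] at this
  exact hxy this

/-- uniqueness of the decomposition of a product of two orthogonal elements -/
theorem coord_two {Q : Subgroup G} (hQ : IsPGroup 2 Q) {x y u v : G} (hx : x ∈ Q) (hy : y ∈ Q) (hu : u ∈ Q)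
    (hv : v ∈ Q) (hxX : x ∈ X) (hyX : y ∈ X) (huX : u ∈ X) (hvX : v ∈ X) (hxy : x * y ∉ X)
    (he : u * v = x * y) : u = x ∨ u = y := by
  have huv : u * v ∉ X := by rw [he]; exact hxy
  have hcxy := h.comm hQ hx hy hxX hyX hxy
  have hx1 : x ≠ 1 := fun e => hxy (by rw [e, one_mul]; exact hyX)
  have hy1 : y ≠ 1 := fun e => hxy (by rw [e, mul_one]; exact hxX)
  have hu1 : u ≠ 1 := fun e => huv (by rw [e, one_mul]; exact hvX)
  by_cases hux : u * x ∈ X
  · left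
    obtain ⟨P, hP⟩ := h.exists_part hQ hx hxX hx1
    have hxP : x ∈ P := (hP x).2 ⟨hx, hxX, by simpa using h.normal Q hQ x hx 1 (one_mem _) h.fam.one_mem hxX⟩
    have huP : u ∈ P := (hP u).2 ⟨hu, huX, hux⟩
    obtain ⟨a1, a2, a3⟩ := (hP _).1 (P.mul_mem (inv_mem hxP) huP)
    have e : x⁻¹ * u = y * v⁻¹ := by
      rw [inv_mul_eq_iff_eq_mul, ← mul_assoc, ← he, mul_inv_cancel_right]
    have hvx : v * x ∉ X := fun h1 => huv (h.trans Q hQ u hu x hx v hv huX hxX hvX hx1 hux (h.symm h1))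
    have h2 : x⁻¹ * u = 1 := by
      refine h.indep Q hQ x hx hxX hx1 _ a1 a2 a3 ?_
      rw [e]
      refine Subgroup.mul_mem _ (subset_closure ⟨hy, hyX, fun h1 => hxy (h.symm h1)⟩) (inv_mem ?_)
      exact subset_closure ⟨hv, hvX, hvx⟩
    exact (inv_mul_eq_one.1 h2).symm
  · by_cases huy : u * y ∈ X
    · right
      obtain ⟨P, hP⟩ := h.exists_part hQ hy hyX hy1
      have hyP : y ∈ P := (hP y).2 ⟨hy, hyX, by simpa using h.normal Q hQ y hy 1 (one_mem _) h.fam.one_mem hyX⟩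
      have huP : u ∈ P := (hP u).2 ⟨hu, huX, huy⟩
      obtain ⟨a1, a2, a3⟩ := (hP _).1 (P.mul_mem (inv_mem hyP) huP)
      have e : y⁻¹ * u = x * v⁻¹ := by
        rw [inv_mul_eq_iff_eq_mul, ← mul_assoc, ← hcxy, ← he, mul_inv_cancel_right]
      have hvy : v * y ∉ X := fun h1 => huv (h.trans Q hQ u hu y hy v hv huX hyX hvX hy1 huy (h.symm h1))
      have h2 : y⁻¹ * u = 1 := by
        refine h.indep Q hQ y hy hyX hy1 _ a1 a2 a3 ?_
        rw [e]
        refine Subgroup.mul_mem _ (subset_closure ⟨hx, hxX, hxy⟩) (inv_mem ?_)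
        exact subset_closure ⟨hv, hvX, hvy⟩
      exact (inv_mul_eq_one.1 h2).symm
    · exfalso
      apply hu1
      refine h.indep Q hQ u hu huX hu1 u hu huX
        (by simpa using h.normal Q hQ u hu 1 (one_mem _) h.fam.one_mem huX) ?_
      have e : u = x * y * v⁻¹ := by rw [← he, mul_inv_cancel_right]
      rw [e]
      have s1 : ∀ z, z ∈ Q → z ∈ X → z * u ∉ X →
          z ∈ closure {w : G | w ∈ Q ∧ w ∈ X ∧ w * (x * y * v⁻¹) ∉ X} := by
        intro z hz hzX hzu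
        exact subset_closure ⟨hz, hzX, by rw [← e]; exact hzu⟩
      refine Subgroup.mul_mem _ (Subgroup.mul_mem _ (s1 x hx hxX fun h1 => hux (h.symm h1))
        (s1 y hy hyX fun h1 => huy (h.symm h1))) (inv_mem (s1 v hv hvX fun h1 => huv (h.symm h1)))

/-- a product of three pairwise orthogonal elements is not a product of two elements of `X` -/
theorem coord_three {Q : Subgroup G} (hQ : IsPGroup 2 Q) {p q s u v : G} (hp : p ∈ Q) (hq : q ∈ Q) (hs : s ∈ Q)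
    (hu : u ∈ Q) (hv : v ∈ Q) (huX : u ∈ X) (hvX : v ∈ X)
    (hpq : Orth X p q) (hqs : Orth X q s) (hps : Orth X p s) : p * q * s ≠ u * v := by
  intro he
  have key : ∀ a b c : G, a ∈ Q → b ∈ Q → c ∈ Q → Orth X a b → Orth X a c → a * b * c = u * v →
      (u ≠ 1 ∧ a * u ∈ X) ∨ (v ≠ 1 ∧ a * v ∈ X) := by
    intro a b c ha hb hc hab hac e
    by_contra hcon
    rw [not_or, not_and, not_and] at hcon
    apply hab.left_ne_one
    refine h.indep Q hQ a ha hab.left hab.left_ne_one a ha hab.left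
      (by simpa using h.normal Q hQ a ha 1 (one_mem _) h.fam.one_mem hab.left) ?_
    have e' : a = u * v * c⁻¹ * b⁻¹ := by rw [← e]; group
    have s1 : ∀ z, z ∈ Q → z ∈ X → (z ≠ 1 → z * a ∉ X) →
        z ∈ closure {w : G | w ∈ Q ∧ w ∈ X ∧ w * a ∉ X} := by
      intro z hz hzX hza
      by_cases hz1 : z = 1
      · rw [hz1]; exact Subgroup.one_mem _
      · exact subset_closure ⟨hz, hzX, hza hz1⟩
    have h1 : u * v * c⁻¹ * b⁻¹ ∈ closure {w : G | w ∈ Q ∧ w ∈ X ∧ w * a ∉ X} := by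
      refine Subgroup.mul_mem _ (Subgroup.mul_mem _ (Subgroup.mul_mem _ ?_ ?_) (inv_mem ?_)) (inv_mem ?_)
      · exact s1 u hu huX fun h1 h2 => hcon.1 h1 (h.symm h2)
      · exact s1 v hv hvX fun h1 h2 => hcon.2 h1 (h.symm h2)
      · exact s1 c hc hac.right fun _ h2 => hac.notMem (h.symm h2)
      · exact s1 b hb hab.right fun _ h2 => hab.notMem (h.symm h2)
    rw [← e'] at h1
    exact h1
  have kp := key p q s hp hq hs hpq hps he
  have kq := key q p s hq hp hs hpq.symm hqs (by rw [← hpq.comm]; exact he)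
  have ks := key s q p hs hq hp hqs.symm hps.symm (by
    rw [← he]
    calc s * q * p = (s * q) * p := rfl
      _ = (q * s) * p := by rw [hqs.comm]
      _ = q * (s * p) := by group
      _ = q * (p * s) := by rw [hps.comm]
      _ = (q * p) * s := by group
      _ = p * q * s := by rw [hpq.comm])
  have no : ∀ a b w : G, a ∈ Q → b ∈ Q → w ∈ Q → w ∈ X → Orth X a b → w ≠ 1 → a * w ∈ X → b * w ∈ X → False := by
    intro a b w ha hb hw hwX hab hw1 h1 h2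
    exact hab.notMem (h.trans Q hQ a ha w hw b hb hab.left hwX hab.right hw1 h1 (h.symm h2))
  rcases kp with ⟨hu1, kp⟩ | ⟨hv1, kp⟩
  · rcases kq with ⟨_, kq⟩ | ⟨hv1, kq⟩
    · exact no p q u hp hq hu huX hpq hu1 kp kq
    · rcases ks with ⟨_, ks⟩ | ⟨_, ks⟩
      · exact no p s u hp hs hu huX hps hu1 kp ks
      · exact no q s v hq hs hv hvX hqs hv1 kq ks
  · rcases kq with ⟨hu1, kq⟩ | ⟨_, kq⟩
    · rcases ks with ⟨_, ks⟩ | ⟨_, ks⟩
      · exact no q s u hq hs hu huX hqs hu1 kq ks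
      · exact no p s v hp hs hv hvX hps hv1 kp ks
    · exact no p q v hp hq hv hvX hpq hv1 kp kq

end Multi

end Cfsg.Agent.PermParts.Basic
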