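import Cfsg.Agent.PermParts.Basic
import Cfsg.Agent.TwoFusion.ClosedFour
import Cfsg.Agent.Lib.SylowNormalInf

/-!
# Parts: central representatives, partners, conjugacy of maximal `𝒜`-subgroups
-/

set_option autoImplicit false
set_option linter.style.haveILetI false

namespace Cfsg.Agent.PermParts.Parts

open Subgroup
open Cfsg.Agent.TwoFusion.ClosedFam Cfsg.Agent.TwoFusion.ClosedSimple
open Cfsg.Agent.TwoFusion.ClosedFour (Four)
open Cfsg.Agent.PermParts.Basic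

variable {G : Type*} [Group G] {𝒜 X : Set G}

/-! ### Conjugacy of `𝒜`-subgroups under `⟨𝒜⟩` -/

/-- the elements of `𝒜` in a 2-subgroup are conjugate under `⟨𝒜⟩` into a given Sylow subgroup. -/
theorem exists_fam_conj_sylow [Finite G] (h : IsClosedFam 𝒜) {Q : Subgroup G} (hQ : IsPGroup 2 Q)
    (T : Sylow 2 G) :
    ∃ g ∈ fam 𝒜 (⊤ : Subgroup G), ∀ q ∈ Q, q ∈ 𝒜 → g * q * g⁻¹ ∈ (T : Subgroup G) := by
  haveI : Fact (Nat.Prime 2) := ⟨Nat.prime_two⟩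
  haveI hN : (fam 𝒜 (⊤ : Subgroup G)).Normal := h.fam_normal ⊤
  obtain ⟨g, hg, hgq⟩ := Cfsg.Agent.TwoFusion.ClosedLocal.exists_conj_sylow_subgroup
    (H := fam 𝒜 (⊤ : Subgroup G)) (isPGroup_fam 𝒜 hQ) (fam_mono 𝒜 (le_top : Q ≤ ⊤))
    ((Cfsg.Agent.Lib.SylowNormalInf.isPGroup_subgroupOf T (fam 𝒜 (⊤ : Subgroup G))).toSylow
      (Cfsg.Agent.Lib.SylowNormalInf.not_dvd_relIndex T _))
  refine ⟨g, hg, fun q hq hq𝒜 => ?_⟩
  obtain ⟨y, hy, hy'⟩ := hgq q (mem_fam hq𝒜 hq)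
  rw [← hy']
  exact hy

/-- the same in a subgroup `H`. -/
theorem exists_fam_conj_sylow_subgroup [Finite G] (h : IsClosedFam 𝒜) {H Q : Subgroup G} (hQ : IsPGroup 2 Q)
    (hQH : Q ≤ H) (T : Sylow 2 H) :
    ∃ g ∈ fam 𝒜 H, ∀ q ∈ Q, q ∈ 𝒜 → g * q * g⁻¹ ∈ (T : Subgroup H).map H.subtype := by
  have hQ' : IsPGroup 2 (Q.subgroupOf H) := hQ.of_equiv (Subgroup.subgroupOfEquivOfLe hQH).symm
  obtain ⟨g, hg, hgq⟩ := exists_fam_conj_sylow (h.restrict H) hQ' T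
  refine ⟨g, ?_, fun q hq hq𝒜 => ?_⟩
  · rw [← map_fam_restrict_top]
    exact ⟨g, hg, rfl⟩
  · exact ⟨g * ⟨q, hQH hq⟩ * g⁻¹, hgq _ hq hq𝒜, rfl⟩

/-- a 2-subgroup `R` of `H` is contained in a 2-subgroup `T` of `H` such that the `𝒜`-subgroups of `H` are conjugate
under `⟨𝒜 ∩ H⟩` into `T`. -/
theorem exists_big [Finite G] (h : IsClosedFam 𝒜) {H R : Subgroup G} (hR : IsPGroup 2 R) (hRH : R ≤ H) :
    ∃ T : Subgroup G, IsPGroup 2 T ∧ R ≤ T ∧ T ≤ H ∧ ∀ Q : Subgroup G, IsPGroup 2 Q → Q ≤ H →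
      ∃ g ∈ fam 𝒜 H, ∀ q ∈ Q, q ∈ 𝒜 → g * q * g⁻¹ ∈ T := by
  have hR' : IsPGroup 2 (R.subgroupOf H) := hR.of_equiv (Subgroup.subgroupOfEquivOfLe hRH).symm
  obtain ⟨T, hT⟩ := hR'.exists_le_sylow
  refine ⟨(T : Subgroup H).map H.subtype, T.2.map _, fun r hr => ⟨⟨r, hRH hr⟩, hT hr, rfl⟩,
    map_subtype_le _, fun Q hQ hQH => ?_⟩
  exact exists_fam_conj_sylow_subgroup h hQ hQH T

/-- `𝒜 ∩ T` is a maximal `𝒜`-subgroup. -/
theorem mem_of_le [Finite G] (h : IsClosedFam 𝒜) (T : Sylow 2 G) {R : Subgroup G} (hR : IsPGroup 2 R)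
    (hTR : ∀ t ∈ (T : Subgroup G), t ∈ 𝒜 → t ∈ R) {x : G} (hx : x ∈ 𝒜) (hxR : x ∈ R) : x ∈ (T : Subgroup G) := by
  have hle : fam 𝒜 (T : Subgroup G) ≤ fam 𝒜 R := by
    rw [fam_le_iff]
    exact fun t ht htT => mem_fam ht (hTR t htT ht)
  obtain ⟨g, -, hg⟩ := exists_fam_conj_sylow h hR T
  have hcard : Nat.card (fam 𝒜 R) ≤ Nat.card (fam 𝒜 (T : Subgroup G)) := by
    have h1 : (fam 𝒜 R).map (MulAut.conj g).toMonoidHom ≤ fam 𝒜 (T : Subgroup G) := by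
      rw [map_le_iff_le_comap, fam_le_iff]
      intro y hy hyR
      exact mem_fam (h.conj_mem y hy g) (hg y hyR hy)
    have h2 := Nat.card_le_card_of_injective _ (Subgroup.inclusion_injective h1)
    rwa [Subgroup.card_map_of_injective (MulAut.conj g).injective] at h2
  have heq : fam 𝒜 (T : Subgroup G) = fam 𝒜 R := Subgroup.eq_of_le_of_card_ge hle hcard
  have h3 : x ∈ fam 𝒜 R := mem_fam hx hxR
  rw [← heq] at h3
  exact fam_le _ _ h3

/-! ### Two elements commuting modulo the core -/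

/-- two 2-elements of `H` commuting modulo `O(H)` lie in a 2-subgroup after conjugation by an element of `O(H)`. -/
theorem exists_common [Finite G] {H : Subgroup G} {x y : G} (hx : IsPGroup 2 (zpowers x))
    (hy : IsPGroup 2 (zpowers y)) (hxH : x ∈ H) (hyH : y ∈ H) (hxy : x * y * x⁻¹ * y⁻¹ ∈ core H) :
    ∃ o ∈ core H, ∃ Q : Subgroup G, IsPGroup 2 Q ∧ Q ≤ H ∧ o * x * o⁻¹ ∈ Q ∧ y ∈ Q := by
  haveI hnorm : (Cfsg.pPrimeCore 2 H).Normal := Cfsg.Agent.Lib.Cores.pPrimeCore_normal 2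
  set f : H →* H ⧸ (Cfsg.pPrimeCore 2 H) := QuotientGroup.mk' _ with hf
  have hfs : Function.Surjective f := QuotientGroup.mk'_surjective _
  have hker : f.ker = Cfsg.pPrimeCore 2 H := by rw [hf, QuotientGroup.ker_mk']
  set a : H := ⟨x, hxH⟩ with ha
  set b : H := ⟨y, hyH⟩ with hb
  have hmem : ∀ {u : G} (hu : u ∈ core H), ∃ v : H, v ∈ Cfsg.pPrimeCore 2 H ∧ (v : G) = u := by
    rintro u ⟨v, hv, rfl⟩
    exact ⟨v, hv, rfl⟩
  have hcomm : f a * f b = f b * f a := by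
    obtain ⟨v, hv, hv'⟩ := hmem hxy
    have e1 : a * b * a⁻¹ * b⁻¹ = v := Subtype.ext hv'.symm
    have e2 : f (a * b * a⁻¹ * b⁻¹) = 1 := by rw [e1, ← MonoidHom.mem_ker, hker]; exact hv
    rw [map_mul, map_mul, map_mul, map_inv, map_inv] at e2
    have e3 := mul_inv_eq_one.1 e2
    exact mul_inv_eq_iff_eq_mul.1 e3
  have hpow : ∀ {u : G} (hu : u ∈ H), IsPGroup 2 (zpowers u) → ∃ k : ℕ, (⟨u, hu⟩ : H) ^ 2 ^ k = 1 := by
    intro u hu hp
    obtain ⟨k, hk⟩ := hp ⟨u, mem_zpowers u⟩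
    have hk' : u ^ 2 ^ k = 1 := congrArg Subtype.val hk
    exact ⟨k, Subtype.ext hk'⟩
  obtain ⟨k, hk⟩ := hpow hxH hx
  obtain ⟨l, hl⟩ := hpow hyH hy
  have hQ' : IsPGroup 2 (zpowers (f a) ⊔ zpowers (f b) : Subgroup _) := by
    refine Basic.isPGroup_sup_zpowers (isPGroup_zpowers_of_pow (k := k) ?_) (isPGroup_zpowers_of_pow (k := l) ?_) ?_
    · rw [← map_pow, hk, map_one]
    · rw [← map_pow, hl, map_one]
    · intro q hq
      obtain ⟨n, rfl⟩ := mem_zpowers_iff.1 hq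
      exact ((show Commute (f b) (f a) from hcomm.symm).zpow_right n).eq
  obtain ⟨Q, hQ, -, hQx⟩ := exists_lift hfs _ hQ'
  obtain ⟨n₁, hn₁, h1⟩ := hQx a (isPGroup_zpowers_of_pow hk) (mem_sup_left (mem_zpowers _))
  obtain ⟨n₂, hn₂, h2⟩ := hQx b (isPGroup_zpowers_of_pow hl) (mem_sup_right (mem_zpowers _))
  rw [hker] at hn₁ hn₂
  refine ⟨((n₂⁻¹ * n₁ : H) : G), ⟨n₂⁻¹ * n₁, mul_mem (inv_mem hn₂) hn₁, rfl⟩,
    (Q.map (MulAut.conj n₂⁻¹).toMonoidHom).map H.subtype, (hQ.map _).map _, map_subtype_le _, ?_, ?_⟩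
  · refine ⟨n₂⁻¹ * (n₁ * a * n₁⁻¹) * n₂⁻¹⁻¹, ⟨_, h1, rfl⟩, ?_⟩
    have e : n₂⁻¹ * (n₁ * a * n₁⁻¹) * n₂⁻¹⁻¹ = n₂⁻¹ * n₁ * a * (n₂⁻¹ * n₁)⁻¹ := by group
    rw [e]
    rfl
  · refine ⟨n₂⁻¹ * (n₂ * b * n₂⁻¹) * n₂⁻¹⁻¹, ⟨_, h2, rfl⟩, ?_⟩
    have e : n₂⁻¹ * (n₂ * b * n₂⁻¹) * n₂⁻¹⁻¹ = b := by group
    rw [e]
    rfl

/-! ### Parts -/

section Multi

variable (h : Multi 𝒜 X)
include h

/-- `≈` is invariant under conjugation by `𝒜`. -/
theorem same_conj {Q : Subgroup G} (hQ : IsPGroup 2 Q) {x c q : G} (hx : x ∈ Q) (hc : c ∈ Q) (hq : q ∈ Q)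
    (hxX : x ∈ X) (hcX : c ∈ X) (hq𝒜 : q ∈ 𝒜) (hxc : x * c ∈ X) : q * x * q⁻¹ * c ∈ X := by
  by_cases hx1 : x = 1
  · rw [hx1]
    simpa using hcX
  · exact h.trans Q hQ _ (mul_mem (mul_mem hq hx) (inv_mem hq)) x hx c hc (h.conj_mem x hxX q) hxX hcX hx1
      (h.symm (h.normal Q hQ x hx q hq hq𝒜 hxX)) hxc

/-- every part contains an involution centralised by the elements of `𝒜`. -/
theorem exists_central [Finite G] {T : Subgroup G} (hT : IsPGroup 2 T) {x : G} (hxX : x ∈ X) (hxT : x ∈ T)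
    (hx1 : x ≠ 1) : ∃ c ∈ X, c ∈ T ∧ orderOf c = 2 ∧ x * c ∈ X ∧ ∀ t ∈ T, t ∈ 𝒜 → c * t = t * c := by
  haveI : Fact (Nat.Prime 2) := ⟨Nat.prime_two⟩
  obtain ⟨P, hP⟩ := h.exists_part hT hxT hxX hx1
  have hPA : ∀ p ∈ P, p ∈ fam 𝒜 T := fun p hp => mem_fam (h.sub ((hP p).1 hp).2.1) ((hP p).1 hp).1
  have hA : IsPGroup 2 (fam 𝒜 T) := isPGroup_fam 𝒜 hT
  haveI hN : (P.subgroupOf (fam 𝒜 T)).Normal := by
    refine ⟨fun p hp g => ?_⟩
    rw [mem_subgroupOf] at hp ⊢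
    obtain ⟨h1, h2, h3⟩ := (hP _).1 hp
    obtain ⟨hg1, hg2⟩ := (h.fam.mem_fam_iff hT).1 g.2
    exact (hP _).2 ⟨mul_mem (mul_mem hg2 h1) (inv_mem hg2), h.conj_mem _ h2 _,
      same_conj h hT h1 hxT hg2 h2 hxX hg1 h3⟩
  have hxP : x ∈ P := (hP x).2 ⟨hxT, hxX, by simpa using h.normal T hT x hxT 1 (one_mem _) h.fam.one_mem hxX⟩
  have hne : P.subgroupOf (fam 𝒜 T) ≠ ⊥ := by
    intro hb
    have : (⟨x, hPA x hxP⟩ : fam 𝒜 T) ∈ P.subgroupOf (fam 𝒜 T) := hxP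
    rw [hb, mem_bot] at this
    exact hx1 (congrArg Subtype.val this)
  obtain ⟨z, hz, hzc, hz2⟩ := Cfsg.Agent.Involutions.NormalFour.exists_mem_center_of_normal hA
    (P.subgroupOf (fam 𝒜 T)) hne
  obtain ⟨h1, h2, h3⟩ := (hP (z : G)).1 hz
  refine ⟨z, h2, h1, by rw [← hz2, Subgroup.orderOf_coe], h.symm h3, ?_⟩
  intro t ht ht𝒜
  have := mem_center_iff.1 hzc ⟨t, mem_fam ht𝒜 ht⟩
  exact (congrArg Subtype.val this).symm

/-- every part contains an involution -/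
theorem exists_involution [Finite G] {Q : Subgroup G} (hQ : IsPGroup 2 Q) {x : G} (hxX : x ∈ X) (hxQ : x ∈ Q)
    (hx1 : x ≠ 1) : ∃ c ∈ X, c ∈ Q ∧ orderOf c = 2 ∧ x * c ∈ X := by
  obtain ⟨c, h1, h2, h3, h4, -⟩ := exists_central h hQ hxX hxQ hx1
  exact ⟨c, h1, h2, h3, h4⟩

/-- being in the same part, used in the second argument -/
theorem orth_of_same_right {Q : Subgroup G} (hQ : IsPGroup 2 Q) {x y y' : G} (hx : x ∈ Q) (hy : y ∈ Q)
    (hy' : y' ∈ Q) (hy'X : y' ∈ X) (hy'1 : y' ≠ 1) (hyy : y * y' ∈ X) (hxy : Orth X x y) : Orth X x y' :=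
  (h.orth_of_same hQ hy hy' hx hy'X hy'1 hyy hxy.symm).symm

/-- of two orthogonal elements at least one is orthogonal to a third element -/
theorem orth_or_orth {Q : Subgroup G} (hQ : IsPGroup 2 Q) {x a b : G} (hx : x ∈ Q) (ha : a ∈ Q) (hb : b ∈ Q)
    (hxX : x ∈ X) (hx1 : x ≠ 1) (hab : Orth X a b) : Orth X x a ∨ Orth X x b := by
  by_cases h1 : x * a ∈ X
  · by_cases h2 : x * b ∈ X
    · exact absurd (h.trans Q hQ a ha x hx b hb hab.left hxX hab.right hx1 (h.symm h1) h2) hab.notMem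
    · exact Or.inr (h.orth_of_notMem hQ hx hb hxX hab.right h2)
  · exact Or.inl (h.orth_of_notMem hQ hx ha hxX hab.left h1)

/-- commuting elements of `X` lie in a 2-subgroup -/
theorem isPGroup_sup {x y : G} (hx : x ∈ X) (hy : y ∈ X) (hxy : x * y = y * x) :
    IsPGroup 2 (zpowers x ⊔ zpowers y : Subgroup G) := by
  refine isPGroup_sup_zpowers (h.isPGroup_zpowers hx) (h.isPGroup_zpowers hy) ?_
  intro q hq
  obtain ⟨n, rfl⟩ := mem_zpowers_iff.1 hq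
  exact ((show Commute y x from hxy.symm).zpow_right n).eq

theorem orth_isPGroup {x y : G} (hxy : Orth X x y) : IsPGroup 2 (zpowers x ⊔ zpowers y : Subgroup G) :=
  isPGroup_sup h hxy.left hxy.right hxy.comm

/-- An orthogonal pair can be conjugated into a given Sylow subgroup. -/
theorem exists_orth_sylow [Finite G] (T : Sylow 2 G) (hO : ∃ a b, Orth X a b) :
    ∃ a b, Orth X a b ∧ a ∈ (T : Subgroup G) ∧ b ∈ (T : Subgroup G) := by
  obtain ⟨a, b, hab⟩ := hO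
  obtain ⟨g, -, hg⟩ := exists_fam_conj_sylow h.fam (orth_isPGroup h hab) T
  exact ⟨_, _, hab.conj h g, hg a (mem_sup_left (mem_zpowers a)) (h.sub hab.left),
    hg b (mem_sup_right (mem_zpowers b)) (h.sub hab.right)⟩

/-- If there are two parts, then every `x ∈ X ∩ T` is orthogonal to a central involution. -/
theorem exists_orth [Finite G] (T : Sylow 2 G) (hO : ∃ a b, Orth X a b) {x : G} (hxX : x ∈ X)
    (hxT : x ∈ (T : Subgroup G)) (hx1 : x ≠ 1) :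
    ∃ y ∈ X, y ∈ (T : Subgroup G) ∧ orderOf y = 2 ∧ Orth X x y ∧
      ∀ t ∈ (T : Subgroup G), t ∈ 𝒜 → y * t = t * y := by
  obtain ⟨a, b, hab, haT, hbT⟩ := exists_orth_sylow h T hO
  rcases orth_or_orth h T.2 hxT haT hbT hxX hx1 hab with h1 | h1
  · obtain ⟨c, hcX, hcT, oc, hac, hcc⟩ := exists_central h T.2 h1.right haT h1.right_ne_one
    refine ⟨c, hcX, hcT, oc, ?_, hcc⟩
    exact orth_of_same_right h T.2 hxT haT hcT hcX (Cfsg.Agent.TwoFusion.ClosedLocal.ne_one oc) hac h1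
  · obtain ⟨c, hcX, hcT, oc, hac, hcc⟩ := exists_central h T.2 h1.right hbT h1.right_ne_one
    refine ⟨c, hcX, hcT, oc, ?_, hcc⟩
    exact orth_of_same_right h T.2 hxT hbT hcT hcX (Cfsg.Agent.TwoFusion.ClosedLocal.ne_one oc) hac h1

/-- Three pairwise orthogonal elements can be conjugated into a given Sylow subgroup. -/
theorem exists_three_sylow [Finite G] (T : Sylow 2 G) (h3 : Three X) :
    ∃ a b c, Orth X a b ∧ Orth X b c ∧ Orth X a c ∧ a ∈ (T : Subgroup G) ∧ b ∈ (T : Subgroup G) ∧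
      c ∈ (T : Subgroup G) := by
  obtain ⟨a, b, c, hab, hbc, hac⟩ := h3
  have hQ : IsPGroup 2 ((zpowers a ⊔ zpowers b) ⊔ zpowers c : Subgroup G) := by
    refine isPGroup_sup_zpowers (orth_isPGroup h hab) (h.isPGroup_zpowers hbc.right) ?_
    intro q hq
    have h1 : zpowers a ⊔ zpowers b ≤ centralizer ({c} : Set G) := by
      refine sup_le ?_ ?_
      · rw [zpowers_le, mem_centralizer_singleton_iff]; exact hac.comm
      · rw [zpowers_le, mem_centralizer_singleton_iff]; exact hbc.comm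
    exact (mem_centralizer_singleton_iff.1 (h1 hq)).symm
  obtain ⟨g, -, hg⟩ := exists_fam_conj_sylow h.fam hQ T
  exact ⟨_, _, _, hab.conj h g, hbc.conj h g, hac.conj h g,
    hg a (mem_sup_left (mem_sup_left (mem_zpowers a))) (h.sub hab.left),
    hg b (mem_sup_left (mem_sup_right (mem_zpowers b))) (h.sub hab.right),
    hg c (mem_sup_right (mem_zpowers c)) (h.sub hbc.right)⟩

/-- If there are three parts, then any two elements of `X ∩ T` are orthogonal to a central involution. -/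
theorem exists_third [Finite G] (T : Sylow 2 G) (h3 : Three X) {x y : G} (hxX : x ∈ X)
    (hxT : x ∈ (T : Subgroup G)) (hx1 : x ≠ 1) (hyX : y ∈ X) (hyT : y ∈ (T : Subgroup G)) (hy1 : y ≠ 1) :
    ∃ z ∈ X, z ∈ (T : Subgroup G) ∧ orderOf z = 2 ∧ Orth X x z ∧ Orth X y z ∧
      ∀ t ∈ (T : Subgroup G), t ∈ 𝒜 → z * t = t * z := by
  obtain ⟨a, b, c, hab, hbc, hac, haT, hbT, hcT⟩ := exists_three_sylow h T h3
  have key : ∃ d ∈ (T : Subgroup G), Orth X x d ∧ Orth X y d := by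
    have fin : ∀ p q s : G, p ∈ (T : Subgroup G) → q ∈ (T : Subgroup G) → s ∈ (T : Subgroup G) →
        Orth X p q → Orth X q s → Orth X p s → Orth X x p → Orth X x q →
        ∃ d ∈ (T : Subgroup G), Orth X x d ∧ Orth X y d := by
      intro p q s hp hq hs hpq hqs hps hxp hxq
      rcases orth_or_orth h T.2 hyT hp hq hyX hy1 hpq with h1 | h1
      · exact ⟨p, hp, hxp, h1⟩
      · exact ⟨q, hq, hxq, h1⟩
    rcases orth_or_orth h T.2 hxT haT hbT hxX hx1 hab with h1 | h1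
    · rcases orth_or_orth h T.2 hxT hbT hcT hxX hx1 hbc with h2 | h2
      · exact fin a b c haT hbT hcT hab hbc hac h1 h2
      · exact fin a c b haT hcT hbT hac hbc.symm hab h1 h2
    · rcases orth_or_orth h T.2 hxT haT hcT hxX hx1 hac with h2 | h2
      · exact fin a b c haT hbT hcT hab hbc hac h2 h1
      · exact fin b c a hbT hcT haT hbc hac.symm hab.symm h1 h2
  obtain ⟨d, hdT, hxd, hyd⟩ := key
  obtain ⟨z, hzX, hzT, oz, hdz, hzz⟩ := exists_central h T.2 hxd.right hdT hxd.right_ne_one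
  have hz1 := Cfsg.Agent.TwoFusion.ClosedLocal.ne_one oz
  exact ⟨z, hzX, hzT, oz, orth_of_same_right h T.2 hxT hdT hzT hzX hz1 hdz hxd,
    orth_of_same_right h T.2 hyT hdT hzT hzX hz1 hdz hyd, hzz⟩

/-- Every involution of `X ∩ T` commutes with another involution of its part in `T`. -/
theorem exists_partner [Finite G] (hR : Rich X) (T : Sylow 2 G) {x : G} (hxX : x ∈ X)
    (hxT : x ∈ (T : Subgroup G)) (ox : orderOf x = 2) :
    ∃ y ∈ X, y ∈ (T : Subgroup G) ∧ orderOf y = 2 ∧ y ≠ x ∧ x * y = y * x ∧ x * y ∈ X := by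
  have hx1 := Cfsg.Agent.TwoFusion.ClosedLocal.ne_one ox
  obtain ⟨c, hcX, hcT, oc, hxc, hcc⟩ := exists_central h T.2 hxX hxT hx1
  by_cases hcx : c = x
  · subst hcx
    obtain ⟨y, hyX, oy, hyx, hxy, hxyX⟩ := hR c hxX ox
    have hyC : zpowers y ≤ centralizer ({c} : Set G) := by
      rw [zpowers_le, mem_centralizer_singleton_iff]; exact hxy.symm
    have hTC : fam 𝒜 (T : Subgroup G) ≤ centralizer ({c} : Set G) := by
      rw [fam_le_iff]
      intro t ht htT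
      rw [mem_centralizer_singleton_iff]
      exact (hcc t htT ht).symm
    obtain ⟨R, hRp, hTR, hRC, hRQ⟩ := exists_big h.fam (isPGroup_fam 𝒜 T.2) hTC
    obtain ⟨g, hg, hgy⟩ := hRQ (zpowers y) (h.isPGroup_zpowers hyX) hyC
    have hgc : g * c = c * g := mem_centralizer_singleton_iff.1 (fam_le _ _ hg)
    have hgyR := hgy y (mem_zpowers y) (h.sub hyX)
    have hgyX := h.conj_mem y hyX g
    have hgyT : g * y * g⁻¹ ∈ (T : Subgroup G) :=
      mem_of_le h.fam T hRp (fun t ht ht𝒜 => hTR (mem_fam ht𝒜 ht)) (h.sub hgyX) hgyR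
    have e1 : c * (g * y * g⁻¹) = g * (c * y) * g⁻¹ := by
      calc c * (g * y * g⁻¹) = (c * g) * y * g⁻¹ := by group
        _ = g * (c * y) * g⁻¹ := by rw [← hgc]; group
    have e2 : g * y * g⁻¹ * c = g * (y * c) * g⁻¹ := by
      have : g⁻¹ * c = c * g⁻¹ := by
        calc g⁻¹ * c = g⁻¹ * (c * g) * g⁻¹ := by group
          _ = c * g⁻¹ := by rw [← hgc]; group
      calc g * y * g⁻¹ * c = g * y * (g⁻¹ * c) := by group
        _ = g * (y * c) * g⁻¹ := by rw [this]; group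
    refine ⟨g * y * g⁻¹, hgyX, hgyT, ?_, ?_, ?_, ?_⟩
    · rw [Cfsg.Agent.TwoFusion.ClosedFour.orderOf_conj]; exact oy
    · intro e
      apply hyx
      have : y = g⁻¹ * (g * y * g⁻¹) * g := by group
      rw [this, e]
      calc g⁻¹ * c * g = g⁻¹ * (c * g) := by group
        _ = c := by rw [← hgc]; group
    · rw [e1, e2, hxy]
    · rw [e1]; exact h.conj_mem _ hxyX g
  · exact ⟨c, hcX, hcT, oc, hcx, (hcc x hxT (h.sub hxX)).symm, hxc⟩

/-! ### Four-groups -/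

/-- the four-group generated by two commuting involutions of one part -/
theorem four_of_pair [Finite G] {a b : G} (ha : a ∈ X) (hb : b ∈ X) (oa : orderOf a = 2) (ob : orderOf b = 2)
    (hne : a ≠ b) (hab : a * b = b * a) (habX : a * b ∈ X) :
    ∃ E : Subgroup G, Four X E ∧ a ∈ E ∧ b ∈ E ∧ ∀ Q : Subgroup G, a ∈ Q → b ∈ Q → E ≤ Q := by
  obtain ⟨E, hE, haE, hbE, hEQ⟩ := Cfsg.Agent.TwoFusion.ClosedFour.exists_four h.fam (h.sub ha) (h.sub hb)
    oa ob hne hab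
  obtain ⟨P, hP⟩ := h.exists_part hE.isPGroup haE ha (Cfsg.Agent.TwoFusion.ClosedLocal.ne_one oa)
  have hle : E ≤ P := hEQ P ((hP a).2 ⟨haE, ha, by
      simpa using h.normal E hE.isPGroup a haE 1 (one_mem _) h.fam.one_mem ha⟩)
    ((hP b).2 ⟨hbE, hb, h.symm habX⟩)
  exact ⟨E, ⟨hE.comm, hE.sq, hE.card, fun x hx => ((hP x).1 (hle hx)).2.1⟩, haE, hbE, hEQ⟩

/-- a four-group of `X` in `T` containing a given involution -/
theorem exists_four_sylow [Finite G] (hR : Rich X) (T : Sylow 2 G) {x : G} (hxX : x ∈ X)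
    (hxT : x ∈ (T : Subgroup G)) (ox : orderOf x = 2) :
    ∃ E : Subgroup G, Four X E ∧ x ∈ E ∧ E ≤ (T : Subgroup G) := by
  obtain ⟨y, hyX, hyT, oy, hyx, hxy, hxyX⟩ := exists_partner h hR T hxX hxT ox
  obtain ⟨E, hE, hxE, -, hEQ⟩ := four_of_pair h hxX hyX ox oy (Ne.symm hyx) hxy hxyX
  exact ⟨E, hE, hxE, hEQ _ hxT hyT⟩

/-- orthogonality to one involution of a four-group -/
theorem orth_four {E Q : Subgroup G} (hE : Four X E) (hQ : IsPGroup 2 Q) (hEQ : E ≤ Q) {x x' y : G} (hx : x ∈ E)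
    (hx' : x' ∈ E) (hx'1 : x' ≠ 1) (hy : y ∈ Q) (hxy : Orth X x y) : Orth X x' y :=
  h.orth_of_same hQ (hEQ hx) (hEQ hx') hy (hE.sub x' hx') hx'1 (hE.sub _ (mul_mem hx hx')) hxy

/-- Orthogonal involutions of `T` lie in orthogonal four-groups of `T`. -/
theorem exists_fours_sylow [Finite G] (hR : Rich X) (T : Sylow 2 G) {x y : G} (hxy : Orth X x y)
    (hxT : x ∈ (T : Subgroup G)) (hyT : y ∈ (T : Subgroup G)) (ox : orderOf x = 2) (oy : orderOf y = 2) :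
    ∃ E F : Subgroup G, Four X E ∧ Four X F ∧ x ∈ E ∧ y ∈ F ∧ E ≤ (T : Subgroup G) ∧ F ≤ (T : Subgroup G) ∧
      ∀ a ∈ E, a ≠ 1 → ∀ b ∈ F, b ≠ 1 → Orth X a b := by
  obtain ⟨E, hE, hxE, hET⟩ := exists_four_sylow h hR T hxy.left hxT ox
  obtain ⟨F, hF, hyF, hFT⟩ := exists_four_sylow h hR T hxy.right hyT oy
  refine ⟨E, F, hE, hF, hxE, hyF, hET, hFT, fun a ha ha1 b hb hb1 => ?_⟩
  have h1 : Orth X a y := orth_four h hE T.2 hET hxE ha ha1 hyT hxy
  exact (orth_four h hF T.2 hFT hyF hb hb1 (hET ha) h1.symm).symm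

/-- Orthogonal involutions lie in orthogonal four-groups. -/
theorem exists_fours [Finite G] (hR : Rich X) {x y : G} (hxy : Orth X x y) (ox : orderOf x = 2)
    (oy : orderOf y = 2) : ∃ E F : Subgroup G, Four X E ∧ Four X F ∧ x ∈ E ∧ y ∈ F ∧
      ∀ a ∈ E, a ≠ 1 → ∀ b ∈ F, b ≠ 1 → Orth X a b := by
  obtain ⟨T, hT⟩ := (orth_isPGroup h hxy).exists_le_sylow
  obtain ⟨E, F, h1, h2, h3, h4, -, -, h5⟩ := exists_fours_sylow h hR T hxy (hT (mem_sup_left (mem_zpowers x)))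
    (hT (mem_sup_right (mem_zpowers y))) ox oy
  exact ⟨E, F, h1, h2, h3, h4, h5⟩

/-! ### The colouring at `w` -/

/-- Elements of different classes are orthogonal after conjugation by an element of `O_w`. -/
theorem exists_orth_of_not_rel [Finite G] {w : G} {r : G → G → Prop} (hr : SepAt 𝒜 X w r) {v v' : G}
    (hv : v ∈ X) (hv' : v' ∈ X) (hvw : v * w = w * v) (hv'w : v' * w = w * v') (hv1 : v ≠ 1) (hv'1 : v' ≠ 1)
    (hn : ¬ r v v') : ∃ o ∈ Oc w, Orth X (o * v * o⁻¹) v' := by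
  have hvC : v ∈ centralizer ({w} : Set G) := mem_centralizer_singleton_iff.2 hvw
  have hv'C : v' ∈ centralizer ({w} : Set G) := mem_centralizer_singleton_iff.2 hv'w
  obtain ⟨o, ho, Q, hQ, hQC, h1, h2⟩ := exists_common (h.isPGroup_zpowers hv) (h.isPGroup_zpowers hv') hvC hv'C
    (hr.comm v hv v' hv' hvw hv'w hv1 hv'1 hn)
  refine ⟨o, ho, h.orth_of_notMem hQ h1 h2 (h.conj_mem v hv o) hv' fun h3 => ?_⟩
  have h4 : r (o * v * o⁻¹) v' := by
    refine hr.same Q hQ _ h1 _ h2 (h.conj_mem v hv o) hv' ?_ hv'w ?_ hv'1 h3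
    · exact mem_centralizer_singleton_iff.1 (hQC h1)
    · intro e
      apply hv1
      have : v = o⁻¹ * (o * v * o⁻¹) * o := by group
      rw [this, e]; group
  exact hn (hr.eqv.trans (hr.eqv.symm (hr.core_conj o ho v hv hvw hv1)) h4)

end Multi

end Cfsg.Agent.PermParts.Parts
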