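import Cfsg.Agent.ProdFusion.Functor
import Cfsg.Agent.PermParts.Parts

/-!
# Theorem PP (permuted parts): the functor part (a)-(f)

Blueprint `PP-relative-helper671.md`, steps (a)-(f). `Ctx 𝒜 X` collects the local input: core separation of orthogonal
four-groups, the colourings `SepAt` and (I5). Result: `W x := Wab x y` (`y ⊥ x` any involution) depends only on the
involution `x ∈ X`, it does not change when `x` is replaced by a commuting involution of `X`, and if it is constant and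
`O(G) = 1` then `[O_x, y] = 1` and `O_x ∩ O_y = 1` for `x ⊥ y`.
-/

set_option autoImplicit false
set_option linter.style.haveILetI false
set_option maxHeartbeats 400000
set_option linter.unusedSectionVars false

namespace Cfsg.Agent.PermParts.Functor

open Subgroup
open scoped commutatorElement
open Cfsg.Agent.TwoFusion.ClosedFam Cfsg.Agent.TwoFusion.ClosedSimple
open Cfsg.Agent.Lib.CoprimeCommutator
open Cfsg.Agent.TwoFusion.ClosedFour Cfsg.Agent.TwoFusion.ClosedFunctor
open Cfsg.Agent.TwoFusion.GoldWFunctor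
open Cfsg.Agent.PermParts.Basic Cfsg.Agent.PermParts.Parts
open Cfsg.Agent.ProdFusion.Functor

variable {G : Type*} [Group G]

/-- orthogonal involutions -/
structure OI (X : Set G) (x y : G) : Prop where
  orth : Orth X x y
  left : orderOf x = 2
  right : orderOf y = 2

theorem OI.symm {X : Set G} {x y : G} (h : OI X x y) : OI X y x := ⟨h.orth.symm, h.right, h.left⟩

theorem OI.conj {𝒜 X : Set G} (hM : Multi 𝒜 X) {x y : G} (h : OI X x y) (g : G) :
    OI X (g * x * g⁻¹) (g * y * g⁻¹) :=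
  ⟨h.orth.conj hM g, by rw [orderOf_conj, h.left], by rw [orderOf_conj, h.right]⟩

/-- orthogonal four-groups -/
structure OF (X : Set G) (E F : Subgroup G) : Prop where
  left : Four X E
  right : Four X F
  orth : ∀ a ∈ E, a ≠ 1 → ∀ b ∈ F, b ≠ 1 → Orth X a b

theorem OF.symm {X : Set G} {E F : Subgroup G} (h : OF X E F) : OF X F E :=
  ⟨h.right, h.left, fun a ha ha1 b hb hb1 => (h.orth b hb hb1 a ha ha1).symm⟩

theorem OF.oi {X : Set G} {E F : Subgroup G} (h : OF X E F) {a b : G} (ha : a ∈ E) (ha1 : a ≠ 1) (hb : b ∈ F)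
    (hb1 : b ≠ 1) : OI X a b :=
  ⟨h.orth a ha ha1 b hb hb1, h.left.orderOf_eq ha ha1, h.right.orderOf_eq hb hb1⟩

/-- The local input. -/
structure Ctx (𝒜 X : Set G) : Prop where
  multi : Multi 𝒜 X
  rich : Rich X
  three : Three X
  complete : Complete G
  cs : ∀ E F : Subgroup G, OF X E F → Cfsg.IsCoreSeparated E F
  sep : ∀ w ∈ X, orderOf w = 2 → ∃ r : G → G → Prop, SepAt 𝒜 X w r
  i5 : ∀ b b' w : G, OI X b b' → OI X b w → OI X b' w → Oc b ⊓ Oc b' ⊓ centralizer ({w} : Set G) ≤ Oc w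

/-! ### Generalities -/

theorem map_conj_of_mem_normalizer {K : Subgroup G} {g : G} (hg : g ∈ normalizer (K : Set G)) :
    K.map (MulAut.conj g).toMonoidHom = K := by
  apply le_antisymm
  · rintro _ ⟨x, hx, rfl⟩
    exact (mem_normalizer_iff.1 hg x).1 hx
  · intro x hx
    refine ⟨g⁻¹ * x * g, ?_, ?_⟩
    · have := (mem_normalizer_iff.1 (inv_mem hg) x).1 hx
      rwa [inv_inv] at this
    · change g * (g⁻¹ * x * g) * g⁻¹ = x
      group

theorem mem_normalizer_of_map_conj {K : Subgroup G} {g : G} (hg : K.map (MulAut.conj g).toMonoidHom = K) :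
    g ∈ normalizer (K : Set G) := by
  rw [mem_normalizer_iff]
  intro x
  constructor
  · intro hx
    rw [← hg]
    exact ⟨x, hx, rfl⟩
  · intro hx
    rw [← hg] at hx
    obtain ⟨y, hy, hyx⟩ := hx
    have e : g * y * g⁻¹ = g * x * g⁻¹ := hyx
    have e2 : y = x := by
      have := congrArg (fun t => g⁻¹ * t * g) e
      simpa [mul_assoc] using this
    rwa [e2] at hy

theorem four_univ {X : Set G} {E : Subgroup G} (h : Four X E) : Four Set.univ E :=
  ⟨h.comm, h.sq, h.card, fun _ _ => Set.mem_univ _⟩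

theorem orth_sylow {𝒜 X : Set G} (h : Multi 𝒜 X) {E F T : Subgroup G} (hT : IsPGroup 2 T) (hE : Four X E)
    (hF : Four X F) (hET : E ≤ T) (hFT : F ≤ T) {x y : G} (hx : x ∈ E) (hy : y ∈ F) (hxy : Orth X x y) :
    OF X E F := by
  refine ⟨hE, hF, fun a ha ha1 b hb hb1 => ?_⟩
  have h1 : Orth X a y := orth_four h hE hT hET hx ha ha1 (hFT hy) hxy
  exact (orth_four h hF hT hFT hy hb hb1 (hET ha) h1.symm).symm

/-- Three pairwise orthogonal elements lie in a Sylow subgroup. -/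
theorem exists_sylow_three [Finite G] {𝒜 X : Set G} (h : Multi 𝒜 X) {x y z : G} (hxy : Orth X x y)
    (hxz : Orth X x z) (hyz : Orth X y z) :
    ∃ T : Sylow 2 G, x ∈ (T : Subgroup G) ∧ y ∈ (T : Subgroup G) ∧ z ∈ (T : Subgroup G) := by
  have hQ : IsPGroup 2 ((zpowers x ⊔ zpowers y) ⊔ zpowers z : Subgroup G) := by
    refine isPGroup_sup_zpowers (orth_isPGroup h hxy) (h.isPGroup_zpowers hxz.right) ?_
    intro q hq
    have h1 : zpowers x ⊔ zpowers y ≤ centralizer ({z} : Set G) := by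
      refine sup_le ?_ ?_
      · rw [zpowers_le, mem_centralizer_singleton_iff]; exact hxz.comm
      · rw [zpowers_le, mem_centralizer_singleton_iff]; exact hyz.comm
    exact (mem_centralizer_singleton_iff.1 (h1 hq)).symm
  obtain ⟨T, hT⟩ := hQ.exists_le_sylow
  exact ⟨T, hT (mem_sup_left (mem_sup_left (mem_zpowers x))), hT (mem_sup_left (mem_sup_right (mem_zpowers y))),
    hT (mem_sup_right (mem_zpowers z))⟩

namespace Ctx

variable [Finite G] {𝒜 X : Set G} (c : Ctx 𝒜 X)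
include c

theorem cs' {E F : Subgroup G} (h : OF X E F) : CS E F :=
  CS.mk' (four_univ h.left) (four_univ h.right) (c.cs E F h)

theorem exists_of {x y : G} (h : OI X x y) : ∃ E F, OF X E F ∧ x ∈ E ∧ y ∈ F := by
  obtain ⟨E, F, hE, hF, hxE, hyF, ho⟩ := exists_fours c.multi c.rich h.orth h.left h.right
  exact ⟨E, F, ⟨hE, hF, ho⟩, hxE, hyF⟩

theorem exists_of_three {x y z : G} (hxy : OI X x y) (hxz : OI X x z) (hyz : OI X y z) :
    ∃ E F V, OF X E F ∧ OF X E V ∧ OF X F V ∧ x ∈ E ∧ y ∈ F ∧ z ∈ V := by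
  obtain ⟨T, hxT, hyT, hzT⟩ := exists_sylow_three c.multi hxy.orth hxz.orth hyz.orth
  obtain ⟨E, hE, hxE, hET⟩ := exists_four_sylow c.multi c.rich T hxy.orth.left hxT hxy.left
  obtain ⟨F, hF, hyF, hFT⟩ := exists_four_sylow c.multi c.rich T hxy.orth.right hyT hxy.right
  obtain ⟨V, hV, hzV, hVT⟩ := exists_four_sylow c.multi c.rich T hxz.orth.right hzT hxz.right
  exact ⟨E, F, V, orth_sylow c.multi T.2 hE hF hET hFT hxE hyF hxy.orth,
    orth_sylow c.multi T.2 hE hV hET hVT hxE hzV hxz.orth,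
    orth_sylow c.multi T.2 hF hV hFT hVT hyF hzV hyz.orth, hxE, hyF, hzV⟩

/-- a third involution -/
theorem exists_third {x y : G} (h : OI X x y) : ∃ z, OI X x z ∧ OI X y z := by
  obtain ⟨T, hT⟩ := (orth_isPGroup c.multi h.orth).exists_le_sylow
  obtain ⟨z, -, -, oz, h1, h2, -⟩ := Parts.exists_third c.multi T c.three h.orth.left
    (hT (mem_sup_left (mem_zpowers x))) h.orth.left_ne_one h.orth.right
    (hT (mem_sup_right (mem_zpowers y))) h.orth.right_ne_one
  exact ⟨z, ⟨h1, h.left, oz⟩, ⟨h2, h.right, oz⟩⟩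

/-- an orthogonal involution -/
theorem exists_oi {x : G} (hx : x ∈ X) (ox : orderOf x = 2) : ∃ y, OI X x y := by
  obtain ⟨T, hT⟩ := (c.multi.isPGroup_zpowers hx).exists_le_sylow
  have hO : ∃ a b, Orth X a b := by
    obtain ⟨a, b, _, hab, _⟩ := c.three
    exact ⟨a, b, hab⟩
  obtain ⟨y, -, -, oy, h1, -⟩ := exists_orth c.multi T hO hx (hT (mem_zpowers x))
    (Cfsg.Agent.TwoFusion.ClosedLocal.ne_one ox)
  exact ⟨y, h1, ox, oy⟩

/-- `T(y; v) ∩ C(f) ≤ O_f` -/
theorem T_inf_le {E F : Subgroup G} (h : OF X E F) {y f v : G} (hy : y ∈ E) (hy1 : y ≠ 1) (hv : v ∈ F)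
    (hv1 : v ≠ 1) (hf : f ∈ F) (hf1 : f ≠ 1) : T y v ⊓ centralizer ({f} : Set G) ≤ Oc y ⊓ Oc f := by
  have hcs := c.cs' h
  rw [T_congr c.complete hcs hy hy1 hv hv1 hf hf1]
  have hyf : y * f = f * y := (h.orth y hy hy1 f hf hf1).comm
  refine le_inf (inf_le_left.trans (T_le y f hyf.symm)) ?_
  refine (inf_le_inf (T_le_wab c.complete hcs hy hy1 hf hf1) le_rfl).trans ?_
  rw [wab_inf_right c.complete hcs hy hy1 hf hf1]
  exact T_le f y hyf

/-- (a) -/
theorem T_le_T {y v v' : G} (h1 : OI X y v) (h2 : OI X y v') (h3 : OI X v v') : T y v ≤ T y v' := by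
  obtain ⟨E, F, V, hEF, hEV, hFV, hyE, hvF, hv'V⟩ := c.exists_of_three h1 h2 h3
  have hcs := c.cs' hEF
  have hcs' := c.cs' hEV
  have hy1 := h1.orth.left_ne_one
  have hv1 := h1.orth.right_ne_one
  have hv'1 := h2.orth.right_ne_one
  refine hEF.right.le_of_forall (Odd.of_dvd_nat (Oc_odd y) (card_dvd_of_le (T_le y v h1.orth.comm.symm)))
    (le_sup_right.trans (le_normalizer_T c.complete hcs hyE hy1 hvF hv1)) fun f hf hf1 => ?_
  refine (c.T_inf_le hEF hyE hy1 hvF hv1 hf hf1).trans ?_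
  have hn1 : V ≤ normalizer (Oc y : Set G) := Fours.le_normalizer_Oc' fun g hg => (hcs'.comm y hyE g hg).symm
  have hn2 : V ≤ normalizer (Oc f : Set G) := Fours.le_normalizer_Oc' fun g hg =>
    ((c.cs' hFV).comm f hf g hg).symm
  refine hEV.right.le_of_forall (Odd.of_dvd_nat (Oc_odd y) (card_dvd_of_le inf_le_left))
    (le_normalizer_inf hn1 hn2) fun f' hf' hf'1 => ?_
  rw [T_congr c.complete hcs' hyE hy1 hv'V hv'1 hf' hf'1]
  refine le_trans (le_inf (inf_le_left.trans inf_le_left) ?_) (inf_le_T y f')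
  exact c.i5 y f f' (hEF.oi hyE hy1 hf hf1) (hEV.oi hyE hy1 hf' hf'1) (hFV.oi hf hf1 hf' hf'1)

theorem T_eq_of_orth {y v v' : G} (h1 : OI X y v) (h2 : OI X y v') (h3 : OI X v v') : T y v = T y v' :=
  le_antisymm (c.T_le_T h1 h2 h3) (c.T_le_T h2 h1 h3.symm)

theorem oi_core_conj {y v o : G} (h : OI X y v) (ho : o ∈ Oc y) : OI X y (o * v * o⁻¹) := by
  have h1 := h.conj c.multi o
  have e : o * y * o⁻¹ = y := by
    have : o * y = y * o := mem_centralizer_singleton.1 (Oc_le y ho)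
    rw [this]; group
  rwa [e] at h1

theorem T_core_conj {y v o : G} (h : OI X y v) (ho : o ∈ Oc y) : T y (o * v * o⁻¹) = T y v := by
  obtain ⟨E, F, hEF, hyE, hvF⟩ := c.exists_of h
  have h1 := Oc_le_normalizer_T c.complete (c.cs' hEF) hyE h.orth.left_ne_one hvF h.orth.right_ne_one ho
  have h2 := map_conj_of_mem_normalizer h1
  have e : o * y * o⁻¹ = y := by
    have : o * y = y * o := mem_centralizer_singleton.1 (Oc_le y ho)
    rw [this]; group
  rw [map_T, e] at h2
  exact h2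

/-- (b) `T(y; v)` depends only on `y`. -/
theorem T_eq_T {y v v' : G} (h1 : OI X y v) (h2 : OI X y v') : T y v = T y v' := by
  obtain ⟨r, hr⟩ := c.sep y h1.orth.left h1.left
  have key : ∀ a b, OI X y a → OI X y b → ¬ r a b → T y a = T y b := by
    intro a b ha hb hab
    obtain ⟨o, ho, hor⟩ := exists_orth_of_not_rel c.multi hr ha.orth.right hb.orth.right ha.orth.comm.symm
      hb.orth.comm.symm ha.orth.right_ne_one hb.orth.right_ne_one hab
    rw [← c.T_core_conj ha ho]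
    exact c.T_eq_of_orth (c.oi_core_conj ha ho) hb ⟨hor, by rw [orderOf_conj, ha.right], hb.right⟩
  by_cases hvv : r v v'
  · obtain ⟨z, hz1, hz2⟩ := c.exists_third h1
    have h3 : ¬ r v z := hr.orth v z hz2.orth h1.orth.comm.symm hz1.orth.comm.symm
    have h4 : ¬ r z v' := fun h => h3 (hr.eqv.trans hvv (hr.eqv.symm h))
    exact (key v z h1 hz1 h3).trans (key z v' hz1 h2 h4)
  · exact key v v' h1 h2 hvv

omit [Finite G] c in
/-- the common value of the `T(y; v)` -/
def Pf (X : Set G) (y : G) : Subgroup G := ⨆ v : {v : G // OI X y v}, T y v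

theorem Pf_eq {y v : G} (h : OI X y v) : Pf X y = T y v := by
  apply le_antisymm
  · exact iSup_le fun w => (c.T_eq_T w.2 h).le
  · exact le_iSup (fun w : {v : G // OI X y v} => T y (w : G)) ⟨v, h⟩

omit [Finite G] c in
/-- the group generated by the `Pf e`, `e ∈ E#` -/
def WE (X : Set G) (E : Subgroup G) : Subgroup G := ⨆ e : {e : G // e ∈ E ∧ e ≠ 1}, Pf X e

theorem wab_eq_WE {E F : Subgroup G} (h : OF X E F) {x y : G} (hx : x ∈ E) (hx1 : x ≠ 1) (hy : y ∈ F)
    (hy1 : y ≠ 1) : Wab x y = WE X E := by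
  have hcs := c.cs' h
  apply le_antisymm
  · refine wab_le_of_T_le c.complete hcs hx hx1 hy hy1 fun e he he1 => ?_
    rw [← c.Pf_eq (h.oi he he1 hy hy1)]
    exact le_iSup (fun e : {e : G // e ∈ E ∧ e ≠ 1} => Pf X (e : G)) ⟨e, he, he1⟩
  · refine iSup_le fun e => ?_
    rw [c.Pf_eq (h.oi e.2.1 e.2.2 hy hy1), wab_congr c.complete hcs hx hx1 hy hy1 e.2.1 e.2.2 hy hy1]
    exact T_le_wab c.complete hcs e.2.1 e.2.2 hy hy1

theorem wab_comm' {x y : G} (h : OI X x y) : Wab x y = Wab y x := by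
  obtain ⟨E, F, hEF, hxE, hyF⟩ := c.exists_of h
  exact wab_comm c.complete (c.cs' hEF) hxE h.orth.left_ne_one hyF h.orth.right_ne_one

/-- (c) -/
theorem wab_eq_right {x y v : G} (h1 : OI X x y) (h2 : OI X x v) (h3 : OI X y v) : Wab x y = Wab x v := by
  obtain ⟨E, F, V, hEF, hEV, -, hxE, hyF, hvV⟩ := c.exists_of_three h1 h2 h3
  rw [c.wab_eq_WE hEF hxE h1.orth.left_ne_one hyF h1.orth.right_ne_one,
    c.wab_eq_WE hEV hxE h1.orth.left_ne_one hvV h2.orth.right_ne_one]

theorem wab_eq_left {x y v : G} (h1 : OI X x y) (h2 : OI X x v) (h3 : OI X y v) : Wab x y = Wab v y := by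
  rw [c.wab_comm' h1, c.wab_eq_right h1.symm h3 h2, c.wab_comm' h3]

theorem commutator_mem_wab {x y o : G} (h : OI X x y) (ho : o ∈ Oc x) : ⁅o, y⁆ ∈ Wab x y :=
  mem_sup_left (mem_sup_left (mem_sup_left (commutator_mem_commutator ho (mem_zpowers y))))

/-- (d) `O_x` normalises `W(x, y)`. -/
theorem Oc_le_normalizer_wab {x y : G} (h : OI X x y) : Oc x ≤ normalizer (Wab x y : Set G) := by
  haveI : Fact (Nat.Prime 2) := ⟨Nat.prime_two⟩
  obtain ⟨v, hxv, hyv⟩ := c.exists_third h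
  obtain ⟨E, F, V, hEF, hEV, hFV, hxE, hyF, hvV⟩ := c.exists_of_three h hxv hyv
  have hx1 := h.orth.left_ne_one
  have hy1 := h.orth.right_ne_one
  have hv1 := hxv.orth.right_ne_one
  have e1 : Wab x y = Wab x v := c.wab_eq_right h hxv hyv
  have e2 : Wab x y = Wab y v := by
    rw [c.wab_eq_left h hxv hyv, ← c.wab_comm' hyv]
  have hFn : F ≤ normalizer (Wab x y : Set G) :=
    le_sup_right.trans (le_normalizer_wab c.complete (c.cs' hEF) hxE hx1 hyF hy1)
  have hVn : V ≤ normalizer (Wab x y : Set G) := by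
    rw [e1]
    exact le_sup_right.trans (le_normalizer_wab c.complete (c.cs' hEV) hxE hx1 hvV hv1)
  have hodd : Odd (Nat.card (Wab x y)) := wab_odd c.complete (c.cs' hEF) hxE hx1 hyF hy1
  intro o ho
  have ho1 : ⁅o, y⁆ ∈ Wab x y := c.commutator_mem_wab h ho
  have ho2 : ⁅o, v⁆ ∈ Wab x y := by
    rw [e1]
    exact c.commutator_mem_wab hxv ho
  -- the 2-group `⟨y, v⟩`
  have hP : IsPGroup 2 (zpowers y ⊔ zpowers v : Subgroup G) := orth_isPGroup c.multi hyv.orth
  have hPn : zpowers y ⊔ zpowers v ≤ normalizer (Wab x y : Set G) := by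
    refine sup_le ?_ ?_
    · rw [zpowers_le]; exact hFn hyF
    · rw [zpowers_le]; exact hVn hvV
  have hcl : zpowers y ⊔ zpowers v = closure ({y, v} : Set G) := by
    rw [zpowers_eq_closure, zpowers_eq_closure, ← Subgroup.closure_union]
    rfl
  have hcom : ∀ a ∈ zpowers y ⊔ zpowers v, ⁅o, a⁆ ∈ Wab x y := by
    intro a ha
    have hn : ∀ b ∈ closure ({y, v} : Set G), b ∈ normalizer (Wab x y : Set G) := by
      intro b hb
      rw [← hcl] at hb
      exact hPn hb
    rw [hcl] at ha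
    induction ha using closure_induction with
    | mem a ha =>
      rcases ha with rfl | ha
      · exact ho1
      · rw [Set.mem_singleton_iff] at ha
        rw [ha]; exact ho2
    | one => rw [commutatorElement_one_right]; exact one_mem _
    | mul a b ha hb iha ihb =>
      have e : ⁅o, a * b⁆ = ⁅o, a⁆ * (a * ⁅o, b⁆ * a⁻¹) := by
        simp only [commutatorElement_def]; group
      rw [e]
      exact mul_mem iha ((mem_normalizer_iff.1 (hn a ha) _).1 ihb)
    | inv a ha iha =>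
      have e : ⁅o, a⁻¹⁆ = a⁻¹ * ⁅o, a⁆⁻¹ * a⁻¹⁻¹ := by
        simp only [commutatorElement_def]; group
      rw [e]
      exact (mem_normalizer_iff.1 (inv_mem (hn a ha)) _).1 (inv_mem iha)
  obtain ⟨d, hd, hod⟩ := exists_fixed_in_coset 2 (zpowers y ⊔ zpowers v) (Wab x y) hP hPn
    (by rw [← even_iff_two_dvd, Nat.not_even_iff_odd]; exact hodd) o⁻¹ (by
      intro a ha
      have e : o⁻¹⁻¹ * (a * o⁻¹ * a⁻¹) = ⁅o, a⁆ := by rw [commutatorElement_def]; group
      rw [e]; exact hcom a ha)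
  rw [inv_inv] at hod
  -- `d` commutes with `y` and `v`
  have hdy : d * y = y * d := (mem_centralizer_iff.1 hd y (mem_sup_left (mem_zpowers y))).symm
  have hdv : d * v = v * d := (mem_centralizer_iff.1 hd v (mem_sup_right (mem_zpowers v))).symm
  have hdn : d ∈ normalizer (Wab x y : Set G) := by
    apply mem_normalizer_of_map_conj
    rw [e2, map_Wab]
    have e3 : d * y * d⁻¹ = y := by rw [hdy]; group
    have e4 : d * v * d⁻¹ = v := by rw [hdv]; group
    rw [e3, e4]
  have e5 : o = o * d * d⁻¹ := by group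
  rw [e5]
  exact mul_mem (le_normalizer hod) (inv_mem hdn)

theorem wab_core_conj {x y o : G} (h : OI X x y) (ho : o ∈ Oc x) : Wab x (o * y * o⁻¹) = Wab x y := by
  have h2 := map_conj_of_mem_normalizer (c.Oc_le_normalizer_wab h ho)
  have e : o * x * o⁻¹ = x := by
    have : o * x = x * o := mem_centralizer_singleton.1 (Oc_le x ho)
    rw [this]; group
  rw [map_Wab, e] at h2
  exact h2

/-- (e) `W(x, y)` depends only on `x`. -/
theorem wab_eq_wab {x y y' : G} (h1 : OI X x y) (h2 : OI X x y') : Wab x y = Wab x y' := by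
  obtain ⟨r, hr⟩ := c.sep x h1.orth.left h1.left
  have key : ∀ a b, OI X x a → OI X x b → ¬ r a b → Wab x a = Wab x b := by
    intro a b ha hb hab
    obtain ⟨o, ho, hor⟩ := exists_orth_of_not_rel c.multi hr ha.orth.right hb.orth.right ha.orth.comm.symm
      hb.orth.comm.symm ha.orth.right_ne_one hb.orth.right_ne_one hab
    rw [← c.wab_core_conj ha ho]
    exact c.wab_eq_right (c.oi_core_conj ha ho) hb ⟨hor, by rw [orderOf_conj, ha.right], hb.right⟩
  by_cases hvv : r y y'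
  · obtain ⟨z, hz1, hz2⟩ := c.exists_third h1
    have h3 : ¬ r y z := hr.orth y z hz2.orth h1.orth.comm.symm hz1.orth.comm.symm
    have h4 : ¬ r z y' := fun h => h3 (hr.eqv.trans hvv (hr.eqv.symm h))
    exact (key y z h1 hz1 h3).trans (key z y' hz1 h2 h4)
  · exact key y y' h1 h2 hvv

omit [Finite G] c in
/-- the functor -/
def Wx (X : Set G) (x : G) : Subgroup G := ⨆ y : {y : G // OI X x y}, Wab x y

theorem Wx_eq {x y : G} (h : OI X x y) : Wx X x = Wab x y := by
  apply le_antisymm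
  · exact iSup_le fun w => (c.wab_eq_wab w.2 h).le
  · exact le_iSup (fun w : {y : G // OI X x y} => Wab x (w : G)) ⟨y, h⟩

theorem Wx_odd {x : G} (hx : x ∈ X) (ox : orderOf x = 2) : Odd (Nat.card (Wx X x)) := by
  obtain ⟨y, hy⟩ := c.exists_oi hx ox
  obtain ⟨E, F, hEF, hxE, hyF⟩ := c.exists_of hy
  rw [c.Wx_eq hy]
  exact wab_odd c.complete (c.cs' hEF) hxE hy.orth.left_ne_one hyF hy.orth.right_ne_one

theorem Wx_conj {x : G} (hx : x ∈ X) (ox : orderOf x = 2) (g : G) :
    Wx X (g * x * g⁻¹) = (Wx X x).map (MulAut.conj g).toMonoidHom := by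
  obtain ⟨y, hy⟩ := c.exists_oi hx ox
  rw [c.Wx_eq hy, map_Wab, c.Wx_eq (hy.conj c.multi g)]

/-- `W` does not change when `x` is replaced by a commuting involution. -/
theorem Wx_comm {x x' : G} (hx : x ∈ X) (hx' : x' ∈ X) (ox : orderOf x = 2) (ox' : orderOf x' = 2)
    (hxx : x * x' = x' * x) : Wx X x = Wx X x' := by
  by_cases hne : x = x'
  · rw [hne]
  by_cases hmem : x * x' ∈ X
  · obtain ⟨E, hE, hxE, hx'E, hEQ⟩ := four_of_pair c.multi hx hx' ox ox' hne hxx hmem
    obtain ⟨T, hT⟩ := (isPGroup_sup c.multi hx hx' hxx).exists_le_sylow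
    have hxT : x ∈ (T : Subgroup G) := hT (mem_sup_left (mem_zpowers x))
    have hx'T : x' ∈ (T : Subgroup G) := hT (mem_sup_right (mem_zpowers x'))
    have hO : ∃ a b, Orth X a b := by
      obtain ⟨a, b, _, hab, _⟩ := c.three
      exact ⟨a, b, hab⟩
    have hx1 := Cfsg.Agent.TwoFusion.ClosedLocal.ne_one ox
    have hx'1 := Cfsg.Agent.TwoFusion.ClosedLocal.ne_one ox'
    obtain ⟨y, hyX, hyT, oy, h1, -⟩ := exists_orth c.multi T hO hx hxT hx1
    obtain ⟨F, hF, hyF, hFT⟩ := exists_four_sylow c.multi c.rich T hyX hyT oy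
    have hEF := orth_sylow c.multi T.2 hE hF (hEQ _ hxT hx'T) hFT hxE hyF h1
    have hy1 := h1.right_ne_one
    rw [c.Wx_eq (hEF.oi hxE hx1 hyF hy1), c.Wx_eq (hEF.oi hx'E hx'1 hyF hy1)]
    exact wab_congr c.complete (c.cs' hEF) hxE hx1 hyF hy1 hx'E hx'1 hyF hy1
  · have h : OI X x x' := ⟨⟨hx, hx', hxx, hmem⟩, ox, ox'⟩
    rw [c.Wx_eq h, c.Wx_eq h.symm, c.wab_comm' h]

/-- (f) If `W` is constant and `O(G) = 1`, then `W = 1`. -/
theorem Wx_eq_bot (hO : Cfsg.oddCore G = ⊥)
    (hconst : ∀ x ∈ X, ∀ y ∈ X, orderOf x = 2 → orderOf y = 2 → Wx X x = Wx X y) {x : G} (hx : x ∈ X)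
    (ox : orderOf x = 2) : Wx X x = ⊥ := by
  haveI : Fact (Nat.Prime 2) := ⟨Nat.prime_two⟩
  have hn : (Wx X x).Normal := by
    rw [← normalizer_eq_top_iff, eq_top_iff]
    intro g _
    apply mem_normalizer_of_map_conj
    rw [← c.Wx_conj hx ox g]
    exact hconst _ (c.multi.conj_mem x hx g) _ hx (by rw [orderOf_conj, ox]) ox
  rw [eq_bot_iff, ← hO]
  exact Cfsg.Agent.Lib.Cores.le_pPrimeCore hn (Nat.coprime_two_right.2 (c.Wx_odd hx ox))

/-- The conclusion of the functor part. -/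
theorem core_comm (hO : Cfsg.oddCore G = ⊥)
    (hconst : ∀ x ∈ X, ∀ y ∈ X, orderOf x = 2 → orderOf y = 2 → Wx X x = Wx X y) {x y : G} (h : OI X x y) :
    (∀ v ∈ Oc x, v * y = y * v) ∧ Oc x ⊓ Oc y = ⊥ := by
  apply of_wab_eq_bot
  rw [← c.Wx_eq h]
  exact c.Wx_eq_bot hO hconst h.orth.left h.left

end Ctx

end Cfsg.Agent.PermParts.Functor
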