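import Cfsg.Agent.PermParts.Parts

/-!
# Restriction of a multifamily to a subgroup, and to the parts orthogonal to a central involution
-/

set_option autoImplicit false
set_option linter.style.haveILetI false
set_option linter.unusedSectionVars false

namespace Cfsg.Agent.PermParts.Restrict

open Subgroup
open Cfsg.Agent.TwoFusion.ClosedFam Cfsg.Agent.TwoFusion.ClosedSimple
open Cfsg.Agent.PermParts.Basic Cfsg.Agent.PermParts.Parts

variable {G : Type*} [Group G] {𝒜 X : Set G}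

/-! ### Restriction -/

/-- A multifamily restricts to a subgroup. -/
theorem multi_restrict (h : Multi 𝒜 X) (H : Subgroup G) :
    Multi {x : H | (x : G) ∈ 𝒜} {x : H | (x : G) ∈ X} where
  fam := h.fam.restrict H
  sub := fun x hx => h.sub hx
  one_mem := h.one_mem
  conj_mem x hx g := h.conj_mem x hx g
  inv_mem x hx := h.inv_mem x hx
  trans Q hQ x hxQ y hyQ z hzQ hx hy hz hy1 hxy hyz :=
    h.trans (Q.map H.subtype) (hQ.map _) x ⟨x, hxQ, rfl⟩ y ⟨y, hyQ, rfl⟩ z ⟨z, hzQ, rfl⟩ hx hy hz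
      (fun e => hy1 (Subtype.ext e)) hxy hyz
  normal Q hQ x hxQ q hqQ hq hx :=
    h.normal (Q.map H.subtype) (hQ.map _) x ⟨x, hxQ, rfl⟩ q ⟨q, hqQ, rfl⟩ hq hx
  indep Q hQ c hcQ hc hc1 x hxQ hx hxc hcl := by
    refine Subtype.ext (h.indep (Q.map H.subtype) (hQ.map _) c ⟨c, hcQ, rfl⟩ hc (fun e => hc1 (Subtype.ext e)) x
      ⟨x, hxQ, rfl⟩ hx hxc ?_)
    have h1 : (x : G) ∈ (closure {y : H | y ∈ Q ∧ y ∈ {x : H | (x : G) ∈ X} ∧ y * c ∉ {x : H | (x : G) ∈ X}}).map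
        H.subtype := ⟨x, hcl, rfl⟩
    rw [MonoidHom.map_closure] at h1
    refine closure_mono ?_ h1
    rintro _ ⟨y, ⟨hyQ, hyX, hyc⟩, rfl⟩
    exact ⟨⟨y, hyQ, rfl⟩, hyX, hyc⟩

theorem orth_restrict_iff {H : Subgroup G} {x y : H} :
    Orth {x : H | (x : G) ∈ X} x y ↔ Orth X (x : G) (y : G) :=
  ⟨fun h => ⟨h.left, h.right, congrArg Subtype.val h.comm, h.notMem⟩,
    fun h => ⟨h.left, h.right, Subtype.ext h.comm, h.notMem⟩⟩

/-- `NoSwap` only concerns the subgroup `⟨𝒜⟩`. -/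
theorem noSwap_of_restrict_fam (hX : X ⊆ 𝒜)
    (hn : NoSwap {x : fam 𝒜 (⊤ : Subgroup G) | (x : G) ∈ 𝒜} {x : fam 𝒜 (⊤ : Subgroup G) | (x : G) ∈ X}) :
    NoSwap 𝒜 X := by
  intro x y hxy g hg Q hQ hgx hy hmem
  have hxF : x ∈ fam 𝒜 (⊤ : Subgroup G) := mem_fam (hX hxy.left) (mem_top x)
  have hyF : y ∈ fam 𝒜 (⊤ : Subgroup G) := mem_fam (hX hxy.right) (mem_top y)
  have hQ' : IsPGroup 2 (Q.subgroupOf (fam 𝒜 (⊤ : Subgroup G))) :=
    hQ.comap_of_injective _ (Subgroup.subtype_injective _)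
  refine hn ⟨x, hxF⟩ ⟨y, hyF⟩ (orth_restrict_iff.2 hxy) ⟨g, hg⟩ ?_ _ hQ' hgx hy hmem
  -- `⟨𝒜⟩` is generated by its elements in `𝒜`
  have key : (fam {x : fam 𝒜 (⊤ : Subgroup G) | (x : G) ∈ 𝒜} ⊤).map (fam 𝒜 (⊤ : Subgroup G)).subtype =
      fam 𝒜 (⊤ : Subgroup G) := by
    rw [map_fam_restrict_top]
    apply le_antisymm (fam_le _ _)
    conv_lhs => unfold Cfsg.Agent.TwoFusion.ClosedFam.fam
    rw [closure_le]
    exact fun a ha => mem_fam ha.1 (mem_fam ha.1 ha.2)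
  have h1 : g ∈ (fam {x : fam 𝒜 (⊤ : Subgroup G) | (x : G) ∈ 𝒜} ⊤).map (fam 𝒜 (⊤ : Subgroup G)).subtype := by
    rw [key]; exact hg
  obtain ⟨g', hg', e⟩ := h1
  have : g' = ⟨g, hg⟩ := Subtype.ext e
  rw [← this]
  exact hg'

/-! ### The parts orthogonal to a central involution -/

/-- the elements of `X` orthogonal to `w`, and `1`. -/
def off (X : Set G) (w : G) : Set G := {v | v ∈ X ∧ (v = 1 ∨ v * w ∉ X)}

section Central

variable {w : G} (h : Multi 𝒜 X) (hw : w ∈ X) (hw1 : w ≠ 1) (hc : ∀ g : G, g * w = w * g)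
include h hw hw1 hc

/-- every 2-subgroup is contained in one containing the central 2-element `w` -/
theorem exists_sup {Q : Subgroup G} (hQ : IsPGroup 2 Q) : ∃ R : Subgroup G, IsPGroup 2 R ∧ Q ≤ R ∧ w ∈ R :=
  ⟨Q ⊔ zpowers w, isPGroup_sup_zpowers hQ (h.isPGroup_zpowers hw) fun q _ => (hc q).symm, le_sup_left,
    mem_sup_right (mem_zpowers w)⟩

theorem mem_off_of_same {Q : Subgroup G} (hQ : IsPGroup 2 Q) {x y : G} (hx : x ∈ Q) (hy : y ∈ Q)
    (hxO : x ∈ off X w) (hx1 : x ≠ 1) (hyX : y ∈ X) (hxy : x * y ∈ X) : y ∈ off X w := by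
  refine ⟨hyX, ?_⟩
  by_cases hy1 : y = 1
  · exact Or.inl hy1
  right
  intro hyw
  obtain ⟨R, hR, hQR, hwR⟩ := exists_sup h hw hw1 hc hQ
  rcases hxO.2 with e | e
  · exact hx1 e
  · exact e (h.trans R hR x (hQR hx) y (hQR hy) w hwR hxO.1 hyX hw hy1 hxy hyw)

theorem mul_mem_off {Q : Subgroup G} (hQ : IsPGroup 2 Q) {x y : G} (hx : x ∈ Q) (hy : y ∈ Q)
    (hxO : x ∈ off X w) (hyO : y ∈ off X w) (hxy : x * y ∈ X) : x * y ∈ off X w := by
  by_cases hx1 : x = 1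
  · rw [hx1, one_mul]; exact hyO
  refine mem_off_of_same h hw hw1 hc hQ hx (mul_mem hx hy) hxO hx1 hxy ?_
  have hxx : x * x ∈ X := by simpa using h.normal Q hQ x hx 1 (one_mem _) h.fam.one_mem hxO.1
  exact h.symm (h.mul_mem hQ hx hx hy hxO.1 hx1 hxO.1 hyO.1 hxx (h.symm hxy)).2

theorem multi_off : Multi 𝒜 (off X w) where
  fam := h.fam
  sub := fun x hx => h.sub hx.1
  one_mem := ⟨h.one_mem, Or.inl rfl⟩
  conj_mem x hx g := by
    refine ⟨h.conj_mem x hx.1 g, ?_⟩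
    rcases hx.2 with e | e
    · left; rw [e]; group
    · right
      have e1 : g * x * g⁻¹ * w = g * (x * w) * g⁻¹ := by
        calc g * x * g⁻¹ * w = g * x * (g⁻¹ * w) := by group
          _ = g * (x * w) * g⁻¹ := by rw [hc g⁻¹]; group
      rw [e1, h.conj_mem_iff]
      exact e
  inv_mem x hx := by
    by_cases hx1 : x = 1
    · rw [hx1, inv_one]; exact ⟨h.one_mem, Or.inl rfl⟩
    · refine mem_off_of_same h hw hw1 hc (h.isPGroup_zpowers hx.1) (mem_zpowers x) (Subgroup.inv_mem _ (mem_zpowers x))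
        hx hx1 (h.inv_mem x hx.1) ?_
      rw [mul_inv_cancel]; exact h.one_mem
  trans Q hQ x hxQ y hyQ z hzQ hx hy hz hy1 hxy hyz := by
    have h1 : x * z ∈ X := h.trans Q hQ x hxQ y hyQ z hzQ hx.1 hy.1 hz.1 hy1 hxy.1 hyz.1
    exact mul_mem_off h hw hw1 hc hQ hxQ hzQ hx hz h1
  normal Q hQ x hxQ q hqQ hq hx := by
    have h1 := h.normal Q hQ x hxQ q hqQ hq hx.1
    have hq' : q * x * q⁻¹ ∈ Q := mul_mem (mul_mem hqQ hxQ) (Subgroup.inv_mem _ hqQ)
    by_cases hx1 : x = 1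
    · rw [hx1, mul_one, one_mul, mul_inv_cancel]; exact ⟨h.one_mem, Or.inl rfl⟩
    · have h2 : q * x * q⁻¹ ∈ off X w :=
        mem_off_of_same h hw hw1 hc hQ hxQ hq' hx hx1 (h.conj_mem x hx.1 q) h1
      exact mul_mem_off h hw hw1 hc hQ hxQ hq' hx h2 h1
  indep Q hQ c hcQ hc' hc1 x hxQ hx hxc hcl := by
    refine h.indep Q hQ c hcQ hc'.1 hc1 x hxQ hx.1 hxc.1 (closure_mono ?_ hcl)
    rintro y ⟨hyQ, hyX, hyc⟩
    exact ⟨hyQ, hyX.1, fun h1 => hyc (mul_mem_off h hw hw1 hc hQ hyQ hcQ hyX hc' h1)⟩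

theorem orth_of_off {x y : G} (hxy : Orth (off X w) x y) : Orth X x y := by
  refine ⟨hxy.left.1, hxy.right.1, hxy.comm, fun h1 => hxy.notMem ?_⟩
  exact mul_mem_off h hw hw1 hc (isPGroup_sup h hxy.left.1 hxy.right.1 hxy.comm)
    (mem_sup_left (mem_zpowers x)) (mem_sup_right (mem_zpowers y)) hxy.left hxy.right h1

theorem noSwap_off (hn : NoSwap 𝒜 (off X w)) : NoSwap 𝒜 X := by
  intro x y hxy g hg Q hQ hgx hy hmem
  obtain ⟨R, hR, hQR, hwR⟩ := exists_sup h hw hw1 hc hQ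
  have hx1 := hxy.left_ne_one
  have hy1 := hxy.right_ne_one
  have hgxX := h.conj_mem x hxy.left g
  have hgx1 : g * x * g⁻¹ ≠ 1 := by
    intro e
    apply hx1
    have : x = g⁻¹ * (g * x * g⁻¹) * g := by group
    rw [this, e]; group
  have e1 : g * x * g⁻¹ * w = g * (x * w) * g⁻¹ := by
    calc g * x * g⁻¹ * w = g * x * (g⁻¹ * w) := by group
      _ = g * (x * w) * g⁻¹ := by rw [hc g⁻¹]; group
  -- a 2-group containing `x`, `y`, `w`
  obtain ⟨R', hR', hQR', hwR'⟩ := exists_sup h hw hw1 hc (isPGroup_sup h hxy.left hxy.right hxy.comm)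
  have hxR' : x ∈ R' := hQR' (mem_sup_left (mem_zpowers x))
  have hyR' : y ∈ R' := hQR' (mem_sup_right (mem_zpowers y))
  by_cases hxw : x * w ∈ X
  · -- `x ≈ w`
    have h1 : g * x * g⁻¹ * w ∈ X := by rw [e1, h.conj_mem_iff]; exact hxw
    have h2 : y * w ∈ X := h.trans R hR y (hQR hy) _ (hQR hgx) w hwR hxy.right hgxX hw hgx1 (h.symm hmem) h1
    exact hxy.notMem (h.trans R' hR' x hxR' w hwR' y hyR' hxy.left hw hxy.right hw1 hxw (h.symm h2))
  · by_cases hyw : y * w ∈ X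
    · have h1 : g * x * g⁻¹ * w ∈ X :=
        h.trans R hR _ (hQR hgx) y (hQR hy) w hwR hgxX hxy.right hw hy1 hmem hyw
      rw [e1, h.conj_mem_iff] at h1
      exact hxw h1
    · have hxO : x ∈ off X w := ⟨hxy.left, Or.inr hxw⟩
      have hyO : y ∈ off X w := ⟨hxy.right, Or.inr hyw⟩
      have hgxO : g * x * g⁻¹ ∈ off X w := ⟨hgxX, Or.inr (by rw [e1, h.conj_mem_iff]; exact hxw)⟩
      exact hn x y ⟨hxO, hyO, hxy.comm, fun h1 => hxy.notMem h1.1⟩ g hg Q hQ hgx hy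
        (mul_mem_off h hw hw1 hc hQ hgx hy hgxO hyO hmem)

theorem ncard_off [Finite G] (hw2 : orderOf w = 2) : (off X w).ncard < X.ncard := by
  refine Set.ncard_lt_ncard ?_ (Set.toFinite X)
  refine ⟨fun x hx => hx.1, fun hsub => ?_⟩
  rcases (hsub hw).2 with e | e
  · exact hw1 e
  · apply e
    rw [Cfsg.Agent.TwoFusion.ClosedLocal.mul_self hw2]
    exact h.one_mem

end Central

/-! ### `X_w` in `C(w)` -/

section Centralizer

variable {w : G}

/-- the involution `w` as an element of its centraliser -/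
def self (w : G) : centralizer ({w} : Set G) := ⟨w, mem_centralizer_singleton_iff.2 rfl⟩

theorem self_comm (g : centralizer ({w} : Set G)) : g * self w = self w * g :=
  Subtype.ext (mem_centralizer_singleton_iff.1 g.2)

theorem orderOf_self : orderOf (self w) = orderOf w := (Subgroup.orderOf_coe (self w)).symm

variable (h : Multi 𝒜 X) (hw : w ∈ X)
include h hw

/-- `X_w` is rich. -/
theorem rich_off [Finite G] (hR : Rich X) (hw1 : w ≠ 1) :
    Rich (off {x : centralizer ({w} : Set G) | (x : G) ∈ X} (self w)) := by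
  intro x hx ox
  have hm := multi_restrict h (centralizer ({w} : Set G))
  have hwm : self w ∈ {x : centralizer ({w} : Set G) | (x : G) ∈ X} := hw
  have hw1' : self w ≠ 1 := fun e => hw1 (congrArg Subtype.val e)
  have hxw : (x : G) * w = w * x := mem_centralizer_singleton_iff.1 x.2
  have ox' : orderOf (x : G) = 2 := by rw [Subgroup.orderOf_coe]; exact ox
  have hx1 : (x : G) ≠ 1 := Cfsg.Agent.TwoFusion.ClosedLocal.ne_one ox'
  have hxw' : (x : G) * w ∉ X := by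
    rcases hx.2 with e | e
    · exact absurd (congrArg Subtype.val e) hx1
    · exact e
  have hQ := isPGroup_sup h hx.1 hw hxw
  obtain ⟨T, hT⟩ := hQ.exists_le_sylow
  have hxT : (x : G) ∈ (T : Subgroup G) := hT (mem_sup_left (mem_zpowers _))
  have hwT : w ∈ (T : Subgroup G) := hT (mem_sup_right (mem_zpowers _))
  obtain ⟨y, hyX, hyT, oy, hyx, hxy, hxyX⟩ := exists_partner h hR T hx.1 hxT ox'
  have hy1 : y ≠ 1 := Cfsg.Agent.TwoFusion.ClosedLocal.ne_one oy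
  have hyw : y * w ∉ X := fun h1 => hxw' (h.trans T T.2 _ hxT y hyT w hwT hx.1 hyX hw hy1 hxyX h1)
  have hyC : y ∈ centralizer ({w} : Set G) := mem_centralizer_singleton_iff.2 (h.comm T.2 hyT hwT hyX hw hyw)
  have hyO : (⟨y, hyC⟩ : centralizer ({w} : Set G)) ∈ off {x : centralizer ({w} : Set G) | (x : G) ∈ X} (self w) :=
    ⟨hyX, Or.inr hyw⟩
  refine ⟨⟨y, hyC⟩, hyO, ?_, fun e => hyx (congrArg Subtype.val e), Subtype.ext hxy, ?_⟩
  · rw [← Subgroup.orderOf_coe]; exact oy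
  · refine mul_mem_off hm hwm hw1' self_comm (Q := zpowers x ⊔ zpowers ⟨y, hyC⟩) ?_
      (mem_sup_left (mem_zpowers _)) (mem_sup_right (mem_zpowers _)) hx hyO hxyX
    exact isPGroup_sup hm hx.1 hyX (Subtype.ext hxy)

end Centralizer

end Cfsg.Agent.PermParts.Restrict
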