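import Cfsg.Agent.PermParts.Restrict
import Cfsg.Agent.TwoFusion.ClosedCommutator

/-!
# The colouring of a multifamily without swaps

`Sep 𝒜 X r`: `r` is an equivalence relation on `X`, whose classes are fixed by `⟨𝒜⟩` and by `O(G)`, such that the
elements of a part are related, orthogonal elements are not related, and unrelated elements commute modulo `O(G)`.
-/

set_option autoImplicit false
set_option linter.style.haveILetI false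
set_option linter.unusedSectionVars false
set_option linter.dupNamespace false
set_option linter.unusedVariables false

namespace Cfsg.Agent.PermParts.Sep

open Subgroup
open Cfsg.Agent.TwoFusion.ClosedFam Cfsg.Agent.TwoFusion.ClosedSimple
open Cfsg.Agent.PermParts.Basic Cfsg.Agent.PermParts.Parts Cfsg.Agent.PermParts.Restrict

variable {G : Type*} [Group G] {𝒜 X : Set G}

/-- A colouring of `X`. -/
structure Sep (𝒜 X : Set G) (r : G → G → Prop) : Prop where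
  eqv : Equivalence r
  conj : ∀ g x y : G, r x y → r (g * x * g⁻¹) (g * y * g⁻¹)
  fam_conj : ∀ g ∈ fam 𝒜 (⊤ : Subgroup G), ∀ x ∈ X, x ≠ 1 → r (g * x * g⁻¹) x
  core_conj : ∀ g ∈ Cfsg.oddCore G, ∀ x ∈ X, x ≠ 1 → r (g * x * g⁻¹) x
  same : ∀ Q : Subgroup G, IsPGroup 2 Q → ∀ x ∈ Q, ∀ y ∈ Q, x ∈ X → y ∈ X → x ≠ 1 → y ≠ 1 → x * y ∈ X → r x y
  orth : ∀ x y : G, Orth X x y → ¬ r x y
  comm : ∀ x ∈ X, ∀ y ∈ X, x ≠ 1 → y ≠ 1 → ¬ r x y → x * y * x⁻¹ * y⁻¹ ∈ Cfsg.oddCore G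

/-- `⟨𝒜⟩`-conjugation into the same part -/
def Rel (𝒜 X : Set G) (x y : G) : Prop := x = y ∨ (x ∈ X ∧ y ∈ X ∧ x ≠ 1 ∧ y ≠ 1 ∧
  ∃ g ∈ fam 𝒜 (⊤ : Subgroup G), ∃ Q : Subgroup G, IsPGroup 2 Q ∧ g * x * g⁻¹ ∈ Q ∧ y ∈ Q ∧ g * x * g⁻¹ * y ∈ X)

theorem conj_ne_one {x : G} (hx : x ≠ 1) (g : G) : g * x * g⁻¹ ≠ 1 := by
  intro e
  apply hx
  have : x = g⁻¹ * (g * x * g⁻¹) * g := by group
  rw [this, e]; group

theorem isPGroup_map_conj {Q : Subgroup G} (hQ : IsPGroup 2 Q) (g : G) :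
    IsPGroup 2 (Q.map (MulAut.conj g).toMonoidHom) := hQ.map _

theorem conj_mem_map {Q : Subgroup G} {x : G} (hx : x ∈ Q) (g : G) :
    g * x * g⁻¹ ∈ Q.map (MulAut.conj g).toMonoidHom := ⟨x, hx, rfl⟩

section

variable (h : Multi 𝒜 X)
include h

theorem mul_self_mem {x : G} (hx : x ∈ X) : x * x ∈ X := by
  have := (h.pow_mem hx 2).1
  rwa [pow_two] at this

theorem rel_symm {x y : G} (hr : Rel 𝒜 X x y) : Rel 𝒜 X y x := by
  rcases hr with rfl | ⟨hx, hy, hx1, hy1, g, hg, Q, hQ, hgx, hyQ, hm⟩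
  · exact Or.inl rfl
  · refine Or.inr ⟨hy, hx, hy1, hx1, g⁻¹, inv_mem hg, Q.map (MulAut.conj g⁻¹).toMonoidHom,
      isPGroup_map_conj hQ _, conj_mem_map hyQ _, ?_, ?_⟩
    · have := conj_mem_map hgx g⁻¹
      have e : g⁻¹ * (g * x * g⁻¹) * g⁻¹⁻¹ = x := by group
      rwa [e] at this
    · have h1 := h.conj_mem _ (h.symm hm) g⁻¹
      have e : g⁻¹ * (y * (g * x * g⁻¹)) * g⁻¹⁻¹ = g⁻¹ * y * g⁻¹⁻¹ * x := by group
      rwa [e] at h1

theorem rel_of_same {Q : Subgroup G} (hQ : IsPGroup 2 Q) {x y : G} (hx : x ∈ Q) (hy : y ∈ Q) (hxX : x ∈ X)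
    (hyX : y ∈ X) (hx1 : x ≠ 1) (hy1 : y ≠ 1) (hxy : x * y ∈ X) : Rel 𝒜 X x y :=
  Or.inr ⟨hxX, hyX, hx1, hy1, 1, one_mem _, Q, hQ, by simpa using hx, hy, by simpa using hxy⟩

theorem rel_fam_conj {g : G} (hg : g ∈ fam 𝒜 (⊤ : Subgroup G)) {x : G} (hx : x ∈ X) (hx1 : x ≠ 1) :
    Rel 𝒜 X (g * x * g⁻¹) x := by
  refine Or.inr ⟨h.conj_mem x hx g, hx, conj_ne_one hx1 g, hx1, g⁻¹, inv_mem hg, zpowers x,
    h.isPGroup_zpowers hx, ?_, mem_zpowers x, ?_⟩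
  · have e : g⁻¹ * (g * x * g⁻¹) * g⁻¹⁻¹ = x := by group
    rw [e]; exact mem_zpowers x
  · have e : g⁻¹ * (g * x * g⁻¹) * g⁻¹⁻¹ = x := by group
    rw [e]; exact mul_self_mem h hx

theorem rel_conj (g : G) {x y : G} (hr : Rel 𝒜 X x y) : Rel 𝒜 X (g * x * g⁻¹) (g * y * g⁻¹) := by
  rcases hr with rfl | ⟨hx, hy, hx1, hy1, f, hf, Q, hQ, hfx, hyQ, hm⟩
  · exact Or.inl rfl
  · haveI := h.fam.fam_normal (⊤ : Subgroup G)
    have e : g * f * g⁻¹ * (g * x * g⁻¹) * (g * f * g⁻¹)⁻¹ = g * (f * x * f⁻¹) * g⁻¹ := by group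
    refine Or.inr ⟨h.conj_mem x hx g, h.conj_mem y hy g, conj_ne_one hx1 g, conj_ne_one hy1 g, g * f * g⁻¹,
      this.conj_mem f hf g, Q.map (MulAut.conj g).toMonoidHom, isPGroup_map_conj hQ g, ?_, conj_mem_map hyQ g, ?_⟩
    · rw [e]; exact conj_mem_map hfx g
    · rw [e]
      have e2 : g * (f * x * f⁻¹) * g⁻¹ * (g * y * g⁻¹) = g * (f * x * f⁻¹ * y) * g⁻¹ := by group
      rw [e2]; exact h.conj_mem _ hm g

variable (hn : NoSwap 𝒜 X)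
include hn

/-- `⟨𝒜⟩`-conjugate elements of a 2-subgroup lie in one part. -/
theorem same_of_fam_conj {Q : Subgroup G} (hQ : IsPGroup 2 Q) {x g : G} (hg : g ∈ fam 𝒜 (⊤ : Subgroup G))
    (hxX : x ∈ X) (hx : x ∈ Q) (hgx : g * x * g⁻¹ ∈ Q) : x * (g * x * g⁻¹) ∈ X := by
  by_contra hcon
  have ho : Orth X x (g * x * g⁻¹) := h.orth_of_notMem hQ hx hgx hxX (h.conj_mem x hxX g) hcon
  exact hn _ _ ho g hg Q hQ hgx hgx (mul_self_mem h (h.conj_mem x hxX g))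

theorem rel_trans [Finite G] {x y z : G} (h1 : Rel 𝒜 X x y) (h2 : Rel 𝒜 X y z) : Rel 𝒜 X x z := by
  rcases h1 with rfl | ⟨hx, hy, hx1, hy1, g, hg, Q₁, hQ₁, hgx, hyQ₁, hm₁⟩
  · exact h2
  rcases h2 with rfl | ⟨_, hz, _, hz1, g', hg', Q₂, hQ₂, hgy, hzQ₂, hm₂⟩
  · exact Or.inr ⟨hx, hy, hx1, hy1, g, hg, Q₁, hQ₁, hgx, hyQ₁, hm₁⟩
  obtain ⟨T⟩ : Nonempty (Sylow 2 G) := inferInstance
  obtain ⟨a, ha, haQ⟩ := exists_fam_conj_sylow h.fam hQ₂ T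
  obtain ⟨b, hb, hbQ⟩ := exists_fam_conj_sylow h.fam hQ₁ T
  have hgxX := h.conj_mem x hx g
  have hgyX := h.conj_mem y hy g'
  have hx₂ := hbQ _ hgx (h.sub hgxX)
  have hy₂ := hbQ _ hyQ₁ (h.sub hy)
  have hy₁ := haQ _ hgy (h.sub hgyX)
  have hz₁ := haQ _ hzQ₂ (h.sub hz)
  -- the conjugates of `y` are in the same part of `T`
  set y₁ := a * (g' * y * g'⁻¹) * a⁻¹ with hy₁def
  set y₂ := b * y * b⁻¹ with hy₂def
  have hy₁X : y₁ ∈ X := h.conj_mem _ hgyX a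
  have hy₂X : y₂ ∈ X := h.conj_mem _ hy b
  have hy₁1 : y₁ ≠ 1 := conj_ne_one (conj_ne_one hy1 _) _
  have hy₂1 : y₂ ≠ 1 := conj_ne_one hy1 _
  have e1 : b * (a * g')⁻¹ * y₁ * (b * (a * g')⁻¹)⁻¹ = y₂ := by rw [hy₁def, hy₂def]; group
  have h12 : y₁ * y₂ ∈ X := by
    have := same_of_fam_conj h hn T.2 (mul_mem hb (inv_mem (mul_mem ha hg'))) hy₁X hy₁ (by rw [e1]; exact hy₂)
    rwa [e1] at this
  have hxz : b * (g * x * g⁻¹) * b⁻¹ * (a * z * a⁻¹) ∈ X := by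
    have h3 : b * (g * x * g⁻¹) * b⁻¹ * y₂ ∈ X := by
      have := h.conj_mem _ hm₁ b
      have e : b * (g * x * g⁻¹ * y) * b⁻¹ = b * (g * x * g⁻¹) * b⁻¹ * y₂ := by rw [hy₂def]; group
      rwa [e] at this
    have h4 : y₁ * (a * z * a⁻¹) ∈ X := by
      have := h.conj_mem _ hm₂ a
      have e : a * (g' * y * g'⁻¹ * z) * a⁻¹ = y₁ * (a * z * a⁻¹) := by rw [hy₁def]; group
      rwa [e] at this
    have h5 : b * (g * x * g⁻¹) * b⁻¹ * y₁ ∈ X :=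
      h.trans T T.2 _ hx₂ _ hy₂ _ hy₁ (h.conj_mem _ hgxX b) hy₂X hy₁X hy₂1 h3 (h.symm h12)
    exact h.trans T T.2 _ hx₂ _ hy₁ _ hz₁ (h.conj_mem _ hgxX b) hy₁X (h.conj_mem z hz a) hy₁1 h5 h4
  have e2 : a⁻¹ * b * g * x * (a⁻¹ * b * g)⁻¹ = a⁻¹ * (b * (g * x * g⁻¹) * b⁻¹) * a⁻¹⁻¹ := by group
  have e3 : z = a⁻¹ * (a * z * a⁻¹) * a⁻¹⁻¹ := by group
  refine Or.inr ⟨hx, hz, hx1, hz1, a⁻¹ * b * g, mul_mem (mul_mem (inv_mem ha) hb) hg,
    (T : Subgroup G).map (MulAut.conj a⁻¹).toMonoidHom, isPGroup_map_conj T.2 _, ?_, ?_, ?_⟩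
  · rw [e2]; exact conj_mem_map hx₂ _
  · rw [e3]; exact conj_mem_map hz₁ _
  · rw [e2]
    have h6 := h.conj_mem _ hxz a⁻¹
    have e4 : a⁻¹ * (b * (g * x * g⁻¹) * b⁻¹ * (a * z * a⁻¹)) * a⁻¹⁻¹ =
      a⁻¹ * (b * (g * x * g⁻¹) * b⁻¹) * a⁻¹⁻¹ * z := by group
    rwa [e4] at h6

theorem rel_eqv [Finite G] : Equivalence (Rel 𝒜 X) :=
  ⟨fun _ => Or.inl rfl, fun h1 => rel_symm h h1, fun h1 h2 => rel_trans h hn h1 h2⟩

omit hn in
/-- `O(G)` fixes the classes. -/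
theorem rel_core_conj [Finite G] {g : G} (hg : g ∈ Cfsg.oddCore G) {x : G} (hx : x ∈ X) (hx1 : x ≠ 1) :
    Rel 𝒜 X (g * x * g⁻¹) x := by
  haveI hF := h.fam.fam_normal (⊤ : Subgroup G)
  haveI hN : (Cfsg.oddCore G).Normal := Cfsg.Agent.Lib.Cores.pPrimeCore_normal 2
  set K : Subgroup G := Cfsg.oddCore G ⊓ fam 𝒜 (⊤ : Subgroup G) with hK
  haveI hKN : K.Normal := by rw [hK]; infer_instance
  have hKodd : Odd (Nat.card K) := by
    have h1 : (Nat.card (Cfsg.oddCore G)).Coprime 2 := Cfsg.Agent.Lib.Cores.pPrimeCore_coprime 2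
    exact Odd.of_dvd_nat (Nat.coprime_two_right.1 h1) (card_dvd_of_le inf_le_left)
  have hgx := h.conj_mem x hx g
  have h1 : g * x * g⁻¹ * x⁻¹ ∈ K := by
    refine ⟨?_, (fam 𝒜 (⊤ : Subgroup G)).mul_mem (mem_fam (h.sub hgx) (mem_top _))
      ((fam 𝒜 (⊤ : Subgroup G)).inv_mem (mem_fam (h.sub hx) (mem_top _)))⟩
    have e : g * x * g⁻¹ * x⁻¹ = g * (x * g⁻¹ * x⁻¹) := by group
    rw [e]
    exact mul_mem hg (hN.conj_mem _ (inv_mem hg) x)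
  have hn1 : zpowers x ≤ normalizer (K : Set G) := by
    rw [normalizer_eq_top_iff.2 hKN]; exact le_top
  obtain ⟨v, hv, hvx⟩ := Cfsg.Agent.TwoFusion.ClosedLocal.exists_conj_of_le_sup (K := K) (T := zpowers x)
    (R := zpowers (g * x * g⁻¹)) hKodd (h.isPGroup_zpowers hx) hn1 (h.isPGroup_zpowers hgx) (by
      rw [zpowers_le]
      have e : g * x * g⁻¹ = g * x * g⁻¹ * x⁻¹ * x := by group
      rw [e]
      exact mul_mem (mem_sup_left h1) (mem_sup_right (mem_zpowers x)))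
  have h2 := hvx _ (mem_zpowers _)
  obtain ⟨k, hk⟩ := h.fam.two x (h.sub hx)
  have h3 : v * (g * x * g⁻¹) * v⁻¹ * x ∈ X := by
    obtain ⟨n, hn⟩ := mem_zpowers_iff.1 h2
    rw [← hn]
    obtain ⟨m, rfl | rfl⟩ := Int.eq_nat_or_neg n
    · rw [zpow_natCast]; exact (h.pow_mem hx m).2
    · obtain ⟨l, hl⟩ : ∃ l : ℕ, x ^ l = x ^ (-(m : ℤ)) := by
        have h4 : x ^ (-(m : ℤ)) ∈ Submonoid.powers x := by
          exact mem_powers_iff_mem_zpowers.2 (zpow_mem (mem_zpowers x) _)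
        exact h4
      rw [← hl]; exact (h.pow_mem hx l).2
  exact Or.inr ⟨hgx, hx, conj_ne_one hx1 g, hx1, v, hv.2, zpowers x, h.isPGroup_zpowers hx, h2, mem_zpowers x, h3⟩

theorem not_rel_of_orth {x y : G} (hxy : Orth X x y) : ¬ Rel 𝒜 X x y := by
  rintro (rfl | ⟨_, _, _, _, g, hg, Q, hQ, hgx, hy, hm⟩)
  · exact hxy.notMem (mul_self_mem h hxy.left)
  · exact hn x y hxy g hg Q hQ hgx hy hm

/-- the class of `x` as a closed family of `⟨𝒜⟩` -/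
theorem isClosedFam_class [Finite G] (x : G) :
    IsClosedFam {v : fam 𝒜 (⊤ : Subgroup G) | (v : G) = 1 ∨ ((v : G) ∈ X ∧ Rel 𝒜 X (v : G) x)} where
  one_mem := Or.inl rfl
  conj_mem := by
    rintro v (hv | ⟨hvX, hvx⟩) g
    · left
      change (g : G) * v * (g : G)⁻¹ = 1
      rw [hv]; group
    · by_cases hv1 : (v : G) = 1
      · left
        change (g : G) * v * (g : G)⁻¹ = 1
        rw [hv1]; group
      · right
        exact ⟨h.conj_mem _ hvX _, rel_trans h hn (rel_fam_conj h g.2 hvX hv1) hvx⟩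
  two := by
    rintro v (hv | ⟨hvX, -⟩)
    · exact ⟨0, by rw [pow_zero, pow_one]; exact Subtype.ext hv⟩
    · obtain ⟨k, hk⟩ := h.fam.two _ (h.sub hvX)
      exact ⟨k, Subtype.ext hk⟩
  mul_mem := by
    intro Q hQ u hu v hv hu' hv'
    by_cases hu1 : (u : G) = 1
    · have : u = 1 := Subtype.ext hu1
      rw [this, one_mul]; exact hv'
    by_cases hv1 : (v : G) = 1
    · have : v = 1 := Subtype.ext hv1
      rw [this, mul_one]; exact hu'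
    obtain ⟨huX, hux⟩ := hu'.resolve_left hu1
    obtain ⟨hvX, hvx⟩ := hv'.resolve_left hv1
    have hQ' : IsPGroup 2 (Q.map (fam 𝒜 (⊤ : Subgroup G)).subtype) := hQ.map _
    have huQ : (u : G) ∈ Q.map (fam 𝒜 (⊤ : Subgroup G)).subtype := ⟨u, hu, rfl⟩
    have hvQ : (v : G) ∈ Q.map (fam 𝒜 (⊤ : Subgroup G)).subtype := ⟨v, hv, rfl⟩
    have huv : (u : G) * v ∈ X := by
      by_contra hcon
      exact not_rel_of_orth h hn (h.orth_of_notMem hQ' huQ hvQ huX hvX hcon)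
        (rel_trans h hn hux (rel_symm h hvx))
    by_cases h1 : (u : G) * v = 1
    · exact Or.inl h1
    right
    refine ⟨huv, rel_trans h hn ?_ hvx⟩
    have h2 := h.mul_mem hQ' hvQ huQ hvQ hvX hv1 huX hvX huv (mul_self_mem h hvX)
    exact rel_of_same h hQ' (mul_mem huQ hvQ) hvQ huv hvX h1 hv1 h2.2

/-- Unrelated elements commute modulo `O(G)` (Goldschmidt's product theorem). -/
theorem comm_of_not_rel [Finite G] {x y : G} (hx : x ∈ X) (hy : y ∈ X) (hx1 : x ≠ 1) (hy1 : y ≠ 1)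
    (hr : ¬ Rel 𝒜 X x y) : x * y * x⁻¹ * y⁻¹ ∈ Cfsg.oddCore G := by
  have hF := h.fam.fam_normal (⊤ : Subgroup G)
  have hxF : x ∈ fam 𝒜 (⊤ : Subgroup G) := mem_fam (h.sub hx) (mem_top x)
  have hyF : y ∈ fam 𝒜 (⊤ : Subgroup G) := mem_fam (h.sub hy) (mem_top y)
  have hp : Pair {v : fam 𝒜 (⊤ : Subgroup G) | (v : G) = 1 ∨ ((v : G) ∈ X ∧ Rel 𝒜 X (v : G) x)}
      {v : fam 𝒜 (⊤ : Subgroup G) | (v : G) = 1 ∨ ((v : G) ∈ X ∧ Rel 𝒜 X (v : G) y)} := by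
    refine ⟨isClosedFam_class h hn x, isClosedFam_class h hn y, ?_⟩
    rintro v (hv | ⟨_, hvx⟩) hv'
    · exact Subtype.ext hv
    · rcases hv' with hv' | ⟨_, hvy⟩
      · exact Subtype.ext hv'
      · exact absurd (rel_trans h hn (rel_symm h hvx) hvy) hr
  have h1 := Cfsg.Agent.TwoFusion.ClosedCommutator.fam_commutator_le hp
  have h2 := h1 (commutator_mem_commutator
    (mem_fam (x := (⟨x, hxF⟩ : fam 𝒜 (⊤ : Subgroup G))) (Or.inr ⟨hx, Or.inl rfl⟩) (mem_top _))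
    (mem_fam (x := (⟨y, hyF⟩ : fam 𝒜 (⊤ : Subgroup G))) (Or.inr ⟨hy, Or.inl rfl⟩) (mem_top _)))
  have h3 : x * y * x⁻¹ * y⁻¹ ∈ (Cfsg.oddCore (fam 𝒜 (⊤ : Subgroup G))).map (fam 𝒜 (⊤ : Subgroup G)).subtype :=
    ⟨_, h2, rfl⟩
  rw [Cfsg.Agent.Lib.Cores.map_subtype_pPrimeCore 2 hF] at h3
  exact h3.2

theorem sep_rel [Finite G] : Sep 𝒜 X (Rel 𝒜 X) where
  eqv := rel_eqv h hn
  conj g _ _ hr := rel_conj h g hr
  fam_conj _ hg _ hx hx1 := rel_fam_conj h hg hx hx1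
  core_conj _ hg _ hx hx1 := rel_core_conj h hg hx hx1
  same _ hQ _ hx _ hy hxX hyX hx1 hy1 hxy := rel_of_same h hQ hx hy hxX hyX hx1 hy1 hxy
  orth _ _ hxy := not_rel_of_orth h hn hxy
  comm _ hx _ hy hx1 hy1 hr := comm_of_not_rel h hn hx hy hx1 hy1 hr

end

/-! ### The colouring at `w` -/

/-- From a colouring in `C(w)` to `SepAt`. -/
theorem sepAt_of_sep {w : G} {r : centralizer ({w} : Set G) → centralizer ({w} : Set G) → Prop}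
    (hr : Sep {x : centralizer ({w} : Set G) | (x : G) ∈ 𝒜} {x : centralizer ({w} : Set G) | (x : G) ∈ X} r) :
    SepAt 𝒜 X w (fun x y => x = y ∨ ∃ (hx : x ∈ centralizer ({w} : Set G)) (hy : y ∈ centralizer ({w} : Set G)),
      r ⟨x, hx⟩ ⟨y, hy⟩) := by
  have hmem : ∀ {x : G}, x * w = w * x → x ∈ centralizer ({w} : Set G) := fun hx =>
    mem_centralizer_singleton_iff.2 hx
  refine ⟨⟨fun _ => Or.inl rfl, ?_, ?_⟩, ?_, ?_, ?_, ?_, ?_, ?_⟩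
  · rintro x y (rfl | ⟨hx, hy, hxy⟩)
    · exact Or.inl rfl
    · exact Or.inr ⟨hy, hx, hr.eqv.symm hxy⟩
  · rintro x y z (rfl | ⟨hx, hy, hxy⟩) h2
    · exact h2
    · rcases h2 with rfl | ⟨_, hz, hyz⟩
      · exact Or.inr ⟨hx, hy, hxy⟩
      · exact Or.inr ⟨hx, hz, hr.eqv.trans hxy hyz⟩
  · rintro g hg x y (rfl | ⟨hx, hy, hxy⟩)
    · exact Or.inl rfl
    · have hg' := hmem hg
      refine Or.inr ⟨mul_mem (mul_mem hg' hx) (inv_mem hg'), mul_mem (mul_mem hg' hy) (inv_mem hg'), ?_⟩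
      exact hr.conj ⟨g, hg'⟩ _ _ hxy
  · intro g hg x hx hxw hx1
    rw [← map_fam_restrict_top] at hg
    obtain ⟨g', hg', rfl⟩ := hg
    have hx' := hmem hxw
    refine Or.inr ⟨mul_mem (mul_mem g'.2 hx') (inv_mem g'.2), hx', ?_⟩
    exact hr.fam_conj g' hg' ⟨x, hx'⟩ hx (fun e => hx1 (congrArg Subtype.val e))
  · rintro _ ⟨g', hg', rfl⟩ x hx hxw hx1
    have hx' := hmem hxw
    refine Or.inr ⟨mul_mem (mul_mem g'.2 hx') (inv_mem g'.2), hx', ?_⟩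
    exact hr.core_conj g' hg' ⟨x, hx'⟩ hx (fun e => hx1 (congrArg Subtype.val e))
  · intro Q hQ x hxQ y hyQ hx hy hxw hyw hx1 hy1 hxy
    refine Or.inr ⟨hmem hxw, hmem hyw, ?_⟩
    exact hr.same (Q.subgroupOf _) (hQ.comap_of_injective _ (Subgroup.subtype_injective _)) _ hxQ _ hyQ hx hy
      (fun e => hx1 (congrArg Subtype.val e)) (fun e => hy1 (congrArg Subtype.val e)) hxy
  · rintro x y hxy hxw hyw (rfl | ⟨hx, hy, h1⟩)
    · exact hr.orth ⟨x, hmem hxw⟩ ⟨x, hmem hxw⟩ (orth_restrict_iff.2 hxy) (hr.eqv.refl _)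
    · exact hr.orth _ _ (orth_restrict_iff.2 hxy) h1
  · intro x hx y hy hxw hyw hx1 hy1 hn
    have h1 := hr.comm ⟨x, hmem hxw⟩ hx ⟨y, hmem hyw⟩ hy (fun e => hx1 (congrArg Subtype.val e))
      (fun e => hy1 (congrArg Subtype.val e)) (fun h1 => hn (Or.inr ⟨hmem hxw, hmem hyw, h1⟩))
    exact ⟨_, h1, rfl⟩

/-- The colouring at `w` from `NoSwap` for `X_w` in `C(w)`. -/
theorem exists_sepAt [Finite G] (h : Multi 𝒜 X) {w : G} (hw : w ∈ X) (hw1 : w ≠ 1)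
    (hn : NoSwap {x : centralizer ({w} : Set G) | (x : G) ∈ 𝒜}
      (off {x : centralizer ({w} : Set G) | (x : G) ∈ X} (self w))) : ∃ r, SepAt 𝒜 X w r := by
  have hm := multi_restrict h (centralizer ({w} : Set G))
  have h1 : NoSwap {x : centralizer ({w} : Set G) | (x : G) ∈ 𝒜} {x : centralizer ({w} : Set G) | (x : G) ∈ X} :=
    noSwap_off hm (w := self w) hw (fun e => hw1 (congrArg Subtype.val e)) self_comm hn
  exact ⟨_, sepAt_of_sep (sep_rel hm h1)⟩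

end Cfsg.Agent.PermParts.Sep
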