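import Cfsg.Agent.PermParts.OfProd

/-!
# Multifamilies in simple groups

`GPP X`: if `x ⊥ y` are involutions of `X` and `z ∈ X` is an involution, then `z ⊥ x` or `z ⊥ y`.
In a simple group `GPP X` implies that there are no orthogonal elements: there is only one part.
-/

set_option autoImplicit false

namespace Cfsg.Agent.PermParts.Simple

open Subgroup
open Cfsg.Agent.TwoFusion.ClosedFam
open Cfsg.Agent.PermParts.Basic Cfsg.Agent.PermParts.OfProd

variable {G : Type*} [Group G]

/-- being non-orthogonal is transitive on the involutions of `X` -/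
def GPP (X : Set G) : Prop := ∀ x y z : G, Orth X x y → orderOf x = 2 → orderOf y = 2 → z ∈ X → orderOf z = 2 →
  Orth X z x ∨ Orth X z y

/-- an involution in the cyclic group generated by `x ∈ X`, in the part of `x`. -/
theorem exists_involution {𝒜 X : Set G} (h : Multi 𝒜 X) {x : G} (hx : x ∈ X) (hx1 : x ≠ 1) :
    ∃ n : ℕ, x ^ n ∈ X ∧ x * x ^ n ∈ X ∧ orderOf (x ^ n) = 2 := by
  obtain ⟨k, hk⟩ := h.fam.two x (h.sub hx)
  obtain ⟨m, hm, hm2⟩ : ∃ m, x ^ 2 ^ m ≠ 1 ∧ x ^ 2 ^ (m + 1) = 1 := by
    have h0 : ∃ k, x ^ 2 ^ k = 1 := ⟨k, hk⟩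
    classical
    have hpos : Nat.find h0 ≠ 0 := by
      intro e
      have := Nat.find_spec h0
      rw [e, pow_zero, pow_one] at this
      exact hx1 this
    refine ⟨Nat.find h0 - 1, Nat.find_min h0 (by omega), ?_⟩
    rw [Nat.sub_add_cancel (by omega)]
    exact Nat.find_spec h0
  refine ⟨2 ^ m, (h.pow_mem hx _).1, h.symm (h.pow_mem hx _).2, ?_⟩
  refine orderOf_eq_prime ?_ hm
  rw [← pow_mul, ← pow_succ]; exact hm2

/-- from orthogonal elements to orthogonal involutions -/
theorem exists_orth_involutions {𝒜 X : Set G} (h : Multi 𝒜 X) {x y : G} (hxy : Orth X x y) :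
    ∃ u v : G, Orth X u v ∧ orderOf u = 2 ∧ orderOf v = 2 := by
  obtain ⟨n, hn, hn', hn2⟩ := exists_involution h hxy.left hxy.left_ne_one
  obtain ⟨m, hm, hm', hm2⟩ := exists_involution h hxy.right hxy.right_ne_one
  have hQ : IsPGroup 2 (zpowers x ⊔ zpowers y : Subgroup G) := by
    refine isPGroup_sup_zpowers (h.isPGroup_zpowers hxy.left) (h.isPGroup_zpowers hxy.right) ?_
    intro q hq
    obtain ⟨l, rfl⟩ := mem_zpowers_iff.1 hq
    have : Commute y x := hxy.comm.symm
    exact (this.zpow_right l).eq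
  have hxQ : x ∈ (zpowers x ⊔ zpowers y : Subgroup G) := mem_sup_left (mem_zpowers x)
  have hyQ : y ∈ (zpowers x ⊔ zpowers y : Subgroup G) := mem_sup_right (mem_zpowers y)
  have h1 : Orth X (x ^ n) y := h.orth_of_same hQ hxQ (pow_mem hxQ n) hyQ hn
    (fun e => by rw [e, orderOf_one] at hn2; omega) hn' hxy
  have h2 : Orth X (y ^ m) (x ^ n) := h.orth_of_same hQ hyQ (pow_mem hyQ m) (pow_mem hxQ n) hm
    (fun e => by rw [e, orderOf_one] at hm2; omega) hm' h1.symm
  exact ⟨x ^ n, y ^ m, h2.symm, hn2, hm2⟩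

/-- In a simple group with `GPP X` there are no orthogonal elements. -/
theorem not_orth_of_isSimpleGroup [IsSimpleGroup G] {𝒜 X : Set G} (h : Multi 𝒜 X) (hG : GPP X) {x y : G} :
    ¬ Orth X x y := by
  intro hxy0
  obtain ⟨x, y, hxy, hx2, hy2⟩ := exists_orth_involutions h hxy0
  clear hxy0
  set L : Set G := {z | z ∈ X ∧ orderOf z = 2 ∧ ¬ Orth X z x} with hL
  have hord : ∀ z g : G, orderOf (g * z * g⁻¹) = orderOf z := fun z g => by
    have := orderOf_injective (MulAut.conj g).toMonoidHom (MulAut.conj g).injective z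
    simpa using this
  have hLO : ∀ u ∈ L, ∀ v ∈ X, orderOf v = 2 → Orth X v x → Orth X u v := by
    rintro u ⟨hu, hu2, hux⟩ v hv hv2 hvx
    rcases hG v x u hvx hv2 hx2 hu hu2 with h1 | h1
    · exact h1
    · exact absurd h1 hux
  have hxL : x ∈ L := ⟨hxy.left, hx2, fun ho => ho.notMem (by
    have := h.normal _ (h.isPGroup_zpowers hxy.left) x (mem_zpowers x) 1 (one_mem _) h.fam.one_mem hxy.left
    simpa using this)⟩
  -- the involutions of `X` generate `G`
  have hDtop : closure {z : G | z ∈ X ∧ orderOf z = 2} = ⊤ := by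
    have hn : (closure {z : G | z ∈ X ∧ orderOf z = 2}).Normal := by
      refine ⟨fun a ha g => ?_⟩
      have h1 : closure {z : G | z ∈ X ∧ orderOf z = 2} ≤
          (closure {z : G | z ∈ X ∧ orderOf z = 2}).comap (MulAut.conj g).toMonoidHom := by
        rw [closure_le]
        rintro z ⟨hz, hz2⟩
        exact subset_closure ⟨h.conj_mem z hz g, by rw [← hz2]; exact hord z g⟩
      exact h1 ha
    rcases hn.eq_bot_or_eq_top with h1 | h1
    · exfalso
      have : x ∈ closure {z : G | z ∈ X ∧ orderOf z = 2} := subset_closure ⟨hxy.left, hx2⟩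
      rw [h1, mem_bot] at this
      exact hxy.left_ne_one this
    · exact h1
  -- `closure L` is normal
  have hLn : (closure L).Normal := by
    rw [← normalizer_eq_top_iff, eq_top_iff, ← hDtop, closure_le]
    rintro v ⟨hv, hv2⟩
    by_cases hvx : Orth X v x
    · refine (centralizer_le_normalizer (closure L : Set G)) ?_
      rw [centralizer_closure]
      rw [mem_centralizer_iff]
      intro u hu
      exact (hLO u hu v hv hv2 hvx).comm
    · exact le_normalizer (subset_closure ⟨hv, hv2, hvx⟩)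
  have hLtop : closure L = ⊤ := by
    rcases hLn.eq_bot_or_eq_top with h1 | h1
    · exfalso
      have : x ∈ closure L := subset_closure hxL
      rw [h1, mem_bot] at this
      exact hxy.left_ne_one this
    · exact h1
  -- `y` is central
  have hyc : ∀ g : G, g * y = y * g := by
    have h1 : y ∈ centralizer (closure L : Set G) := by
      rw [centralizer_closure, mem_centralizer_iff]
      intro u hu
      exact (hLO u hu y hxy.right hy2 hxy.symm).comm
    rw [hLtop] at h1
    intro g
    exact mem_centralizer_iff.1 h1 g (mem_top g)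
  have hyn : (zpowers y).Normal := by
    refine ⟨fun a ha g => ?_⟩
    obtain ⟨n, rfl⟩ := mem_zpowers_iff.1 ha
    have : g * y ^ n * g⁻¹ = y ^ n := by
      have hc : Commute g y := hyc g
      rw [(hc.zpow_right n).eq]; group
    rw [this]; exact zpow_mem (mem_zpowers y) n
  rcases hyn.eq_bot_or_eq_top with h1 | h1
  · exact hxy.right_ne_one (zpowers_eq_bot.1 h1)
  · have hx : x ∈ zpowers y := by rw [h1]; exact mem_top x
    obtain ⟨n, rfl⟩ := mem_zpowers_iff.1 hx
    apply hxy.notMem
    have hyy : y * y = 1 := by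
      have := pow_orderOf_eq_one y
      rwa [hy2, pow_two] at this
    obtain ⟨k, hk | hk⟩ := Int.even_or_odd' n
    · rw [hk, zpow_mul, zpow_ofNat, pow_two, hyy, one_zpow, one_mul]; exact hxy.right
    · rw [hk, zpow_add, zpow_mul, zpow_ofNat, pow_two, hyy, one_zpow, one_mul, zpow_one, hyy]; exact h.one_mem

/-- In a simple group with `GPP` at most one factor is non-trivial. -/
theorem eq_of_isSimpleGroup [Finite G] [IsSimpleGroup G] {ι : Type*} {𝒜 : Set G} {S : Sylow 2 G}
    {P : ι → Subgroup G} (h : Data 𝒜 S P) (hG : GPP (unionConj P)) {i j : ι} (hi : P i ≠ ⊥) (hj : P j ≠ ⊥) :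
    i = j := by
  haveI : Nonempty ι := ⟨i⟩
  by_contra hij
  have hex : ∀ k, P k ≠ ⊥ → ∃ x ∈ P k, x ≠ 1 := fun k hk => by
    obtain ⟨⟨a, ha⟩, ha1⟩ := ne_bot_iff_exists_ne_one.1 hk
    exact ⟨a, ha, fun e => ha1 (Subtype.ext e)⟩
  obtain ⟨x, hx, hx1⟩ := hex i hi
  obtain ⟨y, hy, hy1⟩ := hex j hj
  refine not_orth_of_isSimpleGroup h.multi hG (h.multi.orth_of_notMem S.2 (h.le i _ hx).2 (h.le j _ hy).2
    (mem_unionConj hx) (mem_unionConj hy) (h.notMem_of_ne hij hx hy hx1 hy1))

end Cfsg.Agent.PermParts.Simple
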